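import Groth.Agent.Lib.DCpl.RHom
import Groth.Agent.Lib.TorsBC27.Hom
import Groth.Agent.Lib.CplRlim27.Cech

/-! Derived completion is `RHom` out of the extended Čech complex. -/

set_option autoImplicit false
set_option linter.unusedSectionVars false
set_option linter.style.haveILetI false
set_option backward.isDefEq.respectTransparency false

universe u

open CategoryTheory CategoryTheory.Limits CategoryTheory.Pretriangulated MonoidalCategory

attribute [local instance] HasDerivedCategory.standard

namespace Groth.Agent.DCpl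

open Groth.Agent.KFlat Groth.Agent.KFlat.HomAdj Groth.Agent.TorsBC27

variable {A : Type u} [CommRing A] (f : A)

theorem finv_of_termwise (E : DRing.Cx A) (hE : ∀ p, Function.Bijective fun x : E.X p => f • x) :
    ∀ i, FInv (Dual.HD A (DRing.toD E) i) f := by
  haveI : ∀ p, IsIso ((f • 𝟙 E : E ⟶ E).f p) := fun p =>
    (ConcreteCategory.isIso_iff_bijective _).2 (hE p)
  haveI : IsIso (f • 𝟙 E : E ⟶ E) := HomologicalComplex.Hom.isIso_of_components _
  exact (quasiIso_smul_iff f E).1 inferInstance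

/-- Dropping one localisation does not change maps into complete objects. -/
theorem bijective_fst_comp {K E : DRing.Cx A} (φ : K ⟶ E) (hE : ∀ i, Function.Bijective fun x : E.X i => f • x)
    (D : Dual.D A) (hD : DCD D f) :
    Function.Bijective fun t : DerivedCategory.Q.obj K ⟶ D =>
      DerivedCategory.Q.map (CochainComplex.mappingCocone.fst φ) ≫ t := by
  have hT := DerivedCategory.mappingCocone_triangle_distinguished φ
  set T := DerivedCategory.Q.mapTriangle.obj (CochainComplex.mappingCocone.triangle φ)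
  haveI h₀ : Subsingleton (DerivedCategory.Q.obj E ⟶ D) :=
    subsingleton_hom_of_finv f E (finv_of_termwise f E hE) D hD
  haveI h₁ : Subsingleton (DerivedCategory.Q.obj (E⟦(-1 : ℤ)⟧) ⟶ D) :=
    subsingleton_hom_of_finv f _ (finv_of_termwise f _ fun i => hE (i + -1)) D hD
  haveI : Subsingleton ((shiftFunctor (CochainComplex (ModuleCat.{u} A) ℤ) (-1 : ℤ) ⋙ DerivedCategory.Q).obj E ⟶ D) := h₁
  haveI : Subsingleton ((DerivedCategory.Q.obj E)⟦(-1 : ℤ)⟧ ⟶ D) :=
    (Iso.homCongr (((DerivedCategory.Q (C := ModuleCat.{u} A)).commShiftIso (-1 : ℤ)).app E).symm (Iso.refl D)).subsingleton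
  refine ⟨fun a b hab => sub_eq_zero.1 ?_, fun t => ?_⟩
  · obtain ⟨r, hr⟩ := Triangle.yoneda_exact₂ T hT (a - b)
      (show DerivedCategory.Q.map (CochainComplex.mappingCocone.fst φ) ≫ (a - b) = 0 by
        rw [Preadditive.comp_sub, sub_eq_zero]; exact hab)
    rw [hr, show r = 0 from @Subsingleton.elim (DerivedCategory.Q.obj E ⟶ D) h₀ _ _]
    exact comp_zero
  · have hzero : T.invRotate.mor₁ ≫ t = 0 :=
      @Subsingleton.elim ((DerivedCategory.Q.obj E)⟦(-1 : ℤ)⟧ ⟶ D) inferInstance _ _
    obtain ⟨r, hr⟩ := Triangle.yoneda_exact₂ T.invRotate (inv_rot_of_distTriang _ hT) t hzero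
    exact ⟨r, hr.symm⟩

/-- The augmentation of the extended Čech complex is invisible to complete objects. -/
theorem bijective_pC_comp : ∀ (fs : List A) (D : Dual.D A), (∀ g ∈ fs, DCD D g) →
    Function.Bijective fun t : DerivedCategory.Q.obj
      ((HomologicalComplex.single (ModuleCat.{u} A) (ComplexShape.up ℤ) 0).obj (ModuleCat.of A A)) ⟶ D =>
        DerivedCategory.Q.map (CplRlim27.pC (ModuleCat.of A A) fs) ≫ t
  | [], D, _ => by
    have : ∀ t : DerivedCategory.Q.obj ((HomologicalComplex.single (ModuleCat.{u} A) (ComplexShape.up ℤ) 0).obj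
        (ModuleCat.of A A)) ⟶ D, DerivedCategory.Q.map (CplRlim27.pC (ModuleCat.of A A) []) ≫ t = t := fun t =>
      (congrArg (· ≫ t) (DerivedCategory.Q.map_id _)).trans (Category.id_comp t)
    exact ⟨fun a b h => (this a).symm.trans (h.trans (this b)), fun t => ⟨t, this t⟩⟩
  | g :: fs, D, hD => by
    have h := (bijective_fst_comp g (DerCA.locCxUnit (Submonoid.powers g) (DerCA.extCech (ModuleCat.of A A) fs))
      (fun i => by simpa using ExtCechLib.g_bijective g (DerCA.extCech (ModuleCat.of A A) fs) i 1) D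
        (hD g List.mem_cons_self)).comp (bijective_pC_comp fs D fun a ha => hD a (List.mem_cons_of_mem g ha))
    refine (congrArg Function.Bijective (funext fun t => ?_)).mp h
    exact ((congrArg (· ≫ t) (DerivedCategory.Q.map_comp _ _)).trans (Category.assoc _ _ _)).symm

theorem subsingleton_hom_gTors {C X : DRing.Cx A} (hC : GTors f C)
    (hX : ∀ i, FInv (Dual.HD A (DRing.toD X) i) f) :
    Subsingleton (DerivedCategory.Q.obj C ⟶ DerivedCategory.Q.obj X) := by
  obtain ⟨E, ⟨e⟩⟩ := exists_restrict_iso f X hX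
  have : (DerivedCategory.Q : DRing.Cx (Localization.Away f) ⥤ _).EssSurj :=
    Localization.essSurj _ (HomologicalComplex.quasiIso (ModuleCat.{u} (Localization.Away f)) (ComplexShape.up ℤ))
  let E₀ := (DerivedCategory.Q : DRing.Cx (Localization.Away f) ⥤ _).objPreimage E
  let F := ModuleCat.restrictScalars.{u} (algebraMap A (Localization.Away f))
  let e' : DerivedCategory.Q.obj X ≅ DerivedCategory.Q.obj ((F.mapHomologicalComplex (ComplexShape.up ℤ)).obj E₀) :=
    e ≪≫ (DRing.restrictD (algebraMap A (Localization.Away f))).mapIso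
      ((DerivedCategory.Q : DRing.Cx (Localization.Away f) ⥤ _).objObjPreimageIso E).symm ≪≫
        F.mapDerivedCategoryFactors.app E₀
  have hE : ∀ i, Function.Bijective fun x : (((F.mapHomologicalComplex (ComplexShape.up ℤ)).obj E₀)).X i => f • x :=
    fun i => by
      have hu : IsUnit (algebraMap A (Localization.Away f) f) := IsLocalization.Away.algebraMap_isUnit f
      exact (Module.End.isUnit_iff _).1 (hu.map (algebraMap (Localization.Away f)
        (Module.End (Localization.Away f) (E₀.X i))))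
  exact ⟨fun a b => (cancel_mono e'.hom).1
    (sub_eq_zero.1 ((Preadditive.sub_comp a b e'.hom).symm.trans
      (TorsBC27.hom_eq_zero hC hE ((a - b) ≫ e'.hom))) )⟩

variable [DTen.HasLTen A]

/-- A completion map is invisible to torsion objects, also after `Hom•(T, -)`. -/
theorem exists_cpl_gTors (s : List A) (C : DRing.Cx A) (hC : ∀ g ∈ s, GTors g C) : ∀ K : Dual.D A,
    ∃ (K' : Dual.D A) (η : K ⟶ K'), IsCpl {g | g ∈ s} η ∧ (∀ g, DCD K g → DCD K' g) ∧
      ∀ (T : DRing.Cx A) [T.IsKProjective], Function.Bijective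
        fun t : DerivedCategory.Q.obj C ⟶ (HomD.Gd T).obj K => t ≫ (HomD.Gd T).map η := by
  induction s with
  | nil =>
    intro K
    refine ⟨K, 𝟙 K, ⟨fun g hg => absurd hg (by simp), fun E _ =>
      ⟨fun a b h => by simpa using h, fun t => ⟨t, Category.id_comp t⟩⟩⟩, fun g h => h, fun T _ => ?_⟩
    exact ⟨fun a b h => by simpa using h, fun t => ⟨t, by simp⟩⟩
  | cons g t ih =>
    intro K
    obtain ⟨K₁, η, h₁, hp, h₂⟩ := ih (fun a ha => hC a (List.mem_cons_of_mem g ha)) K
    have : (DerivedCategory.Q : DRing.Cx A ⥤ Dual.D A).EssSurj :=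
      Localization.essSurj _ (HomologicalComplex.quasiIso (ModuleCat.{u} A) (ComplexShape.up ℤ))
    let L := (DerivedCategory.Q : DRing.Cx A ⥤ Dual.D A).objPreimage K₁
    let e : DRing.toD L ≅ K₁ := (DerivedCategory.Q : DRing.Cx A ⥤ Dual.D A).objObjPreimageIso K₁
    have hpres : ∀ x, DCD K₁ x → DCD (DRing.toD (complCx g L)) x := fun x hx =>
      dc_complCx_of_dc g L x (hx.of_iso e.symm)
    have hs : {x | x ∈ g :: t} = {x | x ∈ t} ∪ {g} := by ext x; simp [or_comm]
    have b₁ := (isCpl_single g L).of_isIso e.symm (Iso.refl _)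
    refine ⟨DRing.toD (complCx g L), η ≫ e.inv ≫ DerivedCategory.Q.map (complη g L), hs ▸ ?_,
      fun x hx => hpres x (hp x hx), fun T _ => ?_⟩
    · simpa using h₁.comp b₁ fun x hx => hpres x (h₁.1 x hx)
    let G := DRing.homCxFunctor T
    have hS : ((complSC g L).map G).ShortExact := by
      refine (HomD.splitPres_homCx T).shortExact _ fun i => ?_
      have h := (complSC_shortExact g L).map_of_exact (HomologicalComplex.eval (ModuleCat.{u} A) (ComplexShape.up ℤ) i)
      haveI := h.epi_g
      let r : (complCx g L).X i ⟶ L.X i := ModuleCat.ofHom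
        ((LinearMap.proj 0).comp ((LinearMap.snd A _ _).comp (coneEquiv (seqMap (phiN g) L) i).toLinearMap))
      exact ⟨ShortComplex.Splitting.ofExactOfRetraction _ h.exact r (ModuleCat.hom_ext (LinearMap.ext fun x =>
        (congrFun (congrArg Prod.snd (coneEquiv_η g L i x)) 0))) inferInstance⟩
    have hT := DerivedCategory.triangleOfSES_distinguished hS
    let N := DRing.homCx T (teleCx g L)
    have hN : ∀ i, FInv (Dual.HD A (DRing.toD N) i) g := finv_homCx g T _ (finv_teleCx g L)
    haveI hN₀ : Subsingleton (DerivedCategory.Q.obj C ⟶ DerivedCategory.Q.obj N) :=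
      subsingleton_hom_gTors g (hC g List.mem_cons_self) hN
    haveI hN₁ : Subsingleton (DerivedCategory.Q.obj C ⟶ DerivedCategory.Q.obj (N⟦(-1 : ℤ)⟧)) :=
      subsingleton_hom_gTors g (hC g List.mem_cons_self) fun i =>
        (hN (i + -1)).of_linearEquiv
          ((((DMod.HH i).mapIso (((DerivedCategory.Q (C := ModuleCat.{u} A)).commShiftIso (-1 : ℤ)).app N)) ≪≫
            ((DerivedCategory.homologyFunctor (ModuleCat.{u} A) 0).shiftIso (-1 : ℤ) i (i + -1) (by omega)).app _).toLinearEquiv.symm)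
    have key : Function.Bijective fun t : DerivedCategory.Q.obj C ⟶ DerivedCategory.Q.obj (DRing.homCx T L) =>
        t ≫ DerivedCategory.Q.map (G.map (complη g L)) := by
      refine ⟨fun a b hab => sub_eq_zero.1 ?_, fun x => ?_⟩
      · obtain ⟨r, hr⟩ := Triangle.coyoneda_exact₂ _ (inv_rot_of_distTriang _ hT) (a - b)
          (show (a - b) ≫ DerivedCategory.Q.map (G.map (complη g L)) = 0 by
            rw [Preadditive.sub_comp, sub_eq_zero]; exact hab)
        let i₁ := (((DerivedCategory.Q (C := ModuleCat.{u} A)).commShiftIso (-1 : ℤ)).app N).symm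
        have hr0 : r = 0 := (cancel_mono i₁.hom).1 (@Subsingleton.elim _ hN₁ _ _)
        rw [hr, hr0]
        exact zero_comp
      · obtain ⟨r, hr⟩ := Triangle.coyoneda_exact₂ _ hT x
          (@Subsingleton.elim (DerivedCategory.Q.obj C ⟶ DerivedCategory.Q.obj N) hN₀ _ _)
        exact ⟨r, hr.symm⟩
    let γ := HomD.gdIso T
    have hnat : (HomD.Gd T).map (η ≫ e.inv ≫ DerivedCategory.Q.map (complη g L)) =
        (HomD.Gd T).map η ≫ ((HomD.Gd T).map e.inv ≫ γ.inv.app L) ≫
          DerivedCategory.Q.map (G.map (complη g L)) ≫ γ.hom.app (complCx g L) := by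
      rw [Functor.map_comp, Functor.map_comp]
      congr 1
      rw [Category.assoc]
      congr 1
      exact ((congrArg (γ.inv.app L ≫ ·) (γ.hom.naturality (complη g L))).trans
        (γ.inv_hom_id_app_assoc L _)).symm
    rw [hnat]
    have c₁ : Function.Bijective fun x : DerivedCategory.Q.obj C ⟶ (HomD.Gd T).obj K₁ =>
        x ≫ (HomD.Gd T).map e.inv ≫ γ.inv.app L :=
      (Iso.homCongr (Iso.refl _) ((HomD.Gd T).mapIso e.symm ≪≫ (γ.app L).symm)).bijective |> fun h => by
        convert h using 1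
        funext x
        simp [Iso.homCongr]
    have c₂ : Function.Bijective fun x : DerivedCategory.Q.obj C ⟶ DerivedCategory.Q.obj (DRing.homCx T (complCx g L)) =>
        x ≫ γ.hom.app (complCx g L) :=
      ⟨fun a b h => (cancel_mono (γ.hom.app (complCx g L))).1 h, fun x => ⟨x ≫ γ.inv.app (complCx g L), by simp⟩⟩
    refine (congrArg Function.Bijective (funext fun x => ?_)).mp (c₂.comp (key.comp (c₁.comp (h₂ T))))
    simp [Category.assoc]

/-- Transposing a map `Q T ⊗ Q C ⟶ X`. -/
noncomputable def swapEquiv [DTen.HasRHom A] (T C : DRing.Cx A) [T.IsKProjective] (X : Dual.D A) :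
    (DerivedCategory.Q.obj T ⟶ (DTen.RHomR A (DerivedCategory.Q.obj C)).obj X) ≃
      (DerivedCategory.Q.obj C ⟶ (HomD.Gd T).obj X) :=
  haveI := DT.isIso_ε_left (L := C) (HomD.isKFlat T)
  ((DTen.rhomAdj A (DerivedCategory.Q.obj C)).homEquiv _ _).symm.trans
    ((Iso.homCongr (asIso ((DTen.ε A).app (T, C)) ≪≫ DerivedCategory.Q.mapIso (DTen.braidCx T C) ≪≫
      (HomD.fdIso T).app C) (Iso.refl X)).trans ((HomD.adjD T).homEquiv _ _))

theorem swapEquiv_natural [DTen.HasRHom A] (T C : DRing.Cx A) [T.IsKProjective] {X Y : Dual.D A} (a : X ⟶ Y)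
    (t : DerivedCategory.Q.obj T ⟶ (DTen.RHomR A (DerivedCategory.Q.obj C)).obj X) :
    swapEquiv T C Y (t ≫ (DTen.RHomR A (DerivedCategory.Q.obj C)).map a) = swapEquiv T C X t ≫ (HomD.Gd T).map a := by
  simp only [swapEquiv, Equiv.trans_apply, Iso.homCongr, Equiv.coe_fn_mk, Iso.refl_hom, Category.comp_id]
  refine Eq.trans ?_ ((HomD.adjD T).homEquiv_naturality_right _ a)
  refine congrArg _ ?_
  refine (congrArg (_ ≫ ·) ((DTen.rhomAdj A _).homEquiv_naturality_right_symm t a)).trans ?_
  exact (Category.assoc _ _ _).symm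

/-- Derived completion is `RHom` out of the extended Čech complex. -/
theorem nonempty_cpl_iso_rhom [DTen.HasRHom A] (fs : List A) (K : Dual.D A) :
    ∃ (K' : Dual.D A) (η : K ⟶ K'), IsCpl {g | g ∈ fs} η ∧
      Nonempty (K' ≅ (DTen.RHomR A (DerivedCategory.Q.obj (DerCA.extCech (ModuleCat.of A A) fs))).obj K) := by
  let M := ModuleCat.of A A
  let C := DerCA.extCech M fs
  obtain ⟨K', η, hη, -, hb⟩ := exists_cpl_gTors fs C (gTors_extCech M fs) K
  refine ⟨K', η, hη, ?_⟩
  let R := DTen.RHomR A (DerivedCategory.Q.obj C)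
  have h₁ : IsIso (R.map η) := by
    rw [isIso_iff_yoneda_map_bijective]
    intro T₀
    obtain ⟨T, hT, ⟨eT⟩⟩ := HomD.exists_rep T₀
    haveI := hT
    have h : Function.Bijective fun t : DerivedCategory.Q.obj T ⟶ R.obj K => t ≫ R.map η := by
      have : (fun t : DerivedCategory.Q.obj T ⟶ R.obj K => t ≫ R.map η) =
          (swapEquiv T C K').symm ∘ (fun t => t ≫ (HomD.Gd T).map η) ∘ swapEquiv T C K := funext fun t => by
        simp only [Function.comp_apply]
        rw [← swapEquiv_natural, Equiv.symm_apply_apply]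
      rw [this]
      exact (swapEquiv T C K').symm.bijective.comp ((hb T).comp (swapEquiv T C K).bijective)
    refine ⟨fun a b hab => (cancel_epi eT.hom).1 (h.1 ?_), fun t => ?_⟩
    · simpa using congrArg (eT.hom ≫ ·) hab
    · obtain ⟨x, hx⟩ := h.2 (eT.hom ≫ t)
      exact ⟨eT.inv ≫ x, by simp [show x ≫ R.map η = eT.hom ≫ t from hx]⟩
  let p : DerivedCategory.Q.obj C ⟶ DTen.unit A := DerivedCategory.Q.map (CplRlim27.pC M fs)
  let u : DTen.tensorRightD A (DerivedCategory.Q.obj C) ⟶ 𝟭 (Dual.D A) :=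
    (DTen.LTen A).flip.map p ≫ DTen.unitR A
  let v : K' ⟶ R.obj K' := (DTen.rhomAdj A (DerivedCategory.Q.obj C)).homEquiv _ _ (u.app K')
  have h₂ : IsIso v := by
    rw [isIso_iff_yoneda_map_bijective]
    intro T₀
    obtain ⟨T, hT, ⟨eT⟩⟩ := HomD.exists_rep T₀
    haveI := hT
    haveI := DT.isIso_ε_left (L := C) (HomD.isKFlat T)
    have hpre : Function.Bijective fun t : DerivedCategory.Q.obj T ⟶ K' =>
        DerivedCategory.Q.map (T ◁ CplRlim27.pC M fs ≫ (ρ_ T).hom) ≫ t := by
      let A₀ : DRing.Cx A := 𝟙_ (DRing.Cx A)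
      have hD := bijective_pC_comp fs ((HomD.Gd T).obj K') fun g hg => dcd_gd g T (hη.1 g hg)
      let E₀ := (Iso.homCongr ((HomD.fdIso T).app A₀) (Iso.refl K')).trans ((HomD.adjD T).homEquiv _ _)
      let E₁ := (Iso.homCongr ((HomD.fdIso T).app C) (Iso.refl K')).trans ((HomD.adjD T).homEquiv _ _)
      have hw : Function.Bijective fun t : DerivedCategory.Q.obj (A₀ ⊗ T : DRing.Cx A) ⟶ K' =>
          DerivedCategory.Q.map (CplRlim27.pC M fs ▷ T) ≫ t := by
        have : (fun t : DerivedCategory.Q.obj (A₀ ⊗ T : DRing.Cx A) ⟶ K' =>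
            DerivedCategory.Q.map (CplRlim27.pC M fs ▷ T) ≫ t) =
            E₁.symm ∘ (fun t => DerivedCategory.Q.map (CplRlim27.pC M fs) ≫ t) ∘ E₀ := funext fun t => by
          simp only [Function.comp_apply]
          refine (Equiv.eq_symm_apply _).2 ?_
          simp only [E₀, E₁, Equiv.trans_apply, Iso.homCongr, Equiv.coe_fn_mk, Iso.refl_hom, Category.comp_id]
          refine Eq.trans (congrArg _ ?_)
            ((HomD.adjD T).homEquiv_naturality_left (DerivedCategory.Q.map (CplRlim27.pC M fs)) _)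
          exact ((reassoc_of% ((HomD.fdIso T).inv.naturality (CplRlim27.pC M fs))) t).symm
        rw [this]
        exact E₁.symm.bijective.comp (hD.comp E₀.bijective)
      let β₀ := DerivedCategory.Q.mapIso ((DTen.braidCx T A₀) ≪≫ (asIso ((DTen.braidCx T A₀).inv ≫ (ρ_ T).hom)))
      let βC := DerivedCategory.Q.mapIso (DTen.braidCx T C)
      let β₁ : DerivedCategory.Q.obj (A₀ ⊗ T : DRing.Cx A) ≅ DerivedCategory.Q.obj T :=
        DerivedCategory.Q.mapIso ((DTen.braidCx T A₀).symm ≪≫ ρ_ T)
      have : (fun t : DerivedCategory.Q.obj T ⟶ K' =>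
          DerivedCategory.Q.map (T ◁ CplRlim27.pC M fs ≫ (ρ_ T).hom) ≫ t) =
          (fun t => βC.hom ≫ t) ∘ (fun t => DerivedCategory.Q.map (CplRlim27.pC M fs ▷ T) ≫ t) ∘
            fun t => β₁.hom ≫ t := funext fun t => by
        simp only [Function.comp_apply, βC, β₁, Functor.mapIso_hom, Iso.trans_hom, Iso.symm_hom, ← Category.assoc,
          ← Functor.map_comp]
        congr 2
        have hb : (DTen.braidCx T C).hom ≫ CplRlim27.pC M fs ▷ T =
            T ◁ CplRlim27.pC M fs ≫ (DTen.braidCx T A₀).hom := by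
          refine HomologicalComplex.hom_ext _ _ fun n => tn_ext fun p q hpq x y => ?_
          simp only [HomologicalComplex.comp_f, ModuleCat.comp_apply]
          rw [tn_braid, tn_whiskerLeft]
          refine Eq.trans ?_ (tn_braid (K := T) (L := A₀) p q n hpq x _).symm
          refine (map_zsmul_unit _ _ _).trans ?_
          rw [tn_whiskerRight]
        rw [hb]
        simp
      rw [this]
      exact (show Function.Bijective _ from by
        have h₀' : Function.Bijective fun t : DerivedCategory.Q.obj (C ⊗ T : DRing.Cx A) ⟶ K' => βC.hom ≫ t :=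
          ⟨fun a b h => (cancel_epi βC.hom).1 h, fun t => ⟨βC.inv ≫ t, by simp⟩⟩
        have h₁' : Function.Bijective fun t : DerivedCategory.Q.obj T ⟶ K' => β₁.hom ≫ t :=
          ⟨fun a b h => (cancel_epi β₁.hom).1 h, fun t => ⟨β₁.inv ≫ t, by simp⟩⟩
        exact h₀'.comp (hw.comp h₁'))
    have h : Function.Bijective fun t : DerivedCategory.Q.obj T ⟶ K' => t ≫ v := by
      let F₁ := (Iso.homCongr (asIso ((DTen.ε A).app (T, C))).symm (Iso.refl K')).trans
        ((DTen.rhomAdj A (DerivedCategory.Q.obj C)).homEquiv _ _)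
      have : (fun t : DerivedCategory.Q.obj T ⟶ K' => t ≫ v) =
          F₁ ∘ fun t => DerivedCategory.Q.map (T ◁ CplRlim27.pC M fs ≫ (ρ_ T).hom) ≫ t := funext fun t => by
        simp only [Function.comp_apply, F₁, Equiv.trans_apply, Iso.homCongr, Equiv.coe_fn_mk, Iso.symm_inv,
          Iso.refl_hom, Category.comp_id, asIso_hom, v]
        rw [← Adjunction.homEquiv_naturality_left]
        congr 1
        refine (u.naturality t).trans ?_
        rw [Functor.id_map, ← Category.assoc]
        congr 1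
        simp only [u, p, NatTrans.comp_app, DTen.unitR_app, Functor.map_comp]
        exact ((reassoc_of% ((DTen.εLeft A T).naturality (CplRlim27.pC M fs))) _)
      rw [this]
      exact F₁.bijective.comp hpre
    refine ⟨fun a b hab => (cancel_epi eT.hom).1 (h.1 ?_), fun t => ?_⟩
    · simpa using congrArg (eT.hom ≫ ·) hab
    · obtain ⟨x, hx⟩ := h.2 (eT.hom ≫ t)
      exact ⟨eT.inv ≫ x, by simp [show x ≫ v = eT.hom ≫ t from hx]⟩
  exact ⟨asIso v ≪≫ (asIso (R.map η)).symm⟩

end Groth.Agent.DCpl
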