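import Groth.Agent.Lib.DCpl.Completion
import Groth.Agent.Lib.KFlat.HomIter
import Mathlib.Algebra.Homology.ShortComplex.Linear
import Mathlib.Algebra.Homology.Linear

/-! Derived completion commutes with `RHom(K, -)`. -/

set_option autoImplicit false
set_option linter.unusedSectionVars false
set_option linter.style.haveILetI false
set_option backward.isDefEq.respectTransparency false

universe u

open CategoryTheory CategoryTheory.Limits CategoryTheory.Pretriangulated MonoidalCategory

attribute [local instance] HasDerivedCategory.standard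

namespace Groth.Agent.DCpl

open Groth.Agent.KFlat Groth.Agent.KFlat.HomAdj

variable {A : Type u} [CommRing A] (f : A)

theorem isIso_smul_iff_finv (M : ModuleCat.{u} A) : IsIso (f • 𝟙 M) ↔ FInv M f :=
  Iff.trans (ConcreteCategory.isIso_iff_bijective _) Iff.rfl

theorem quasiIso_smul_iff (T : DRing.Cx A) :
    QuasiIso (f • 𝟙 T) ↔ ∀ i, FInv (Dual.HD A (DRing.toD T) i) f := by
  rw [quasiIso_iff]
  refine forall_congr' fun i => ?_
  rw [quasiIsoAt_iff_isIso_homologyMap]
  have h : HomologicalComplex.homologyMap (f • 𝟙 T) i = f • 𝟙 (T.homology i) := by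
    change ShortComplex.homologyMap ((HomologicalComplex.shortComplexFunctor (ModuleCat.{u} A) (ComplexShape.up ℤ) i).map (f • 𝟙 T)) = _
    rw [show (HomologicalComplex.shortComplexFunctor (ModuleCat.{u} A) (ComplexShape.up ℤ) i).map (f • 𝟙 T) =
      f • 𝟙 (T.sc i) from rfl, ShortComplex.homologyMap_smul, ShortComplex.homologyMap_id]
    rfl
  rw [h, isIso_smul_iff_finv]
  exact ⟨fun hf => hf.of_linearEquiv ((DerivedCategory.homologyFunctorFactors (ModuleCat.{u} A) i).app T).toLinearEquiv.symm,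
    fun hf => hf.of_linearEquiv ((DerivedCategory.homologyFunctorFactors (ModuleCat.{u} A) i).app T).toLinearEquiv⟩

variable (P : DRing.Cx A) [P.IsKProjective]

theorem homCxMap_smul (T : DRing.Cx A) :
    (DRing.homCxFunctor P).map (f • 𝟙 T) = f • 𝟙 (DRing.homCx P T) := by
  refine HomologicalComplex.hom_ext _ _ fun i => ?_
  ext z
  refine CochainComplex.HomComplex.Cochain.ext (F := P) (G := T) _ _ fun p q hpq => ?_
  change (CochainComplex.HomComplex.Cochain.comp (KFlat.HomAdj.coc z) (CochainComplex.HomComplex.Cochain.ofHom (f • 𝟙 T)) (add_zero i)).v p q hpq =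
    (f • KFlat.HomAdj.coc z).v p q hpq
  rw [CochainComplex.HomComplex.Cochain.comp_zero_cochain_v, CochainComplex.HomComplex.Cochain.ofHom_v,
    CochainComplex.HomComplex.Cochain.smul_v, HomologicalComplex.smul_f_apply, HomologicalComplex.id_f,
    Linear.comp_smul, Category.comp_id]

/-- `Hom•(P, -)` preserves cohomological invertibility of `f`. -/
theorem finv_homCx (T : DRing.Cx A) (h : ∀ i, FInv (Dual.HD A (DRing.toD T) i) f) :
    ∀ i, FInv (Dual.HD A (DRing.toD (DRing.homCx P T)) i) f := by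
  rw [← quasiIso_smul_iff] at h ⊢
  rw [← homCxMap_smul]
  exact HomD.quasiIso_homCx_map P (f • 𝟙 T)

theorem quasiIso_smul_tensor (Z : DRing.Cx A) (h : ∀ p, Function.Bijective fun x : Z.X p => f • x) :
    QuasiIso (f • 𝟙 (Z ⊗ P : DRing.Cx A)) := by
  haveI : ∀ p, IsIso ((f • 𝟙 Z : Z ⟶ Z).f p) := fun p =>
    (ConcreteCategory.isIso_iff_bijective _).2 (h p)
  haveI : IsIso (f • 𝟙 Z : Z ⟶ Z) := HomologicalComplex.Hom.isIso_of_components _
  have e : (f • 𝟙 Z : Z ⟶ Z) ▷ P = f • 𝟙 (Z ⊗ P : DRing.Cx A) := by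
    refine HomologicalComplex.hom_ext _ _ fun n => tn_ext fun p q hpq x y => ?_
    rw [tn_whiskerRight]
    exact tn_smul_left p q n hpq f x y
  rw [← e]
  infer_instance

variable [DTen.HasLTen A]

/-- `Hom•(P, -)` preserves derived completeness. -/
theorem dcd_gd {X : Dual.D A} (hX : DCD X f) : DCD ((HomD.Gd P).obj X) f := by
  refine (forall_subsingleton_hom_iff f _).1 fun n => ?_
  let S := (HomologicalComplex.single (ModuleCat.{u} A) (ComplexShape.up ℤ) 0).obj (ModuleCat.of A (Localization.Away f))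
  let Z : DRing.Cx A := S⟦-n⟧
  have hS : ∀ p, Function.Bijective fun x : S.X p => f • x := fun p => by
    by_cases hp : p = 0
    · subst hp
      exact FInv.of_linearEquiv (f := f) (M := Localization.Away f)
        ((Module.End.isUnit_iff _).1 (IsLocalizedModule.map_units (Algebra.linearMap A (Localization.Away f))
          (⟨f, Submonoid.mem_powers f⟩ : Submonoid.powers f)))
        (HomologicalComplex.singleObjXSelf (ComplexShape.up ℤ) 0 (ModuleCat.of A (Localization.Away f))).toLinearEquiv.symm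
    · haveI := ModuleCat.subsingleton_of_isZero
        (HomologicalComplex.isZero_single_obj_X (ComplexShape.up ℤ) 0 (ModuleCat.of A (Localization.Away f)) p hp)
      exact ⟨fun _ _ _ => Subsingleton.elim _ _, fun y => ⟨y, Subsingleton.elim _ _⟩⟩
  have hZ : ∀ p, Function.Bijective fun x : Z.X p => f • x := fun p => hS (p + -n)
  haveI : Subsingleton (DerivedCategory.Q.obj (Z ⊗ P : DRing.Cx A) ⟶ X) :=
    subsingleton_hom_of_finv f _ ((quasiIso_smul_iff f _).1 (quasiIso_smul_tensor f P Z hZ)) X hX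
  haveI : Subsingleton ((tensorRight P ⋙ DerivedCategory.Q).obj Z ⟶ X) := this
  haveI : Subsingleton ((DTen.tensorRightD A (DerivedCategory.Q.obj P)).obj (DerivedCategory.Q.obj Z) ⟶ X) :=
    (Iso.homCongr ((HomD.fdIso P).app Z).symm (Iso.refl X)).subsingleton
  haveI : Subsingleton (DerivedCategory.Q.obj Z ⟶ (HomD.Gd P).obj X) :=
    ((HomD.adjD P).homEquiv _ _).symm.subsingleton
  let eZ : DerivedCategory.Q.obj Z ≅ (Dual.inD A (Localization.Away f))⟦-n⟧ :=
    ((DerivedCategory.Q (C := ModuleCat.{u} A)).commShiftIso (-n)).app S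
  haveI : Subsingleton ((Dual.inD A (Localization.Away f))⟦-n⟧ ⟶ (HomD.Gd P).obj X) :=
    (Iso.homCongr eZ.symm (Iso.refl _)).subsingleton
  have hinj : Function.Injective (fun g : Dual.inD A (Localization.Away f) ⟶ ((HomD.Gd P).obj X)⟦n⟧ =>
      g⟦-n⟧' ≫ (shiftFunctorCompIsoId (Dual.D A) n (-n) (add_neg_cancel n)).hom.app ((HomD.Gd P).obj X)) :=
    fun g g' h => (shiftFunctor (Dual.D A) (-n)).map_injective ((cancel_mono _).1 h)
  haveI : Subsingleton ((shiftFunctor (Dual.D A) (-n)).obj (Dual.inD A (Localization.Away f)) ⟶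
      (𝟭 (Dual.D A)).obj ((HomD.Gd P).obj X)) := ‹Subsingleton (_ ⟶ (HomD.Gd P).obj X)›
  exact hinj.subsingleton

theorem IsCpl.comp {s t : Set A} {K C C' : Dual.D A} {a : K ⟶ C} {b : C ⟶ C'} (ha : IsCpl s a) (hb : IsCpl t b)
    (hC' : ∀ g ∈ s, DCD C' g) : IsCpl (s ∪ t) (a ≫ b) :=
  ⟨fun g hg => hg.elim (hC' g) (hb.1 g), fun E hE => by
    have : (fun x : C' ⟶ E => (a ≫ b) ≫ x) = (fun x : C ⟶ E => a ≫ x) ∘ fun x => b ≫ x :=
      funext fun x => Category.assoc _ _ _
    rw [this]
    exact (ha.2 E fun g hg => hE g (Or.inl hg)).comp (hb.2 E fun g hg => hE g (Or.inr hg))⟩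

theorem IsCpl.of_isIso {s : Set A} {K K' C C' : Dual.D A} {a : K ⟶ C} (ha : IsCpl s a) (u : K' ≅ K) (v : C ≅ C') :
    IsCpl s (u.hom ≫ a ≫ v.hom) := by
  refine ⟨fun g hg => (ha.1 g hg).of_iso v, fun E hE => ?_⟩
  have : (fun x : C' ⟶ E => (u.hom ≫ a ≫ v.hom) ≫ x) =
      (fun y : K ⟶ E => u.hom ≫ y) ∘ (fun x : C ⟶ E => a ≫ x) ∘ fun x => v.hom ≫ x :=
    funext fun x => by simp
  rw [this]
  exact (((Iso.homCongr u.symm (Iso.refl E))).bijective.comp ((ha.2 E hE).comp
    (Iso.homCongr v.symm (Iso.refl E)).bijective) |> fun h => by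
      convert h using 1
      funext x
      simp [Iso.homCongr])

theorem isCpl_single_gd (L : DRing.Cx A) :
    IsCpl {f} ((HomD.Gd P).map (DerivedCategory.Q.map (complη f L))) := by
  let G := DRing.homCxFunctor P
  have hS : ((complSC f L).map G).ShortExact := by
    refine (HomD.splitPres_homCx P).shortExact _ fun i => ?_
    have h := (complSC_shortExact f L).map_of_exact (HomologicalComplex.eval (ModuleCat.{u} A) (ComplexShape.up ℤ) i)
    haveI := h.epi_g
    let r : (complCx f L).X i ⟶ L.X i := ModuleCat.ofHom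
      ((LinearMap.proj 0).comp ((LinearMap.snd A _ _).comp (coneEquiv (seqMap (phiN f) L) i).toLinearMap))
    exact ⟨ShortComplex.Splitting.ofExactOfRetraction _ h.exact r (ModuleCat.hom_ext (LinearMap.ext fun x =>
      (congrFun (congrArg Prod.snd (coneEquiv_η f L i x)) 0))) inferInstance⟩
  have hT := DerivedCategory.triangleOfSES_distinguished hS
  have key : IsCpl {f} (DerivedCategory.Q.map (G.map (complη f L))) := by
    refine ⟨fun g hg => ?_, fun E hE => ?_⟩
    · rw [Set.mem_singleton_iff.1 hg]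
      exact (dcd_gd f P (X := DRing.toD (complCx f L)) (dc_complCx f L)).of_iso
        ((HomD.gdIso P).app (complCx f L)).symm
    · have hE' : DCD E f := hE f rfl
      let T := DRing.toD (DRing.homCx P (teleCx f L))
      have hN : ∀ n : ℤ, Subsingleton (T ⟶ E⟦n⟧) := fun n =>
        subsingleton_hom_of_finv f _ (finv_homCx f P _ (finv_teleCx f L)) _ (hE'.shift n)
      refine ⟨fun a b hab => sub_eq_zero.1 ?_, fun t => ?_⟩
      · obtain ⟨r, hr⟩ := Triangle.yoneda_exact₂ _ hT (a - b) (by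
          change DerivedCategory.Q.map (G.map (complη f L)) ≫ (a - b) = 0
          rw [Preadditive.comp_sub]; exact sub_eq_zero.2 hab)
        have : Subsingleton (T ⟶ E) :=
          have := hN 0
          (Iso.homCongr (Iso.refl T) ((shiftFunctorZero (Dual.D A) ℤ).app E)).symm.subsingleton
        rw [hr, show r = 0 from @Subsingleton.elim (T ⟶ E) this _ _]
        exact comp_zero
      · have h0 : (DerivedCategory.triangleOfSES hS).mor₃ ≫ t⟦(1 : ℤ)⟧' = 0 :=
          @Subsingleton.elim (T ⟶ E⟦(1 : ℤ)⟧) (hN 1) _ _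
        obtain ⟨r, hr⟩ := Triangle.yoneda_exact₃ _ (rot_of_distTriang _ hT) (t⟦(1 : ℤ)⟧') h0
        obtain ⟨r', hr'⟩ := (shiftFunctor (Dual.D A) (1 : ℤ)).map_surjective
          (X := DRing.toD (DRing.homCx P (complCx f L))) r
        refine ⟨-r', (shiftFunctor (Dual.D A) (1 : ℤ)).map_injective ?_⟩
        let a : DRing.toD (DRing.homCx P L) ⟶ DRing.toD (DRing.homCx P (complCx f L)) :=
          DerivedCategory.Q.map (G.map (complη f L))
        have e : (-a⟦(1 : ℤ)⟧') ≫ r'⟦(1 : ℤ)⟧' = t⟦(1 : ℤ)⟧' :=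
          ((congrArg ((-a⟦(1 : ℤ)⟧') ≫ ·) hr').trans hr.symm :)
        change (shiftFunctor (Dual.D A) (1 : ℤ)).map (a ≫ (-r')) = _
        rw [Functor.map_comp, Functor.map_neg, Preadditive.comp_neg, ← Preadditive.neg_comp]
        exact e
  have h := key.of_isIso ((HomD.gdIso P).app L).symm ((HomD.gdIso P).app (complCx f L))
  refine (congrArg (fun x => IsCpl {f} x) ?_).mp h
  change (HomD.gdIso P).inv.app L ≫ DerivedCategory.Q.map (G.map (complη f L)) ≫ (HomD.gdIso P).hom.app _ = _
  exact ((congrArg ((HomD.gdIso P).inv.app L ≫ ·) ((HomD.gdIso P).hom.naturality (complη f L))).trans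
    ((HomD.gdIso P).inv_hom_id_app_assoc L _))

/-- Completion at finitely many elements, compatibly with `Hom•(P, -)`. -/
theorem exists_cpl_gd (s : List A) : ∀ K : Dual.D A, ∃ (C : Dual.D A) (η : K ⟶ C),
    IsCpl {g | g ∈ s} η ∧ IsCpl {g | g ∈ s} ((HomD.Gd P).map η) ∧ ∀ g, DCD K g → DCD C g := by
  induction s with
  | nil =>
    intro K
    have triv : ∀ Z : Dual.D A, IsCpl {g | g ∈ ([] : List A)} (𝟙 Z) := fun Z =>
      ⟨fun g hg => absurd hg (by simp), fun E _ => ⟨fun a b h => by simpa using h, fun t => ⟨t, Category.id_comp t⟩⟩⟩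
    exact ⟨K, 𝟙 K, triv K, by simpa using triv ((HomD.Gd P).obj K), fun g h => h⟩
  | cons g t ih =>
    intro K
    obtain ⟨C, η, h₁, h₂, hp⟩ := ih K
    have : (DerivedCategory.Q : DRing.Cx A ⥤ Dual.D A).EssSurj :=
      Localization.essSurj _ (HomologicalComplex.quasiIso (ModuleCat.{u} A) (ComplexShape.up ℤ))
    let L := (DerivedCategory.Q : DRing.Cx A ⥤ Dual.D A).objPreimage C
    let e : DRing.toD L ≅ C := (DerivedCategory.Q : DRing.Cx A ⥤ Dual.D A).objObjPreimageIso C
    have hpres : ∀ x, DCD C x → DCD (DRing.toD (complCx g L)) x := fun x hx =>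
      dc_complCx_of_dc g L x (hx.of_iso e.symm)
    have hs : {x | x ∈ g :: t} = {x | x ∈ t} ∪ {g} := by ext x; simp [or_comm]
    have b₁ := (isCpl_single g L).of_isIso e.symm (Iso.refl _)
    have b₂ := (isCpl_single_gd g P L).of_isIso ((HomD.Gd P).mapIso e.symm) (Iso.refl _)
    refine ⟨DRing.toD (complCx g L), η ≫ e.inv ≫ DerivedCategory.Q.map (complη g L) ≫ 𝟙 _, hs ▸ ?_, hs ▸ ?_,
      fun x hx => hpres x (hp x hx)⟩
    · exact h₁.comp b₁ fun x hx => hpres x (h₁.1 x hx)
    · simpa using h₂.comp b₂ fun x hx => dcd_gd x P (hpres x (h₁.1 x hx))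

end Groth.Agent.DCpl
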