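import Groth.Agent.Lib.DCpl.Completion

/-!
Completions of the third object of a triangle; amplitude of completions.
-/

set_option autoImplicit false
set_option linter.unusedSectionVars false

universe u

open CategoryTheory CategoryTheory.Limits CategoryTheory.Pretriangulated

attribute [local instance] HasDerivedCategory.standard

namespace Groth.Agent.DCpl

variable {A : Type u} [CommRing A]

theorem DCD.triangle₃ {T : Triangle (Dual.D A)} (hT : T ∈ distTriang (Dual.D A)) {f : A}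
    (h₁ : DCD T.obj₁ f) (h₂ : DCD T.obj₂ f) : DCD T.obj₃ f := fun i => by
  have E2 := (ShortComplex.ShortExact.moduleCat_exact_iff_function_exact _).1
    (DerivedCategory.HomologySequence.exact₂ _ hT i)
  have E3 := (ShortComplex.ShortExact.moduleCat_exact_iff_function_exact _).1
    (DerivedCategory.HomologySequence.exact₃ _ hT i (i + 1) rfl)
  have E1 := (ShortComplex.ShortExact.moduleCat_exact_iff_function_exact _).1
    (DerivedCategory.HomologySequence.exact₁ _ hT i (i + 1) rfl)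
  exact middle_of_exact (fun M _ _ => DC M f) (fun e h => h.of_linearEquiv e)
    (fun S a b => DC.extension S a b)
    ((DMod.HH i).map T.mor₁).hom ((DMod.HH i).map T.mor₂).hom
    (DerivedCategory.HomologySequence.δ T i (i + 1) rfl).hom ((DMod.HH (i + 1)).map T.mor₁).hom
    E2 E3 E1 ((h₁ i).quotient_range (h₂ i) _) ((h₁ (i + 1)).ker (h₂ (i + 1)) _)

theorem IsCpl.shift_bijective {s : Set A} {K C : Dual.D A} {η : K ⟶ C} (h : IsCpl s η) (E : Dual.D A)
    (hE : ∀ f ∈ s, DCD E f) :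
    Function.Bijective fun t : C⟦(1 : ℤ)⟧ ⟶ E => η⟦(1 : ℤ)⟧' ≫ t := by
  let c := (shiftFunctorCompIsoId (Dual.D A) (-1 : ℤ) 1 (by omega)).app E
  have hb := h.2 (E⟦(-1 : ℤ)⟧) fun f hf => (hE f hf).shift (-1)
  refine ⟨fun a b hab => ?_, fun t => ?_⟩
  · obtain ⟨a', ha⟩ := (shiftFunctor (Dual.D A) (1 : ℤ)).map_surjective (X := C) (Y := E⟦(-1 : ℤ)⟧) (a ≫ c.inv)
    obtain ⟨b', hb'⟩ := (shiftFunctor (Dual.D A) (1 : ℤ)).map_surjective (X := C) (Y := E⟦(-1 : ℤ)⟧) (b ≫ c.inv)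
    have : a' = b' := hb.1 ((shiftFunctor (Dual.D A) (1 : ℤ)).map_injective (by
      dsimp only
      rw [Functor.map_comp, Functor.map_comp, ha, hb']
      exact ((Category.assoc _ _ _).symm.trans (congrArg (· ≫ c.inv) hab)).trans (Category.assoc _ _ _)))
    rw [← cancel_mono c.inv, ← ha, ← hb', this]
  · obtain ⟨t', ht⟩ := (shiftFunctor (Dual.D A) (1 : ℤ)).map_surjective (X := K) (Y := E⟦(-1 : ℤ)⟧) (t ≫ c.inv)
    obtain ⟨s', hs'⟩ := hb.2 t'
    refine ⟨(shiftFunctor (Dual.D A) (1 : ℤ)).map s' ≫ c.hom, ?_⟩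
    have hs : η ≫ s' = t' := hs'
    change η⟦(1 : ℤ)⟧' ≫ _ = t
    rw [← Category.assoc, ← Functor.map_comp, hs, ht, Category.assoc, Iso.inv_hom_id, Category.comp_id]

theorem isCpl_triangle₃ {s : Set A} {T T' : Triangle (Dual.D A)} (hT : T ∈ distTriang (Dual.D A))
    (hT' : T' ∈ distTriang (Dual.D A)) (φ : T ⟶ T') (h₁ : IsCpl s φ.hom₁) (h₂ : IsCpl s φ.hom₂) :
    IsCpl s φ.hom₃ := by
  refine ⟨fun f hf => DCD.triangle₃ hT' (h₁.1 f hf) (h₂.1 f hf), fun E hE => ?_⟩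
  have b₁ := h₁.2 E hE
  have b₂ := h₂.2 E hE
  have s₁ := h₁.shift_bijective E hE
  have s₂ := h₂.shift_bijective E hE
  have c₁ := φ.comm₁
  have c₂ := φ.comm₂
  have c₃ := φ.comm₃
  refine ⟨fun a b hab => sub_eq_zero.1 ?_, fun z => ?_⟩
  · set w := a - b
    have hw : φ.hom₃ ≫ w = 0 := by
      rw [Preadditive.comp_sub, sub_eq_zero]; exact hab
    have h0 : T'.mor₂ ≫ w = 0 := b₂.1 (by
      change φ.hom₂ ≫ T'.mor₂ ≫ w = φ.hom₂ ≫ 0
      rw [← Category.assoc, ← c₂, Category.assoc, hw, comp_zero, comp_zero])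
    obtain ⟨v, hv⟩ := Triangle.yoneda_exact₃ _ hT' w h0
    have h3 : T.mor₃ ≫ φ.hom₁⟦(1 : ℤ)⟧' ≫ v = 0 := by
      rw [← Category.assoc, c₃, Category.assoc, ← hv, hw]
    obtain ⟨u, hu⟩ := Triangle.yoneda_exact₃ _ (rot_of_distTriang _ hT) (φ.hom₁⟦(1 : ℤ)⟧' ≫ v) h3
    obtain ⟨u', hu'⟩ := s₂.2 u
    have hu2 : φ.hom₂⟦(1 : ℤ)⟧' ≫ u' = u := hu'
    have hv2 : v = -(T'.mor₁⟦(1 : ℤ)⟧' ≫ u') := s₁.1 (by
      change φ.hom₁⟦(1 : ℤ)⟧' ≫ v = φ.hom₁⟦(1 : ℤ)⟧' ≫ (-(T'.mor₁⟦(1 : ℤ)⟧' ≫ u'))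
      rw [Preadditive.comp_neg, ← Category.assoc, ← Functor.map_comp, ← c₁, Functor.map_comp,
        Category.assoc, hu2]
      exact hu.trans (Preadditive.neg_comp _ _))
    rw [hv, hv2, Preadditive.comp_neg, ← Category.assoc, comp_distTriang_mor_zero₃₁ _ hT', zero_comp,
      neg_zero]
  · obtain ⟨l, hl⟩ := b₂.2 (T.mor₂ ≫ z)
    have hl' : φ.hom₂ ≫ l = T.mor₂ ≫ z := hl
    have h0 : T'.mor₁ ≫ l = 0 := b₁.1 (by
      change φ.hom₁ ≫ T'.mor₁ ≫ l = φ.hom₁ ≫ 0
      rw [← Category.assoc, ← c₁, Category.assoc, hl', ← Category.assoc,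
        comp_distTriang_mor_zero₁₂ _ hT, zero_comp, comp_zero])
    obtain ⟨w, rfl⟩ := Triangle.yoneda_exact₂ _ hT' l h0
    have h2 : T.mor₂ ≫ (z - φ.hom₃ ≫ w) = 0 := by
      rw [Preadditive.comp_sub, ← Category.assoc T.mor₂, c₂, Category.assoc, ← hl', sub_self]
    obtain ⟨v, hv⟩ := Triangle.yoneda_exact₃ _ hT (z - φ.hom₃ ≫ w) h2
    obtain ⟨v', hv'⟩ := s₁.2 v
    have hv2 : φ.hom₁⟦(1 : ℤ)⟧' ≫ v' = v := hv'
    refine ⟨w + T'.mor₃ ≫ v', ?_⟩
    change φ.hom₃ ≫ _ = z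
    rw [Preadditive.comp_add, ← Category.assoc φ.hom₃ T'.mor₃, ← c₃, Category.assoc, hv2, ← hv]
    abel

variable (I : Ideal A) [DRing.HasDerivedCompletion I]

theorem isCpl_unit (s : Set A) (hs : Ideal.span s = I) (K : Dual.D A) :
    IsCpl s (DRing.toDerivedCompletion I K) := by
  let adj := DRing.derivedCompletionAdj I
  refine ⟨(isDerivedComplete_iff_span I s hs _).1 ((DRing.derivedCompletion I).obj K).property,
    fun E hE => ?_⟩
  let Y : DRing.DComp I := ⟨E, (isDerivedComplete_iff_span I s hs E).2 hE⟩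
  refine ⟨fun a b hab => ?_, fun t => ?_⟩
  · have : adj.homEquiv K Y (ObjectProperty.homMk a) = adj.homEquiv K Y (ObjectProperty.homMk b) := by
      rw [adj.homEquiv_unit, adj.homEquiv_unit]; exact hab
    exact congrArg (fun t => t.hom) ((adj.homEquiv K Y).injective this)
  · exact ⟨((adj.homEquiv K Y).symm t).hom,
      (adj.homEquiv_unit (f := (adj.homEquiv K Y).symm t)).symm.trans ((adj.homEquiv K Y).apply_symm_apply t)⟩

theorem IsCpl.nonempty_iso {s : Set A} {K C C' : Dual.D A} {η : K ⟶ C} {η' : K ⟶ C'} (h : IsCpl s η)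
    (h' : IsCpl s η') : Nonempty (C ≅ C') := by
  obtain ⟨u, hu⟩ := (h.2 C' h'.1).2 η'
  obtain ⟨v, hv⟩ := (h'.2 C h.1).2 η
  have hu' : η ≫ u = η' := hu
  have hv' : η' ≫ v = η := hv
  refine ⟨⟨u, v, (h.2 C h.1).1 ?_, (h'.2 C' h'.1).1 ?_⟩⟩
  · change η ≫ u ≫ v = η ≫ 𝟙 C
    rw [← Category.assoc, hu', hv', Category.comp_id]
  · change η' ≫ v ≫ u = η' ≫ 𝟙 C'
    rw [← Category.assoc, hv', hu', Category.comp_id]

theorem exists_list (hI : I.FG) : ∃ s : List A, Ideal.span {f | f ∈ s} = I :=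
  have ⟨s, hs⟩ := hI
  ⟨s.toList, by rw [← hs, show {f | f ∈ s.toList} = (s : Set A) by ext; simp]⟩

/-- Vanishing of the cohomology of a completion. -/
theorem IsCpl.subsingleton_hd {s : List A} {K C : Dual.D A} {η : K ⟶ C} (h : IsCpl {f | f ∈ s} η)
    (i : ℤ) (hK : ∀ j, i ≤ j → j ≤ i + s.length → Subsingleton (Dual.HD A K j)) :
    Subsingleton (Dual.HD A C i) := by
  obtain ⟨C', η', h', -, hv⟩ := exists_cpl s K
  obtain ⟨e⟩ := h.nonempty_iso h'
  have := hv i hK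
  exact ((DMod.HH i).mapIso e).toLinearEquiv.toEquiv.subsingleton

theorem exists_cone_cpl (s : List A) (hs : Ideal.span {f | f ∈ s} = I) {K L : Dual.D A} (φ : K ⟶ L) :
    ∃ (Z W : Dual.D A) (g : L ⟶ Z) (h : Z ⟶ K⟦(1 : ℤ)⟧)
      (g' : ((DRing.derivedCompletion I).obj L).obj ⟶ W)
      (h' : W ⟶ (((DRing.derivedCompletion I).obj K).obj)⟦(1 : ℤ)⟧),
      Triangle.mk φ g h ∈ distTriang (Dual.D A) ∧
      Triangle.mk ((DRing.derivedCompletion I).map φ).hom g' h' ∈ distTriang (Dual.D A) ∧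
      ∀ i : ℤ, (∀ j : ℤ, i ≤ j → j ≤ i + s.length → Subsingleton (Dual.HD A Z j)) →
        Subsingleton (Dual.HD A W i) := by
  obtain ⟨Z, g, h, hT⟩ := distinguished_cocone_triangle φ
  obtain ⟨W, g', h', hT'⟩ := distinguished_cocone_triangle ((DRing.derivedCompletion I).map φ).hom
  have comm : φ ≫ DRing.toDerivedCompletion I L =
      DRing.toDerivedCompletion I K ≫ ((DRing.derivedCompletion I).map φ).hom :=
    (DRing.derivedCompletionAdj I).unit.naturality φ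
  obtain ⟨c, hc₂, hc₃⟩ := complete_distinguished_triangle_morphism _ _ hT hT'
    (DRing.toDerivedCompletion I K) (DRing.toDerivedCompletion I L) comm
  have hcpl := isCpl_triangle₃ hT hT'
    { hom₁ := DRing.toDerivedCompletion I K, hom₂ := DRing.toDerivedCompletion I L, hom₃ := c,
      comm₁ := comm, comm₂ := hc₂, comm₃ := hc₃ }
    (isCpl_unit I _ hs K) (isCpl_unit I _ hs L)
  exact ⟨Z, W, g, h, g', h', hT, hT', fun i hi => hcpl.subsingleton_hd i hi⟩

end Groth.Agent.DCpl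

namespace Groth.Agent.DCpl

open CategoryTheory

variable {A : Type u} [CommRing A]

theorem finv_homology (K : DRing.Cx A) (f : A)
    (hK : ∀ i : ℤ, Function.Bijective fun x : K.X i => f • x) (i : ℤ) :
    FInv (Dual.HD A (DRing.toD K) i) f := by
  refine FInv.of_linearEquiv (M := K.homology i) ?_
    ((DerivedCategory.homologyFunctorFactors (ModuleCat.{u} A) i).app K).toLinearEquiv.symm
  have hp : (ComplexShape.up ℤ).prev i = i - 1 := by simp
  have hn : (ComplexShape.up ℤ).next i = i + 1 := by simp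
  refine ⟨(injective_iff_map_eq_zero (LinearMap.lsmul A (K.homology i) f)).2 fun η hη => ?_, fun η => ?_⟩
  · obtain ⟨z, rfl⟩ := DMod.homologyπ_surjective K i η
    rw [LinearMap.lsmul_apply, ← map_smul, DMod.homologyπ_eq_zero_iff hp] at hη
    obtain ⟨y, hy⟩ := hη
    obtain ⟨y', rfl⟩ := (hK (i - 1)).2 y
    rw [DMod.homologyπ_eq_zero_iff hp]
    refine ⟨y', (hK i).1 ?_⟩
    dsimp only at hy ⊢
    rwa [map_smul, map_smul] at hy
  · obtain ⟨z, rfl⟩ := DMod.homologyπ_surjective K i η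
    obtain ⟨x, hx⟩ := (hK i).2 (K.iCycles i z)
    have hdx : K.d i (i + 1) x = 0 := (hK (i + 1)).1 (by
      dsimp only at hx ⊢
      rw [← map_smul, hx, DMod.d_iCycles, smul_zero])
    obtain ⟨w, rfl⟩ := DMod.exists_cycle hn x hdx
    refine ⟨K.homologyπ i w, ?_⟩
    dsimp only at hx ⊢
    rw [← map_smul, DMod.iCycles_injective K i ((map_smul (K.iCycles i).hom f w).trans hx)]

theorem isZero_completion_of_bijective (I : Ideal A) (hI : I.FG) [DRing.HasDerivedCompletion I]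
    (K : DRing.Cx A) (f : A) (hf : f ∈ I) (hK : ∀ i : ℤ, Function.Bijective fun x : K.X i => f • x) :
    Limits.IsZero ((DRing.derivedCompletion I).obj (DRing.toD K)).obj := by
  obtain ⟨s, hs⟩ := exists_list I hI
  have h := isCpl_unit I _ hs (DRing.toD K)
  have hC := (isDerivedComplete_iff I _).1 ((DRing.derivedCompletion I).obj (DRing.toD K)).property f hf
  have := subsingleton_hom_of_finv f K (finv_homology K f hK) _ hC
  rw [Limits.IsZero.iff_id_eq_zero]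
  exact (h.2 _ h.1).1 (Subsingleton.elim _ _)

end Groth.Agent.DCpl
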