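import Groth.Agent.Lib.H2Alg.ComplExact
import Mathlib.RingTheory.AdicCompletion.Completeness
import Mathlib.RingTheory.Filtration
import Mathlib.RingTheory.Flat.Basic

/-!
Completion of `M ⊗ N` for `M` finite and `N` flat over a Noetherian ring.
-/

set_option autoImplicit false
set_option linter.unusedSectionVars false

universe u

open TensorProduct

namespace Groth.Agent.DCpl

variable {A : Type u} [CommRing A] [IsNoetherianRing A] (I : Ideal A)
variable (N : Type u) [AddCommGroup N] [Module A N] [Module.Flat A N]

theorem exists_comap_le {M' M : Type u} [AddCommGroup M'] [Module A M'] [AddCommGroup M] [Module A M]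
    [Module.Finite A M] (i : M' →ₗ[A] M) (hi : Function.Injective i) :
    ∃ c : ℕ, ∀ n, (I ^ (n + c) • ⊤ : Submodule A (M ⊗[A] N)).comap (i.rTensor N) ≤ I ^ n • ⊤ := by
  obtain ⟨c, hc⟩ := I.exists_pow_inf_eq_pow_smul (LinearMap.range i)
  refine ⟨c, fun n x hx => ?_⟩
  let p : M' →ₗ[A] M ⧸ (I ^ (n + c) • ⊤ : Submodule A M) := Submodule.mkQ _ ∘ₗ i
  have hk : LinearMap.ker p ≤ (I ^ n • ⊤ : Submodule A M') := fun m hm => by
    have h1 : i m ∈ I ^ (n + c) • ⊤ ⊓ LinearMap.range i :=
      ⟨(Submodule.Quotient.mk_eq_zero _).1 hm, m, rfl⟩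
    rw [hc (n + c) (by omega), Nat.add_sub_cancel] at h1
    have h2 : i m ∈ Submodule.map i (I ^ n • ⊤) := by
      rw [Submodule.map_smul'', Submodule.map_top]
      exact Submodule.smul_mono le_rfl inf_le_right h1
    obtain ⟨m', hm', e⟩ := h2
    exact hi e ▸ hm'
  have hp : p.rTensor N x = 0 := by
    rw [LinearMap.rTensor_comp, LinearMap.comp_apply]
    refine Submodule.smul_induction_on (p := fun z =>
      (Submodule.mkQ (I ^ (n + c) • ⊤ : Submodule A M)).rTensor N z = 0) hx (fun r hr z hz => ?_)
      fun a b ha hb => by rw [map_add, ha, hb, add_zero]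
    clear hz
    rw [map_smul]
    induction z using TensorProduct.induction_on with
    | zero => simp
    | add a b ha hb => rw [map_add, smul_add, ha, hb, add_zero]
    | tmul a b =>
      rw [LinearMap.rTensor_tmul, TensorProduct.smul_tmul', ← map_smul, Submodule.mkQ_apply,
        (Submodule.Quotient.mk_eq_zero _).2 (Submodule.smul_mem_smul hr Submodule.mem_top), zero_tmul]
  obtain ⟨y, rfl⟩ := (Module.Flat.rTensor_exact N (LinearMap.exact_subtype_ker_map p) x).1 hp
  clear hx hp
  induction y using TensorProduct.induction_on with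
  | zero => simp
  | add a b ha hb => rw [map_add]; exact add_mem ha hb
  | tmul a b =>
    rw [LinearMap.rTensor_tmul]
    refine Submodule.smul_induction_on (p := fun z => z ⊗ₜ[A] b ∈ (I ^ n • ⊤ : Submodule A (M' ⊗[A] N)))
      (hk a.2) (fun r hr z _ => ?_) fun a' b' ha' hb' => by rw [add_tmul]; exact add_mem ha' hb'
    rw [← TensorProduct.smul_tmul']
    exact Submodule.smul_mem_smul hr Submodule.mem_top

variable (M : Type u) [AddCommGroup M] [Module A M]

/-- `M ⊗ N^ → (M ⊗ N)^`. -/
noncomputable def tcplMap : M ⊗[A] AdicCompletion I N →ₗ[A] AdicCompletion I (M ⊗[A] N) :=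
  TensorProduct.lift
    { toFun := fun m => (AdicCompletion.map I (TensorProduct.mk A M N m)).restrictScalars A
      map_add' := fun a b => by ext x n; simp
      map_smul' := fun r a => by ext x n; simp [AdicCompletion.val_smul_apply] }

theorem tcplMap_tmul (m : M) (y : AdicCompletion I N) :
    tcplMap I N M (m ⊗ₜ y) = AdicCompletion.map I (TensorProduct.mk A M N m) y := rfl

theorem tcplMap_tmul_of (m : M) (n : N) :
    tcplMap I N M (m ⊗ₜ AdicCompletion.of I N n) = AdicCompletion.of I (M ⊗[A] N) (m ⊗ₜ n) :=
  AdicCompletion.map_of I _ n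

variable {M} {M' : Type u} [AddCommGroup M'] [Module A M']

theorem tcplMap_natural (f : M' →ₗ[A] M) (z : M' ⊗[A] AdicCompletion I N) :
    tcplMap I N M (f.rTensor _ z) = AdicCompletion.map I (f.rTensor N) (tcplMap I N M' z) := by
  induction z using TensorProduct.induction_on with
  | zero => simp
  | add a b ha hb => rw [map_add, map_add, map_add, map_add, ha, hb]
  | tmul m y =>
    rw [LinearMap.rTensor_tmul, tcplMap_tmul, tcplMap_tmul, AdicCompletion.map_comp_apply]
    rfl

variable {M'' : Type u} [AddCommGroup M''] [Module A M''] (i : M' →ₗ[A] M) (g : M →ₗ[A] M'')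

theorem cpl_exact [Module.Finite A M] (hi : Function.Injective i) (hg : Function.Surjective g)
    (hex : Function.Exact i g) :
    Function.Injective (AdicCompletion.map I (i.rTensor N)) ∧
      Function.Exact (AdicCompletion.map I (i.rTensor N)) (AdicCompletion.map I (g.rTensor N)) := by
  obtain ⟨c, hc⟩ := exists_comap_le I N i hi
  exact ⟨H2Alg.ComplExact.injective_map_of_comap_le c hc,
    H2Alg.ComplExact.exact_map_of_comap_le c hc (LinearMap.rTensor_surjective N hg)
      (rTensor_exact N hex hg)⟩

theorem surjective_tcplMap_fin : ∀ k : ℕ, Function.Surjective (tcplMap I N (Fin k → A)) := by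
  intro k y
  classical
  let π : ∀ j : Fin k, (Fin k → A) ⊗[A] N →ₗ[A] N := fun j =>
    (TensorProduct.lid A N).toLinearMap ∘ₗ (LinearMap.proj j).rTensor N
  refine ⟨∑ j, Pi.single j (1 : A) ⊗ₜ AdicCompletion.map I (π j) y, ?_⟩
  rw [map_sum]
  simp only [tcplMap_tmul, AdicCompletion.map_comp_apply]
  have e : ∑ j, (TensorProduct.mk A (Fin k → A) N (Pi.single j 1)) ∘ₗ π j = LinearMap.id := by
    refine TensorProduct.ext' fun v n => ?_
    simp only [π, LinearMap.sum_apply, LinearMap.comp_apply, LinearMap.rTensor_tmul,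
      LinearMap.proj_apply, LinearEquiv.coe_coe, TensorProduct.lid_tmul, LinearMap.id_apply,
      TensorProduct.mk_apply, ← TensorProduct.smul_tmul, ← TensorProduct.sum_tmul, ← Pi.single_smul,
      smul_eq_mul, mul_one, Finset.univ_sum_single]
  conv_rhs => rw [← LinearMap.id_apply (R := A) y]
  ext n
  induction y using AdicCompletion.induction_on with
  | h a =>
    simp only [AdicCompletion.map_mk, AdicCompletion.mk_apply_coe, LinearMap.id_apply,
      AdicCompletion.val_sum, Finset.sum_apply, AdicCompletion.AdicCauchySequence.map_apply_coe]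
    rw [← map_sum, ← LinearMap.sum_apply, e]
    rfl

theorem surjective_tcplMap [Module.Finite A M] : Function.Surjective (tcplMap I N M) := by
  obtain ⟨k, f, hf⟩ := Module.Finite.exists_fin' A M
  intro y
  obtain ⟨y', rfl⟩ := AdicCompletion.map_surjective I (LinearMap.rTensor_surjective N hf) y
  obtain ⟨z, rfl⟩ := surjective_tcplMap_fin I N k y'
  exact ⟨f.rTensor _ z, tcplMap_natural I N f z⟩

theorem injective_tcplMap_fin (k : ℕ) : Function.Injective (tcplMap I N (Fin k → A)) := by
  classical
  let ρ : ∀ j : Fin k, AdicCompletion I ((Fin k → A) ⊗[A] N) →ₗ[A] AdicCompletion I N := fun j =>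
    (AdicCompletion.map I ((TensorProduct.lid A N).toLinearMap ∘ₗ (LinearMap.proj j).rTensor N)).restrictScalars A
  let e : (Fin k → A) ⊗[A] AdicCompletion I N →ₗ[A] (Fin k → AdicCompletion I N) :=
    (TensorProduct.piScalarRight A A _ (Fin k)).toLinearMap ∘ₗ (TensorProduct.comm A _ _).toLinearMap
  have he : Function.Injective e :=
    (TensorProduct.piScalarRight A A _ (Fin k)).injective.comp (TensorProduct.comm A _ _).injective
  have h : ∀ z, (fun j => ρ j (tcplMap I N _ z)) = e z := fun z => by
    induction z using TensorProduct.induction_on with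
    | zero => simp only [map_zero]; rfl
    | add a b ha hb =>
      rw [map_add e, ← ha, ← hb]
      funext j
      simp
    | tmul v y =>
      funext j
      have e1 : ((TensorProduct.lid A N).toLinearMap ∘ₗ (LinearMap.proj j).rTensor N) ∘ₗ
          TensorProduct.mk A (Fin k → A) N v = v j • LinearMap.id :=
        LinearMap.ext fun n => by simp
      simp only [ρ, tcplMap_tmul, LinearMap.coe_restrictScalars, AdicCompletion.map_comp_apply, e1]
      simp [e]
      induction y using AdicCompletion.induction_on with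
      | h a => ext n; simp [AdicCompletion.val_smul_apply]
  intro z w hzw
  exact he ((h z).symm.trans ((congrArg (fun t => fun j => ρ j t) hzw).trans (h w)))

theorem injective_tcplMap [Module.Finite A M] : Function.Injective (tcplMap I N M) := by
  obtain ⟨k, f, hf⟩ := Module.Finite.exists_fin' A M
  rw [injective_iff_map_eq_zero]
  intro z hz
  obtain ⟨w, rfl⟩ := LinearMap.rTensor_surjective (AdicCompletion I N) hf z
  rw [tcplMap_natural] at hz
  obtain ⟨v, hv⟩ := ((cpl_exact I N _ f (LinearMap.ker f).injective_subtype hf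
    (LinearMap.exact_subtype_ker_map f)).2 _).1 hz
  obtain ⟨v', rfl⟩ := surjective_tcplMap I N (M := LinearMap.ker f) v
  rw [← tcplMap_natural] at hv
  rw [← injective_tcplMap_fin I N k hv, ← LinearMap.comp_apply, ← LinearMap.rTensor_comp,
    LinearMap.exact_subtype_ker_map f |>.linearMap_comp_eq_zero, LinearMap.rTensor_zero]
  rfl

variable (M) in
/-- `M ⊗ N^ ≃ (M ⊗ N)^`. -/
noncomputable def tcplEquiv [Module.Finite A M] :
    M ⊗[A] AdicCompletion I N ≃ₗ[A] AdicCompletion I (M ⊗[A] N) :=
  LinearEquiv.ofBijective (tcplMap I N M) ⟨injective_tcplMap I N, surjective_tcplMap I N⟩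

theorem flat_cpl : Module.Flat A (AdicCompletion I N) := by
  refine Module.Flat.iff_rTensor_injective'.2 fun J => ?_
  intro a b hab
  apply injective_tcplMap I N (M := J)
  apply (cpl_exact I N J.subtype J.mkQ J.injective_subtype J.mkQ_surjective
    (LinearMap.exact_subtype_mkQ J)).1
  rw [← tcplMap_natural, ← tcplMap_natural, hab]

theorem bijective_quot_of : Function.Bijective ((AdicCompletion.of I N).lTensor (A ⧸ I)) := by
  have hI : I.FG := IsNoetherian.noetherian I
  let Q := TensorProduct.quotTensorEquivQuotSMul (M := N) I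
  let Q' := TensorProduct.quotTensorEquivQuotSMul (M := AdicCompletion I N) I
  have hle : (I • ⊤ : Submodule A N) ≤ (I • ⊤ : Submodule A (AdicCompletion I N)).comap
      (AdicCompletion.of I N) := by
    rw [← Submodule.map_le_iff_le_comap, Submodule.map_smul'']
    exact Submodule.smul_mono le_rfl le_top
  let q := Submodule.mapQ _ _ (AdicCompletion.of I N) hle
  have key : ∀ y, y ∈ (I • ⊤ : Submodule A (AdicCompletion I N)) ↔ AdicCompletion.eval I N 1 y = 0 := by
    intro y
    rw [← LinearMap.mem_ker, ← AdicCompletion.pow_smul_top_eq_ker_eval hI, pow_one]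
  have hq : Function.Bijective q := by
    constructor
    · rw [injective_iff_map_eq_zero]
      intro z hz
      obtain ⟨x, rfl⟩ := Submodule.mkQ_surjective _ z
      have h1 := (key _).1 ((Submodule.Quotient.mk_eq_zero _).1 hz)
      simp only [AdicCompletion.eval_apply, AdicCompletion.of_apply, Submodule.mkQ_apply,
        Submodule.Quotient.mk_eq_zero, pow_one] at h1
      exact (Submodule.Quotient.mk_eq_zero _).2 h1
    · intro z
      obtain ⟨y, rfl⟩ := Submodule.mkQ_surjective _ z
      obtain ⟨x, hx⟩ := Submodule.mkQ_surjective _ (AdicCompletion.eval I N 1 y)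
      refine ⟨Submodule.mkQ _ x, (Submodule.Quotient.eq _).2 ((key _).2 ?_)⟩
      rw [map_sub, sub_eq_zero]
      exact hx
  have e : Q'.toLinearMap ∘ₗ (AdicCompletion.of I N).lTensor (A ⧸ I) = q ∘ₗ Q.toLinearMap := by
    refine TensorProduct.ext' fun r x => ?_
    obtain ⟨r, rfl⟩ := Ideal.Quotient.mk_surjective r
    simp [Q, Q', q, Submodule.mapQ_apply]
  have : ((AdicCompletion.of I N).lTensor (A ⧸ I) : _ → _) = Q'.symm ∘ q ∘ Q := funext fun z =>
    Q'.injective ((LinearMap.congr_fun e z).trans (Q'.apply_symm_apply _).symm)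
  rw [this]
  exact Q'.symm.bijective.comp (hq.comp Q.bijective)

end Groth.Agent.DCpl
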