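import Groth.Agent.Lib.DCpl.FiniteCpl
import Groth.Agent.Lib.DCpl.FlatCpl
import Mathlib.RingTheory.Flat.CategoryTheory

/-!
Derived completion of `M ⊗ N` for `M` finite and `N` flat over a Noetherian ring.
-/

set_option autoImplicit false
set_option linter.unusedSectionVars false

universe u

open CategoryTheory CategoryTheory.Limits MonoidalCategory

attribute [local instance] HasDerivedCategory.standard

namespace Groth.Agent.DCpl

variable {A : Type u} [CommRing A] (I : Ideal A)

theorem ModIso.of_iso {K L K' L' : Dual.D A} {u : K ⟶ L} (h : ModIso I u) (u' : K' ⟶ L') (a : K ≅ K')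
    (b : L ≅ L') (hcomm : u ≫ b.hom = a.hom ≫ u') : ModIso I u' := by
  intro N i
  have hu' : ∀ t : L' ⟶ sgl I N i, u' ≫ t = a.inv ≫ u ≫ b.hom ≫ t := fun t => by
    rw [← Category.assoc u, hcomm, Category.assoc, a.inv_hom_id_assoc]
  refine ⟨fun x y hxy => ?_, fun t => ?_⟩
  · have : b.hom ≫ x = b.hom ≫ y := (h N i).1 ((cancel_epi a.inv).1 (by
      simpa only [hu'] using hxy))
    exact (cancel_epi b.hom).1 this
  · obtain ⟨x, hx⟩ := (h N i).2 (a.hom ≫ t)
    refine ⟨b.inv ≫ x, ?_⟩
    dsimp only at hx ⊢
    rw [hu', b.hom_inv_id_assoc, hx, a.inv_hom_id_assoc]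

variable [IsNoetherianRing A]
variable (M N : Type u) [AddCommGroup M] [Module A M] [Module.Finite A M] [AddCommGroup N] [Module A N]
  [Module.Flat A N]

/-- `M ⊗ N ⟶ M ⊗ N^`. -/
noncomputable def tensorOf : ModuleCat.of A M ⊗ ModuleCat.of A N ⟶
    ModuleCat.of A M ⊗ ModuleCat.of A (AdicCompletion I N) :=
  ModuleCat.of A M ◁ ModuleCat.ofHom (AdicCompletion.of I N)

theorem bijective_lTensor_tensor (X : Type u) [AddCommGroup X] [Module A X] :
    Function.Bijective (((AdicCompletion.of I N).lTensor X).lTensor (A ⧸ I)) := by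
  let L := fun (Y : Type u) [AddCommGroup Y] [Module A Y] => TensorProduct.leftComm A (A ⧸ I) X Y
  have e : ∀ z, L (AdicCompletion I N) (((AdicCompletion.of I N).lTensor X).lTensor (A ⧸ I) z) =
      ((AdicCompletion.of I N).lTensor (A ⧸ I)).lTensor X (L N z) := fun z => by
    induction z using TensorProduct.induction_on with
    | zero => simp
    | add a b ha hb => simp only [map_add, ha, hb]
    | tmul r w =>
      induction w using TensorProduct.induction_on with
      | zero => simp
      | add a b ha hb => simp only [TensorProduct.tmul_add, map_add, ha, hb]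
      | tmul x n => simp [L]
  have hb : Function.Bijective (((AdicCompletion.of I N).lTensor (A ⧸ I)).lTensor X) :=
    ((LinearEquiv.ofBijective _ (bijective_quot_of I N)).lTensor X).bijective
  have := hb.comp (L N).bijective
  rw [show (((AdicCompletion.of I N).lTensor (A ⧸ I)).lTensor X ∘ L N) =
    L (AdicCompletion I N) ∘ ((AdicCompletion.of I N).lTensor X).lTensor (A ⧸ I) from
      funext fun z => (e z).symm] at this
  exact (Function.Bijective.of_comp_iff' (L (AdicCompletion I N)).bijective _).1 this

theorem isIso_ext_whisker (X : ModuleCat.{u} A) :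
    IsIso ((ModuleCat.extendScalars.{u, u, u} (Ideal.Quotient.mk I)).map
      (X ◁ ModuleCat.ofHom (AdicCompletion.of I N))) := by
  rw [ConcreteCategory.isIso_iff_bijective]
  exact bijective_lTensor_tensor I N X

theorem exchange_aux {X M Y Y' W Z : ModuleCat.{u} A} (a : X ⟶ M) (η : Y ⟶ Y') (b : M ⊗ Y' ⟶ Z)
    (c : W ≅ M ⊗ Y) : X ◁ η ≫ a ▷ Y' ≫ b = (a ▷ Y ≫ c.inv) ≫ c.hom ≫ M ◁ η ≫ b := by
  rw [Category.assoc, c.inv_hom_id_assoc, ← Category.assoc, ← Category.assoc, whisker_exchange]

theorem modIso_tensorOf :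
    ModIso I ((DMod.single 0).map (tensorOf I M N)) := by
  have hflat := flat_cpl I N
  obtain ⟨P, hP, hfree, ⟨e⟩⟩ := DMod.exists_free_resolution
    ((DMod.single 0).obj (ModuleCat.of A M)) 0
  have := DMod.isKProjective 0 fun i => (have := hfree i; inferInstance : Module.Projective A (P.X i))
  let S := fun Y : ModuleCat.{u} A => (HomologicalComplex.single (ModuleCat.{u} A) (ComplexShape.up ℤ) 0).obj Y
  let ε := fun Y : ModuleCat.{u} A => (DerivedCategory.singleFunctorIsoCompQ (ModuleCat.{u} A) 0).app Y
  obtain ⟨g, hg⟩ := DMod.exists_map_eq (P := P) (L := S (ModuleCat.of A M))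
    (e.hom ≫ (ε (ModuleCat.of A M)).hom)
  have : QuasiIso g := by
    rw [← DerivedCategory.isIso_Q_map_iff_quasiIso, hg]; infer_instance
  let T := fun Y : ModuleCat.{u} A => (tensorRight Y).mapHomologicalComplex (ComplexShape.up ℤ)
  let YN := ModuleCat.of A N
  let YC := ModuleCat.of A (AdicCompletion I N)
  let τ : T YN ⟶ T YC :=
    NatTrans.mapHomologicalComplex ((tensoringRight (ModuleCat.{u} A)).map
      (ModuleCat.ofHom (AdicCompletion.of I N))) _
  have hstrict : ∀ Y : ModuleCat.{u} A, CochainComplex.IsStrictlyLE ((T Y).obj P) 0 := fun Y => by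
    rw [CochainComplex.isStrictlyLE_iff]
    exact fun i hi => Functor.map_isZero (tensorRight Y) (P.isZero_of_isStrictlyLE 0 i hi)
  have hK : ∀ Y : ModuleCat.{u} A, Module.Flat A Y → DRing.IsKFlat A ((T Y).obj P) := fun Y hY => by
    have := hstrict Y
    refine (KFlat.Module.isKFlat_iff _).1 (DBaseChange.adapted_of_flat ((T Y).obj P) 0 fun i => ?_).1
    have := DBaseChange.flat_of_free hfree i
    exact inferInstanceAs (Module.Flat A (TensorProduct A (P.X i) Y))
  have h0 : ModIso I (DerivedCategory.Q.map (τ.app P)) :=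
    modIso_of_isIso_ext I _ (hK YN ‹_›) (hK YC hflat) fun j => isIso_ext_whisker I N (P.X j)
  have hq : ∀ Y : ModuleCat.{u} A, Module.Flat A Y → IsIso (DerivedCategory.Q.map ((T Y).map g)) :=
    fun Y hY => by
      have : QuasiIso ((T Y).map g) := inferInstance
      infer_instance
  have := hq YN ‹_›
  have := hq YC hflat
  let c := fun Y : ModuleCat.{u} A =>
    DerivedCategory.Q.mapIso ((HomologicalComplex.singleMapHomologicalComplex (tensorRight Y)
      (ComplexShape.up ℤ) 0).app (ModuleCat.of A M)) ≪≫ (ε (ModuleCat.of A M ⊗ Y)).symm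
  refine h0.of_iso I _ (asIso (DerivedCategory.Q.map ((T YN).map g)) ≪≫ c YN)
    (asIso (DerivedCategory.Q.map ((T YC).map g)) ≪≫ c YC) ?_
  have h1 : τ.app P ≫ (T YC).map g = (T YN).map g ≫ τ.app (S (ModuleCat.of A M)) := (τ.naturality g).symm
  have h2 : τ.app (S (ModuleCat.of A M)) ≫
      ((HomologicalComplex.singleMapHomologicalComplex (tensorRight YC)
        (ComplexShape.up ℤ) 0).app (ModuleCat.of A M)).hom =
      ((HomologicalComplex.singleMapHomologicalComplex (tensorRight YN)
        (ComplexShape.up ℤ) 0).app (ModuleCat.of A M)).hom ≫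
        (HomologicalComplex.single (ModuleCat.{u} A) (ComplexShape.up ℤ) 0).map (tensorOf I M N) := by
    ext i : 1
    by_cases hi : i = 0
    · subst hi
      simp only [HomologicalComplex.comp_f, Iso.app_hom, HomologicalComplex.single_map_f_self,
        HomologicalComplex.singleMapHomologicalComplex_hom_app_self]
      simp [τ, S, T, tensorOf, YN, YC]
      exact exchange_aux _ _ _ _
    · exact (HomologicalComplex.isZero_single_obj_X (ComplexShape.up ℤ) 0 _ i hi).eq_of_tgt _ _
  have h3 := (DerivedCategory.singleFunctorIsoCompQ (ModuleCat.{u} A) 0).inv.naturality (tensorOf I M N)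
  simp only [Iso.trans_hom, asIso_hom, c, Functor.mapIso_hom, Iso.symm_hom, Category.assoc]
  rw [← Category.assoc (DerivedCategory.Q.map (τ.app P)), ← Functor.map_comp, h1, Functor.map_comp,
    Category.assoc, ← Category.assoc (DerivedCategory.Q.map (τ.app (S (ModuleCat.of A M)))),
    ← Functor.map_comp, h2, Functor.map_comp, Category.assoc]
  exact congrArg _ (congrArg _ h3)

theorem isCpl_tensor_of (s : List A) (hs : Ideal.span {f | f ∈ s} = I) :
    IsCpl {f | f ∈ s} ((DMod.single 0).map (Y := ModuleCat.of A (AdicCompletion I (TensorProduct A M N)))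
      (ModuleCat.ofHom (AdicCompletion.of I (TensorProduct A M N)))) := by
  have hI : I.FG := IsNoetherian.noetherian I
  let t : ModuleCat.of A M ⊗ ModuleCat.of A (AdicCompletion I N) ≅
      ModuleCat.of A (AdicCompletion I (TensorProduct A M N)) := (tcplEquiv I N M).toModuleIso
  refine isCpl_of_modIso I hI s hs _ ?_ ((modIso_tensorOf I M N).of_iso I _ (Iso.refl _)
    ((DMod.single 0).mapIso t) ?_)
  · refine (isDerivedComplete_inD_iff I _).2 fun f hf => ?_
    have := AdicCompletion.isAdicComplete (M := TensorProduct A M N) hI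
    exact dc_of_isAdicComplete I hf
  · rw [Iso.refl_hom, Category.id_comp, Functor.mapIso_hom, ← Functor.map_comp]
    congr 1
    exact ModuleCat.hom_ext (TensorProduct.ext' fun m n => tcplMap_tmul_of I N M m n)

end Groth.Agent.DCpl
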