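import Groth.Agent.Lib.DMod.PCModule
import Groth.Agent.Lib.DMod.Homology
import Groth.Agent.Lib.KInj.Derived
import Groth.Prelude.Def_DDual2
import Mathlib.Algebra.Category.ModuleCat.ChangeOfRings
import Mathlib.Algebra.Category.ModuleCat.AB
import Mathlib.Algebra.Homology.Additive

/-!
Morphisms out of restrictions of scalars vanish as soon as they do on the algebra itself.
-/

set_option autoImplicit false
set_option linter.unusedSectionVars false

universe u

open CategoryTheory CategoryTheory.Limits

attribute [local instance] HasDerivedCategory.standard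

namespace Groth.Agent.DCpl

section

variable {C D : Type*} [Category* C] [Category* D] {F : C ⥤ D} {G : D ⥤ C} (a : F ⊣ G)

theorem adj_left {X : C} {Y : D} (g : F.obj X ⟶ Y) :
    F.map (a.unit.app X ≫ G.map g) ≫ a.counit.app Y = g := by simp

theorem adj_right {X : C} {Y : D} (h : X ⟶ G.obj Y) :
    a.unit.app X ≫ G.map (F.map h ≫ a.counit.app Y) = h := by simp

end

variable {A B : Type u} [CommRing A] [CommRing B] (φ : A →+* B)

/-- Termwise restriction. -/
noncomputable abbrev resC : DRing.Cx B ⥤ DRing.Cx A :=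
  (ModuleCat.restrictScalars.{u} φ).mapHomologicalComplex (ComplexShape.up ℤ)

instance additive_coext : (ModuleCat.coextendScalars.{u, u, u} φ).Additive :=
  (ModuleCat.restrictCoextendScalarsAdj.{u} φ).right_adjoint_additive

/-- Termwise coextension. -/
noncomputable abbrev coextC : DRing.Cx A ⥤ DRing.Cx B :=
  (ModuleCat.coextendScalars.{u, u, u} φ).mapHomologicalComplex (ComplexShape.up ℤ)

/-- The unit, termwise. -/
noncomputable def unitC (L : DRing.Cx B) : L ⟶ (coextC φ).obj ((resC φ).obj L) where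
  f i := (ModuleCat.restrictCoextendScalarsAdj.{u} φ).unit.app (L.X i)
  comm' i j _ := ((ModuleCat.restrictCoextendScalarsAdj.{u} φ).unit.naturality (L.d i j)).symm

/-- The counit, termwise. -/
noncomputable def counitC (K : DRing.Cx A) : (resC φ).obj ((coextC φ).obj K) ⟶ K where
  f i := (ModuleCat.restrictCoextendScalarsAdj.{u} φ).counit.app (K.X i)
  comm' i j _ := ((ModuleCat.restrictCoextendScalarsAdj.{u} φ).counit.naturality (K.d i j)).symm

theorem res_counit {L : DRing.Cx B} {K : DRing.Cx A} (g : (resC φ).obj L ⟶ K) :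
    (resC φ).map (unitC φ L ≫ (coextC φ).map g) ≫ counitC φ K = g := by
  ext1 i
  exact adj_left (ModuleCat.restrictCoextendScalarsAdj.{u} φ) (g.f i)

theorem unit_coext {L : DRing.Cx B} {K : DRing.Cx A} (h : L ⟶ (coextC φ).obj K) :
    unitC φ L ≫ (coextC φ).map ((resC φ).map h ≫ counitC φ K) = h := by
  ext1 i
  exact adj_right (ModuleCat.restrictCoextendScalarsAdj.{u} φ) (h.f i)

/-- Null homotopies transfer to the adjunct. -/
theorem nonempty_homotopy_adjunct {L : DRing.Cx B} {K : DRing.Cx A} (h : L ⟶ (coextC φ).obj K)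
    (H : Homotopy ((resC φ).map h ≫ counitC φ K) 0) : Nonempty (Homotopy h 0) := by
  have H' := ((ModuleCat.coextendScalars.{u, u, u} φ).mapHomotopy H).compLeft (unitC φ L)
  exact ⟨(Homotopy.ofEq (unit_coext φ h).symm).trans (H'.trans (Homotopy.ofEq (by simp)))⟩

variable (K : DRing.Cx A) [K.IsKInjective]

theorem acyclic_coext
    (h : ∀ n : ℤ, Subsingleton
      (DRing.toD ((resC φ).obj ((HomologicalComplex.single (ModuleCat.{u} B) (ComplexShape.up ℤ) n).obj
        (ModuleCat.of B B))) ⟶ DRing.toD K)) :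
    ((coextC φ).obj K).Acyclic := by
  intro n
  let C := (coextC φ).obj K
  have hsub : ∀ x : C.X n, C.d n (n + 1) x = 0 → ∃ y, C.d (n - 1) n y = x := by
    intro x hx
    let S := (HomologicalComplex.single (ModuleCat.{u} B) (ComplexShape.up ℤ) n).obj (ModuleCat.of B B)
    let ψ : ModuleCat.of B B ⟶ C.X n := ModuleCat.ofHom (LinearMap.toSpanSingleton B (C.X n) x)
    have hψ : ∀ k, (ComplexShape.up ℤ).Rel n k → ψ ≫ C.d n k = 0 := fun k hk => by
      obtain rfl : n + 1 = k := hk
      refine ModuleCat.hom_ext (LinearMap.ext_ring ?_)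
      exact (congrArg (C.d n (n + 1)).hom (one_smul B x)).trans hx
    let g : S ⟶ C := HomologicalComplex.mkHomFromSingle ψ hψ
    have hg : DerivedCategory.Q.map ((resC φ).map g ≫ counitC φ K) = 0 := @Subsingleton.elim _ (h n) _ _
    obtain ⟨H⟩ := (KInjLib.map_eq_iff _ 0).1 (hg.trans (Functor.map_zero _ _ _).symm)
    obtain ⟨H'⟩ := nonempty_homotopy_adjunct φ g H
    have e := H'.comm n
    rw [dNext_eq H'.hom (show (ComplexShape.up ℤ).Rel n (n + 1) by simp),
      prevD_eq H'.hom (show (ComplexShape.up ℤ).Rel (n - 1) n by simp)] at e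
    let one : S.X n :=
      (HomologicalComplex.singleObjXSelf (ComplexShape.up ℤ) n (ModuleCat.of B B)).inv (1 : B)
    refine ⟨H'.hom n (n - 1) one, ?_⟩
    have e' := congrArg (fun u => u one) e
    simp [g, S, HomologicalComplex.mkHomFromSingle_f] at e'
    simp [one, ψ, S] at e' ⊢
    exact e'.symm.trans (one_smul B x)
  exact (HomologicalComplex.exactAt_iff_isZero_homology _ _).2 ((DMod.isZero_iff_subsingleton _).2
    ((DMod.subsingleton_homology_iff C (i := n - 1) (k := n + 1) (by simp) (by simp)).2 hsub))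

theorem subsingleton_hom_res
    (h : ∀ n : ℤ, Subsingleton
      (DRing.toD ((resC φ).obj ((HomologicalComplex.single (ModuleCat.{u} B) (ComplexShape.up ℤ) n).obj
        (ModuleCat.of B B))) ⟶ DRing.toD K)) (L : DRing.Cx B) :
    Subsingleton (DRing.toD ((resC φ).obj L) ⟶ DRing.toD K) := by
  let C := (coextC φ).obj K
  have hC : ((resC φ).obj C).Acyclic := fun i => by
    have := acyclic_coext φ K h i
    exact ShortComplex.Exact.map this (ModuleCat.restrictScalars.{u} φ)
  obtain ⟨H⟩ := CochainComplex.IsKInjective.nonempty_homotopy_zero (counitC φ K) hC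
  obtain ⟨Hid⟩ := nonempty_homotopy_adjunct φ (𝟙 C)
    ((Homotopy.ofEq (by rw [CategoryTheory.Functor.map_id, Category.id_comp])).trans H)
  refine subsingleton_of_forall_eq 0 fun t => ?_
  obtain ⟨g, rfl⟩ := KInjLib.exists_map_eq t
  rw [← Functor.map_zero DerivedCategory.Q, KInjLib.map_eq_iff]
  let g' : L ⟶ C := unitC φ L ≫ (coextC φ).map g
  have H1 : Homotopy g' 0 :=
    (Homotopy.ofEq (Category.comp_id g').symm).trans ((Hid.compLeft g').trans (Homotopy.ofEq comp_zero))
  exact ⟨(Homotopy.ofEq (res_counit φ g).symm).trans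
    ((((ModuleCat.restrictScalars.{u} φ).mapHomotopy H1).compRight (counitC φ K)).trans
      (Homotopy.ofEq (by simp)))⟩

variable {K}

/-- Restrictions from `B` see nothing in `K` if `B` itself sees nothing. -/
theorem subsingleton_hom_restrictD (K : Dual.D A)
    (h : ∀ n : ℤ, Subsingleton (Dual.inD A ((ModuleCat.restrictScalars φ).obj (ModuleCat.of B B)) ⟶ K⟦n⟧))
    (E : Dual.D B) : Subsingleton ((DRing.restrictD φ).obj E ⟶ K) := by
  obtain ⟨I, hI, ⟨eK⟩⟩ := KInjLib.exists_iso_kInjective K
  have : (DerivedCategory.Q : DRing.Cx B ⥤ Dual.D B).EssSurj :=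
    Localization.essSurj _ (HomologicalComplex.quasiIso (ModuleCat.{u} B) (ComplexShape.up ℤ))
  let L : DRing.Cx B := (DerivedCategory.Q : DRing.Cx B ⥤ Dual.D B).objPreimage E
  let eE : (DRing.restrictD φ).obj E ≅ DRing.toD ((resC φ).obj L) :=
    (DRing.restrictD φ).mapIso ((DerivedCategory.Q : DRing.Cx B ⥤ Dual.D B).objObjPreimageIso E).symm ≪≫
      (ModuleCat.restrictScalars.{u} φ).mapDerivedCategoryFactors.app L
  have hI' : ∀ n : ℤ, Subsingleton
      (DRing.toD ((resC φ).obj ((HomologicalComplex.single (ModuleCat.{u} B) (ComplexShape.up ℤ) n).obj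
        (ModuleCat.of B B))) ⟶ DRing.toD I) := fun n => by
    let M := (ModuleCat.restrictScalars φ).obj (ModuleCat.of B B)
    let e : DRing.toD ((resC φ).obj ((HomologicalComplex.single (ModuleCat.{u} B) (ComplexShape.up ℤ) n).obj
        (ModuleCat.of B B))) ≅ ((DMod.single 0).obj M)⟦-n⟧ :=
      DerivedCategory.Q.mapIso ((HomologicalComplex.singleMapHomologicalComplex
          (ModuleCat.restrictScalars.{u} φ) (ComplexShape.up ℤ) n).app (ModuleCat.of B B)) ≪≫
        ((DerivedCategory.singleFunctorIsoCompQ (ModuleCat.{u} A) n).app M).symm ≪≫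
        (DMod.singleShiftIso n M).symm
    refine subsingleton_of_forall_eq 0 fun t => ?_
    have h1 : ((shiftFunctorCompIsoId (Dual.D A) (-n) n (by omega)).app ((DMod.single 0).obj M)).inv ≫
        (e.inv ≫ t ≫ eK.inv)⟦n⟧' = 0 := @Subsingleton.elim _ (h n) _ _
    rw [Preadditive.IsIso.comp_left_eq_zero, ← Functor.map_zero (shiftFunctor (Dual.D A) n)] at h1
    have h2 := (shiftFunctor (Dual.D A) n).map_injective h1
    rw [← Category.assoc, Preadditive.IsIso.comp_right_eq_zero,
      Preadditive.IsIso.comp_left_eq_zero] at h2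
    exact h2
  have := subsingleton_hom_res φ I hI' L
  exact (Iso.homCongr eE eK).subsingleton

end Groth.Agent.DCpl
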