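import Mathlib.RingTheory.Ideal.Quotient.Basic
import Mathlib.RingTheory.Ideal.Operations
import Mathlib.Algebra.Algebra.Basic
import Mathlib.Data.Nat.Choose.Basic
import Mathlib.LinearAlgebra.Isomorphisms
import Mathlib.Algebra.BigOperators.Intervals
import Mathlib.Tactic.Module

/-!
Derived completeness of a module at an element, in terms of the operator
`(x i) ↦ (x i - f • x (i + 1))`; equivalently, sums `∑ f ^ k • y k` exist linearly in `y`.
-/

set_option autoImplicit false
set_option linter.unusedSectionVars false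

universe u v w

namespace Groth.Agent.DCpl

variable {A : Type u} [CommRing A] {M : Type v} [AddCommGroup M] [Module A M]
  {N : Type w} [AddCommGroup N] [Module A N]

variable (M) in
/-- The operator `(x i) ↦ (x i - f • x (i + 1))`. -/
def tele (f : A) : (ℕ → M) →ₗ[A] (ℕ → M) :=
  LinearMap.id - f • LinearMap.funLeft A M Nat.succ

theorem tele_apply (f : A) (x : ℕ → M) (i : ℕ) : tele M f x i = x i - f • x (i + 1) := rfl

variable (M) in
/-- `M` is derived complete at `f`. -/
def DC (f : A) : Prop := Function.Bijective (tele M f)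

/-- A summation operator at `f`. -/
structure Sum (f : A) (M : Type v) [AddCommGroup M] [Module A M] where
  /-- the value of `∑ f ^ k • y k` -/
  V : (ℕ → M) →ₗ[A] M
  eq : ∀ y : ℕ → M, V y = y 0 + f • V fun k => y (k + 1)

namespace Sum

variable {f : A} (S : Sum f M)

include S

theorem eq_zero {x : ℕ → M} (h : ∀ i, x i = f • x (i + 1)) : x = 0 := by
  have h0 : tele M f x = 0 := funext fun i => sub_eq_zero.2 (h i)
  funext i
  have h1 : S.V (fun k => x (i + k)) - f • S.V (fun k => x (i + 1 + k)) = 0 := by
    rw [← map_smul, ← map_sub,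
      show ((fun k => x (i + k)) - f • fun k => x (i + 1 + k)) = 0 from funext fun k => by
        simpa [Nat.add_right_comm i 1 k, sub_eq_zero] using h (i + k), map_zero]
  rw [S.eq, show (fun k => x (i + (k + 1))) = fun k => x (i + 1 + k) from funext fun k => by
    rw [Nat.add_right_comm, Nat.add_assoc], add_sub_cancel_right] at h1
  simpa using h1

theorem dc : DC M f := by
  refine ⟨(injective_iff_map_eq_zero (tele M f)).2 fun x hx =>
    S.eq_zero fun i => sub_eq_zero.1 (congrFun hx i), fun y => ?_⟩
  refine ⟨fun i => S.V fun k => y (i + k), funext fun i => ?_⟩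
  rw [tele_apply, S.eq, show (fun k => y (i + (k + 1))) = fun k => y (i + 1 + k) from
    funext fun k => by rw [Nat.add_right_comm, Nat.add_assoc], add_sub_cancel_right]
  simp

end Sum

namespace DC

variable {f : A}

theorem eq_zero (h : DC M f) {x : ℕ → M} (hx : ∀ i, x i = f • x (i + 1)) : x = 0 :=
  h.1 (show tele M f x = tele M f 0 by
    rw [map_zero]; exact funext fun i => sub_eq_zero.2 (hx i))

theorem exists_solve (h : DC M f) (y : ℕ → M) : ∃ x : ℕ → M, ∀ i, x i = y i + f • x (i + 1) := by
  obtain ⟨x, hx⟩ := h.2 y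
  exact ⟨x, fun i => by rw [← congrFun hx i, tele_apply, sub_add_cancel]⟩

/-- The summation operator. -/
noncomputable def sum (h : DC M f) : Sum f M where
  V := (LinearMap.proj 0 : (ℕ → M) →ₗ[A] M) ∘ₗ (LinearEquiv.ofBijective (tele M f) h).symm.toLinearMap
  eq y := by
    let e := LinearEquiv.ofBijective (tele M f) h
    have hshift : e (fun i => e.symm y (i + 1)) = fun k => y (k + 1) := by
      funext i
      exact congrFun (e.apply_symm_apply y) (i + 1)
    change e.symm y 0 = y 0 + f • e.symm (fun k => y (k + 1)) 0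
    rw [← hshift, e.symm_apply_apply]
    have : e (e.symm y) 0 = y 0 := by rw [e.apply_symm_apply]
    rw [← this]
    exact (sub_add_cancel (e.symm y 0) _).symm

theorem of_linearEquiv (h : DC M f) (e : M ≃ₗ[A] N) : DC N f := by
  refine Sum.dc ⟨e.toLinearMap ∘ₗ h.sum.V ∘ₗ e.symm.toLinearMap.compLeft ℕ, fun y => ?_⟩
  simp only [LinearMap.comp_apply, LinearEquiv.coe_coe]
  rw [h.sum.eq, map_add, map_smul]
  simp
  rfl

theorem of_subsingleton [Subsingleton M] : DC M f :=
  ⟨fun _ _ _ => Subsingleton.elim _ _, fun y => ⟨0, Subsingleton.elim _ _⟩⟩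

theorem map_sum (hM : DC M f) (hN : DC N f) (u : M →ₗ[A] N) (y : ℕ → M) :
    u (hM.sum.V y) = hN.sum.V (u ∘ y) := by
  have : (fun i => u (hM.sum.V fun k => y (i + k)) - hN.sum.V fun k => u (y (i + k))) = 0 := by
    refine hN.eq_zero fun i => ?_
    rw [hM.sum.eq, hN.sum.eq, map_add, map_smul, add_sub_add_left_eq_sub, ← smul_sub]
    simp [Nat.add_assoc, Nat.add_comm 1]
  simpa [sub_eq_zero, Function.comp_def] using congrFun this 0

theorem ker (hM : DC M f) (hN : DC N f) (u : M →ₗ[A] N) : DC (LinearMap.ker u) f := by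
  refine ⟨(injective_iff_map_eq_zero (tele _ f)).2 fun x hx => ?_, fun y => ?_⟩
  · have h0 : (fun i => (x i : M)) = 0 :=
      hM.eq_zero fun i => congrArg Subtype.val (sub_eq_zero.1 (congrFun hx i) : x i = f • x (i + 1))
    funext i
    exact Subtype.ext (congrFun h0 i)
  · obtain ⟨x, hx⟩ := hM.exists_solve fun i => (y i : M)
    have h0 : (fun i => u (x i)) = 0 := hN.eq_zero fun i => by
      rw [hx i, map_add, map_smul, LinearMap.mem_ker.1 (y i).2, zero_add]
    refine ⟨fun i => ⟨x i, LinearMap.mem_ker.2 (congrFun h0 i)⟩, funext fun i => Subtype.ext ?_⟩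
    change x i - f • x (i + 1) = (y i : M)
    rw [hx i, add_sub_cancel_right]

theorem quotient_range (hM : DC M f) (hN : DC N f) (u : M →ₗ[A] N) :
    DC (N ⧸ LinearMap.range u) f := by
  refine ⟨(injective_iff_map_eq_zero (tele _ f)).2 fun x hx => ?_, fun y => ?_⟩
  · choose X hX using fun i => Submodule.mkQ_surjective (LinearMap.range u) (x i)
    have hz : ∀ i, ∃ z, u z = X i - f • X (i + 1) := fun i => by
      refine LinearMap.mem_range.1 ((Submodule.Quotient.mk_eq_zero _).1 ?_)
      have := congrFun hx i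
      rw [tele_apply, ← hX i, ← hX (i + 1), ← map_smul, ← map_sub] at this
      exact this
    choose z hz using hz
    obtain ⟨w, hw⟩ := hM.exists_solve z
    have h0 : (fun i => X i - u (w i)) = 0 := hN.eq_zero fun i => by
      rw [hw i, map_add, map_smul, hz i, smul_sub]
      abel
    funext i
    rw [← hX i]
    exact (Submodule.Quotient.mk_eq_zero _).2 ⟨w i, (sub_eq_zero.1 (congrFun h0 i)).symm⟩
  · choose Y hY using fun i => Submodule.mkQ_surjective (LinearMap.range u) (y i)
    obtain ⟨x, hx⟩ := hN.exists_solve Y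
    refine ⟨fun i => (LinearMap.range u).mkQ (x i), funext fun i => ?_⟩
    rw [tele_apply, ← map_smul, ← map_sub, hx i, add_sub_cancel_right, hY i]

theorem range (hM : DC M f) (hN : DC N f) (u : M →ₗ[A] N) : DC (LinearMap.range u) f :=
  ((hM.ker hN u).quotient_range hM (LinearMap.ker u).subtype).of_linearEquiv
    ((Submodule.quotEquivOfEq _ _ (Submodule.range_subtype _)).trans u.quotKerEquivRange)

theorem extension (P : Submodule A M) (h₁ : DC P f) (h₃ : DC (M ⧸ P) f) : DC M f := by
  refine ⟨(injective_iff_map_eq_zero (tele M f)).2 fun x hx => ?_, fun y => ?_⟩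
  · have hx' : ∀ i, x i = f • x (i + 1) := fun i => sub_eq_zero.1 (congrFun hx i)
    have h0 : (fun i => P.mkQ (x i)) = 0 := h₃.eq_zero fun i => by rw [← map_smul, ← hx' i]
    have hP : ∀ i, x i ∈ P := fun i => (Submodule.Quotient.mk_eq_zero _).1 (congrFun h0 i)
    have := h₁.eq_zero (x := fun i => (⟨x i, hP i⟩ : P)) fun i => Subtype.ext (hx' i)
    funext i
    exact congrArg Subtype.val (congrFun this i)
  · obtain ⟨x, hx⟩ := h₃.exists_solve fun i => P.mkQ (y i)
    choose X hX using fun i => Submodule.mkQ_surjective P (x i)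
    have hd : ∀ i, y i - (X i - f • X (i + 1)) ∈ P := fun i => by
      refine (Submodule.Quotient.mk_eq_zero _).1 ?_
      change P.mkQ _ = 0
      rw [map_sub, map_sub, map_smul, hX, hX, hx i, add_sub_cancel_right, sub_self]
    obtain ⟨z, hz⟩ := h₁.exists_solve fun i => ⟨_, hd i⟩
    refine ⟨fun i => X i + z i, funext fun i => ?_⟩
    have := congrArg Subtype.val (hz i)
    rw [Submodule.coe_add, Submodule.coe_smul] at this
    change (X i + (z i : M)) - f • (X (i + 1) + (z (i + 1) : M)) = y i
    rw [this]
    module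

theorem pi {ι : Type*} {M : ι → Type v} [∀ j, AddCommGroup (M j)] [∀ j, Module A (M j)]
    (h : ∀ j, DC (M j) f) : DC (∀ j, M j) f := by
  refine Sum.dc ⟨LinearMap.pi fun j => (h j).sum.V ∘ₗ (LinearMap.proj j).compLeft ℕ, fun y => ?_⟩
  funext j
  exact (h j).sum.eq fun k => y k j

end DC

/-- Derived completeness at `f` does not depend on the ring. -/
theorem dc_algebraMap_iff {B : Type*} [CommRing B] [Algebra A B] [Module B M] [IsScalarTower A B M]
    (f : A) : DC M (algebraMap A B f) ↔ DC M f := by
  have : (tele M (algebraMap A B f) : (ℕ → M) → (ℕ → M)) = tele M f :=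
    funext fun x => funext fun i => by simp [tele_apply, algebraMap_smul]
  rw [DC, DC, this]

variable (M) in
/-- The elements at which `M` is derived complete. -/
def dcIdeal : Ideal A where
  carrier := {f | DC M f}
  zero_mem' := Sum.dc ⟨LinearMap.proj 0, fun y => by simp⟩
  smul_mem' c f (hf : DC M f) := Sum.dc
    ⟨hf.sum.V ∘ₗ LinearMap.pi fun k => c ^ k • LinearMap.proj k, fun y => by
      simp only [LinearMap.comp_apply, smul_eq_mul]
      rw [hf.sum.eq, mul_comm c f, mul_smul, ← map_smul hf.sum.V c]
      congr 3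
      · simp
      · funext k
        simp [pow_succ', mul_smul]⟩
  add_mem' {f g} (hf : DC M f) (hg : DC M g) := by
    let W : (ℕ → ℕ → M) →ₗ[A] M := hg.sum.V ∘ₗ LinearMap.pi fun b =>
      hf.sum.V ∘ₗ LinearMap.pi fun a => LinearMap.proj b ∘ₗ LinearMap.proj a
    have hW : ∀ F : ℕ → ℕ → M, W F = hg.sum.V fun b => hf.sum.V fun a => F a b := fun F => rfl
    have Wl : ∀ F : ℕ → ℕ → M, (∀ a, F a 0 = 0) → W F = g • W fun a b => F a (b + 1) := fun F hF => by
      rw [hW, hW, hg.sum.eq, show (fun a => F a 0) = (0 : ℕ → M) from funext hF, map_zero, zero_add]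
    have Wr : ∀ F : ℕ → ℕ → M, (∀ b, F 0 b = 0) → W F = f • W fun a b => F (a + 1) b := fun F hF => by
      rw [hW, hW, ← map_smul]
      congr 1
      funext b
      rw [hf.sum.eq, hF, zero_add]
      rfl
    have Wrec : ∀ F : ℕ → ℕ → M, W F = F 0 0 + f • (W fun a b => F (a + 1) b) +
        g • (W fun a b => F a (b + 1)) - (f * g) • (W fun a b => F (a + 1) (b + 1)) := fun F => by
      simp only [hW]
      rw [hg.sum.eq, hf.sum.eq (fun a => F a 0), hg.sum.eq (fun b => hf.sum.V fun a => F (a + 1) b),
        smul_add, mul_smul]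
      abel
    let G : (ℕ → M) →ₗ[A] M :=
      W ∘ₗ LinearMap.pi fun a => LinearMap.pi fun b => ((a + b).choose a : A) • LinearMap.proj (a + b)
    refine Sum.dc ⟨G, fun y => ?_⟩
    have hG : ∀ z : ℕ → M, G z = W fun a b => ((a + b).choose a : A) • z (a + b) := fun z => rfl
    rw [hG, hG, Wrec]
    let H : ℕ → ℕ → M := fun a b => ((a + b).choose a : A) • y (a + b + 1)
    let D : ℕ → ℕ → M := fun a b => ((a + b).choose (a + 1) : A) • y (a + b + 1)
    let E : ℕ → ℕ → M := fun a b => if a = 0 then 0 else ((a + b).choose (a - 1) : A) • y (a + b + 1)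
    have e₁ : (fun a b => ((a + 1 + b).choose (a + 1) : A) • y (a + 1 + b)) = H + D := by
      funext a b
      simp only [H, D, Pi.add_apply]
      rw [show a + 1 + b = a + b + 1 by omega, Nat.choose_succ_succ' (a + b) a, Nat.cast_add, add_smul]
    have e₂ : (fun a b => ((a + (b + 1)).choose a : A) • y (a + (b + 1))) = H + E := by
      funext a b
      simp only [H, E, Pi.add_apply]
      cases a with
      | zero => simp
      | succ a =>
        rw [if_neg (by omega), show a + 1 + (b + 1) = a + 1 + b + 1 by omega,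
          Nat.choose_succ_succ' (a + 1 + b) a, Nat.cast_add, add_smul, add_tsub_cancel_right, add_comm]
    have hD : W D = g • W fun a b => D a (b + 1) := Wl D fun a => by simp [D]
    have hE : W E = f • W fun a b => E (a + 1) b := Wr E fun b => by simp [E]
    have e₃ : (fun a b => ((a + 1 + (b + 1)).choose (a + 1) : A) • y (a + 1 + (b + 1))) =
        (fun a b => D a (b + 1)) + fun a b => E (a + 1) b := by
      funext a b
      simp only [D, E, Pi.add_apply, if_neg (Nat.succ_ne_zero a), add_tsub_cancel_right]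
      rw [show a + 1 + (b + 1) = a + (b + 1) + 1 by omega, Nat.choose_succ_succ' (a + (b + 1)) a,
        show a + 1 + b = a + (b + 1) by omega, Nat.cast_add, add_smul, add_comm]
    change _ = y 0 + (f + g) • W H
    rw [e₁, e₂, e₃, map_add, map_add, map_add, hD, hE]
    simp only [smul_add, add_smul, mul_smul, Nat.zero_add, Nat.choose_zero_right, Nat.cast_one, one_smul,
      smul_comm g f]
    abel

theorem mem_dcIdeal {f : A} : f ∈ dcIdeal M ↔ DC M f := Iff.rfl

end Groth.Agent.DCpl
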