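import Groth.Agent.Lib.DMod.PCModule
import Groth.Agent.Lib.DCpl.Module
import Groth.Prelude.Def_DRing3
import Mathlib.Algebra.Homology.DerivedCategory.FullyFaithful
import Mathlib.RingTheory.Localization.Away.Basic
import Mathlib.Algebra.Category.ModuleCat.Projective
import Mathlib.LinearAlgebra.Finsupp.LSum

/-!
Derived completeness in `D(A)` in terms of the cohomology modules.
-/

set_option autoImplicit false
set_option linter.unusedSectionVars false

universe u

open CategoryTheory CategoryTheory.Limits CategoryTheory.Pretriangulated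

attribute [local instance] HasDerivedCategory.standard

namespace Groth.Agent.DCpl

open DMod

variable {A : Type u} [CommRing A]

/-- A morphism out of a module in degree zero, on cohomology. -/
noncomputable def θ (F : ModuleCat.{u} A) (X : Dual.D A) (t : (single 0).obj F ⟶ X) : F ⟶ (HH 0).obj X :=
  ((DerivedCategory.singleFunctorCompHomologyFunctorIso (ModuleCat.{u} A) 0).app F).inv ≫ (HH 0).map t

theorem θ_comp (F : ModuleCat.{u} A) {X Y : Dual.D A} (t : (single 0).obj F ⟶ X) (g : X ⟶ Y) :
    θ F Y (t ≫ g) = θ F X t ≫ (HH 0).map g := by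
  rw [θ, Functor.map_comp]; exact (Category.assoc _ _ _).symm

theorem θ_comp_left {F G : ModuleCat.{u} A} (u : F ⟶ G) {X : Dual.D A} (t : (single 0).obj G ⟶ X) :
    θ F X ((single 0).map u ≫ t) = u ≫ θ G X t := by
  rw [θ, θ, Functor.map_comp]
  exact ((DerivedCategory.singleFunctorCompHomologyFunctorIso (ModuleCat.{u} A) 0).inv.naturality_assoc
    u _).symm

theorem θ_single_bijective (F H : ModuleCat.{u} A) : Function.Bijective (θ F ((single 0).obj H)) := by
  let e := DerivedCategory.singleFunctorCompHomologyFunctorIso (ModuleCat.{u} A) 0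
  have h : ∀ u : F ⟶ H, θ F ((single 0).obj H) ((single 0).map u) = u ≫ (e.app H).inv := fun u =>
    (e.inv.naturality u).symm
  have hs : Function.Bijective ((single 0).map (X := F) (Y := H)) :=
    ⟨(DerivedCategory.singleFunctor (ModuleCat.{u} A) 0).map_injective,
      (DerivedCategory.singleFunctor (ModuleCat.{u} A) 0).map_surjective⟩
  refine ⟨fun a b hab => ?_, fun u => ⟨(single 0).map (u ≫ (e.app H).hom), by
    rw [h, Category.assoc, Iso.hom_inv_id, Category.comp_id]⟩⟩
  obtain ⟨a, rfl⟩ := hs.2 a
  obtain ⟨b, rfl⟩ := hs.2 b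
  rw [h, h, cancel_mono] at hab
  rw [hab]

theorem θ_bijective_transfer (F : ModuleCat.{u} A) {X Y : Dual.D A} (g : X ⟶ Y)
    (hg : Function.Bijective fun t : (single 0).obj F ⟶ X => t ≫ g) [IsIso ((HH 0).map g)] :
    Function.Bijective (θ F X) ↔ Function.Bijective (θ F Y) := by
  have h : θ F Y ∘ (fun t => t ≫ g) = (fun u => u ≫ (HH 0).map g) ∘ θ F X :=
    funext fun t => θ_comp F t g
  have hi : Function.Bijective fun u : F ⟶ (HH 0).obj X => u ≫ (HH 0).map g :=
    ⟨fun a b hab => (cancel_mono _).1 hab, fun u => ⟨u ≫ inv ((HH 0).map g), by simp⟩⟩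
  rw [← Function.Bijective.of_comp_iff _ hg, h, Function.Bijective.of_comp_iff' hi]

theorem eq_zero_of_isLE (F : ModuleCat.{u} A) [Projective F] {Y : Dual.D A} [Y.IsLE (-1)]
    (t : (single 0).obj F ⟶ Y) : t = 0 := by
  let P : DRing.Cx A := (HomologicalComplex.single (ModuleCat.{u} A) (ComplexShape.up ℤ) 0).obj F
  have : ∀ i, Projective (P.X i) := fun i => by
    by_cases hi : i = 0
    · subst hi
      exact Projective.of_iso (HomologicalComplex.singleObjXSelf (ComplexShape.up ℤ) 0 F).symm inferInstance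
    · exact (HomologicalComplex.isZero_single_obj_X (ComplexShape.up ℤ) 0 F i hi).projective
  have : P.IsKProjective := P.isKProjective_of_projective 0
  let e := (DerivedCategory.singleFunctorIsoCompQ (ModuleCat.{u} A) 0).app F
  have h : e.inv ≫ t = 0 := hom_eq_zero (P := P) 0 (-1) (by omega) _
  exact (cancel_epi e.inv).1 (h.trans comp_zero.symm)

/-- Morphisms out of a projective module are maps on cohomology. -/
theorem θ_bijective (F : ModuleCat.{u} A) [Projective F] (X : Dual.D A) :
    Function.Bijective (θ F X) := by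
  have hF : ((single 0).obj F).IsLE 0 := inferInstance
  -- reduce to `X ≤ 0`
  let X' := ((tS A).truncLT 1).obj X
  have : X'.IsLE 0 := (tS A).isLE_truncLT_obj X 1 0 (by omega)
  let j : X' ⟶ X := ((tS A).truncLTι 1).app X
  have hT := (tS A).triangleLTGE_distinguished 1 X
  have hj : Function.Bijective fun t : (single 0).obj F ⟶ X' => t ≫ j := by
    refine ⟨fun a b hab => sub_eq_zero.1 ?_, fun t => ?_⟩
    · obtain ⟨r, hr⟩ := Triangle.coyoneda_exact₂ _ (inv_rot_of_distTriang _ hT) (a - b) (by
        change (a - b) ≫ j = 0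
        rw [Preadditive.sub_comp]; exact sub_eq_zero.2 hab)
      have : (((tS A).truncGE 1).obj X).IsGE 1 := inferInstanceAs ((tS A).IsGE _ 1)
      have h2 : ((((tS A).truncGE 1).obj X)⟦(-1 : ℤ)⟧).IsGE 2 := (tS A).isGE_shift _ 1 (-1) 2 (by omega)
      have : r = 0 := (tS A).zero_of_isLE_of_isGE r 0 2 (by omega) hF h2
      rw [hr, this]; exact zero_comp
    · obtain ⟨r, hr⟩ := Triangle.coyoneda_exact₂ _ hT t (by
        exact (tS A).zero_of_isLE_of_isGE _ 0 1 (by omega) hF (inferInstanceAs ((tS A).IsGE _ 1)))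
      exact ⟨r, hr.symm⟩
  have : IsIso ((HH 0).map j) := DerTrunc.isIso_homology_truncLTι X 1 0 (by omega)
  rw [← θ_bijective_transfer F j hj]
  -- the case `X ≤ 0`
  obtain ⟨K', f, g, w, hw, hK', -, hg⟩ := exists_top_triangle X' 0
  have := hg
  have : K'.IsLE (-1) := hK'
  have hg' : Function.Bijective fun t : (single 0).obj F ⟶ X' => t ≫ g := by
    refine ⟨fun a b hab => sub_eq_zero.1 ?_, fun t => ?_⟩
    · obtain ⟨r, hr⟩ := Triangle.coyoneda_exact₂ _ hw (a - b) (by
        change (a - b) ≫ g = 0
        rw [Preadditive.sub_comp]; exact sub_eq_zero.2 hab)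
      rw [hr, show r = 0 from eq_zero_of_isLE F (Y := K') r]; exact zero_comp
    · have h2 : (K'⟦(1 : ℤ)⟧).IsLE (-2) := (tS A).isLE_shift K' (-1) 1 (-2) (by omega)
      have : (K'⟦(1 : ℤ)⟧).IsLE (-1) := (tS A).isLE_of_le _ (-2) _ (by omega)
      obtain ⟨r, hr⟩ := Triangle.coyoneda_exact₃ _ hw t (eq_zero_of_isLE F (Y := K'⟦(1 : ℤ)⟧) _)
      exact ⟨r, hr.symm⟩
  rw [θ_bijective_transfer F g hg']
  exact θ_single_bijective F _

/-! ### The telescope of a localization -/

variable (f : A)

/-- The free module on a countable set. -/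
noncomputable abbrev freeNat (A : Type u) [CommRing A] : ModuleCat.{u} A := ModuleCat.of A (ℕ →₀ A)

/-- `e i ↦ e i - f • e (i + 1)`. -/
noncomputable def teleMap : (ℕ →₀ A) →ₗ[A] (ℕ →₀ A) :=
  LinearMap.id - f • Finsupp.lmapDomain A A Nat.succ

theorem teleMap_single (i : ℕ) :
    teleMap f (Finsupp.single i 1) = Finsupp.single i 1 - f • Finsupp.single (i + 1) 1 := by
  simp [teleMap]

/-- `e i ↦ 1 / f ^ i`. -/
noncomputable def invPowMap : (ℕ →₀ A) →ₗ[A] Localization.Away f :=
  Finsupp.linearCombination A fun i => IsLocalization.Away.invSelf (S := Localization.Away f) f ^ i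

theorem algebraMap_mul_invSelf_pow (a : A) (i n : ℕ) :
    algebraMap A (Localization.Away f) (f ^ (n + i)) *
      (a • IsLocalization.Away.invSelf (S := Localization.Away f) f ^ i) =
      algebraMap A (Localization.Away f) (a * f ^ n) := by
  have h := congrArg (· ^ i) (IsLocalization.Away.mul_invSelf (S := Localization.Away f) f)
  simp only [mul_pow, one_pow] at h
  rw [Algebra.smul_def, pow_add, map_mul, map_mul, map_pow _ f i]
  rw [show ∀ p q r s : Localization.Away f, p * q * (r * s) = r * p * (q * s) from fun p q r s => by ring,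
    h, mul_one]

theorem teleMap_range (a : A) (i n : ℕ) :
    Finsupp.single i a - Finsupp.single (i + n) (a * f ^ n) ∈ LinearMap.range (teleMap f) := by
  induction n with
  | zero => simp
  | succ n ih =>
    have h : Finsupp.single (i + n) (a * f ^ n) - Finsupp.single (i + (n + 1)) (a * f ^ (n + 1)) ∈
        LinearMap.range (teleMap f) := by
      refine ⟨(a * f ^ n) • Finsupp.single (i + n) 1, ?_⟩
      rw [map_smul, teleMap_single, smul_sub, smul_smul, Finsupp.smul_single', Finsupp.smul_single',
        mul_one, mul_one, Nat.add_assoc, pow_succ, mul_assoc]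
    simpa using add_mem ih h

theorem teleMap_exact : Function.Exact (teleMap f) (invPowMap f) := by
  classical
  intro x
  refine ⟨fun hx => ?_, ?_⟩
  · obtain ⟨N, hN⟩ : ∃ N, ∀ i ∈ x.support, i ≤ N := ⟨x.support.sup id, fun i hi => Finset.le_sup (f := id) hi⟩
    let c : A := x.sum fun i a => a * f ^ (N - i)
    have hc : x - Finsupp.single N c ∈ LinearMap.range (teleMap f) := by
      rw [show x - Finsupp.single N c = ∑ i ∈ x.support,
          (Finsupp.single i (x i) - Finsupp.single N (x i * f ^ (N - i))) by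
        rw [Finset.sum_sub_distrib, ← Finsupp.single_finsetSum]
        exact congrArg (· - Finsupp.single N c) (Finsupp.sum_single x).symm]
      refine Submodule.sum_mem _ fun i hi => ?_
      have := teleMap_range f (x i) i (N - i)
      rwa [Nat.add_sub_cancel' (hN i hi)] at this
    have hcomp : ∀ y, invPowMap f (teleMap f y) = 0 := fun y => by
      have : (invPowMap f).comp (teleMap f) = 0 := by
        refine Finsupp.lhom_ext' fun i => LinearMap.ext_ring ?_
        simp only [LinearMap.comp_apply, Finsupp.lsingle_apply, teleMap_single, map_sub, map_smul,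
          invPowMap, Finsupp.linearCombination_single, one_smul, LinearMap.zero_apply]
        rw [sub_eq_zero, Algebra.smul_def, pow_succ', ← mul_assoc, IsLocalization.Away.mul_invSelf,
          one_mul]
      exact LinearMap.congr_fun this y
    obtain ⟨y, hy⟩ := hc
    have h0 : invPowMap f (Finsupp.single N c) = 0 := by
      have := hcomp y
      rw [hy, map_sub, hx, zero_sub, neg_eq_zero] at this
      exact this
    have h1 : algebraMap A (Localization.Away f) (c * f ^ 0) = 0 := by
      rw [← algebraMap_mul_invSelf_pow f c N 0]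
      simp only [invPowMap, Finsupp.linearCombination_single] at h0
      rw [h0, mul_zero]
    obtain ⟨⟨_, m, rfl⟩, hm⟩ := (IsLocalization.map_eq_zero_iff (Submonoid.powers f) _ _).1 h1
    have h2 := teleMap_range f c N m
    have hm' : c * f ^ m = 0 := by
      simpa [mul_comm] using hm
    rw [hm', Finsupp.single_zero, sub_zero] at h2
    simpa using add_mem (show x - Finsupp.single N c ∈ LinearMap.range (teleMap f) from ⟨y, hy⟩) h2
  · rintro ⟨y, rfl⟩
    have : (invPowMap f).comp (teleMap f) = 0 := by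
      refine Finsupp.lhom_ext' fun i => LinearMap.ext_ring ?_
      simp only [LinearMap.comp_apply, Finsupp.lsingle_apply, teleMap_single, map_sub, map_smul,
        invPowMap, Finsupp.linearCombination_single, one_smul, LinearMap.zero_apply]
      rw [sub_eq_zero, Algebra.smul_def, pow_succ', ← mul_assoc, IsLocalization.Away.mul_invSelf,
        one_mul]
    exact LinearMap.congr_fun this y

theorem invPowMap_surjective : Function.Surjective (invPowMap f) := by
  intro z
  obtain ⟨⟨a, ⟨_, n, rfl⟩⟩, hz⟩ := IsLocalization.surj (Submonoid.powers f) z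
  refine ⟨Finsupp.single n a, ?_⟩
  have hu : IsUnit (algebraMap A (Localization.Away f) (f ^ (0 + n))) := by
    rw [map_pow]
    exact (IsLocalization.Away.algebraMap_isUnit f).pow _
  refine hu.mul_left_cancel ?_
  rw [invPowMap, Finsupp.linearCombination_single, algebraMap_mul_invSelf_pow, pow_zero, mul_one, ← hz,
    Nat.zero_add, mul_comm]

theorem teleMap_injective : Function.Injective (teleMap f) := by
  rw [injective_iff_map_eq_zero]
  intro x hx
  have h : ∀ i, (teleMap f x) i = 0 := fun i => by rw [hx]; rfl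
  ext i
  induction i with
  | zero =>
    have := h 0
    simp [teleMap, Finsupp.mapDomain_of_notMem_range] at this
    simpa using this
  | succ i ih =>
    have := h (i + 1)
    simp [teleMap, Finsupp.mapDomain_apply Nat.succ_injective] at this
    simpa [ih] using this

/-- The short complex `A^(ℕ) ⟶ A^(ℕ) ⟶ A_f`. -/
noncomputable def teleSC : ShortComplex (ModuleCat.{u} A) :=
  ShortComplex.mk (ModuleCat.ofHom (teleMap f)) (ModuleCat.ofHom (invPowMap f))
    (ModuleCat.hom_ext (teleMap_exact f).linearMap_comp_eq_zero)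

theorem teleSC_shortExact : (teleSC f).ShortExact where
  exact := (ShortComplex.ShortExact.moduleCat_exact_iff_function_exact _).2 (teleMap_exact f)
  mono_f := (ModuleCat.mono_iff_injective _).2 (teleMap_injective f)
  epi_g := (ModuleCat.epi_iff_surjective _).2 (invPowMap_surjective f)

theorem lift_comp_teleMap {H : Type u} [AddCommGroup H] [Module A H] (φ : (ℕ →₀ A) →ₗ[A] H) :
    (fun i => φ (teleMap f (Finsupp.single i 1))) = tele H f fun i => φ (Finsupp.single i 1) := by
  funext i
  rw [teleMap_single, map_sub, map_smul]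
  rfl

theorem precomp_teleMap_bijective_iff (H : ModuleCat.{u} A) :
    (Function.Bijective fun φ : freeNat A ⟶ H => ModuleCat.ofHom (teleMap f) ≫ φ) ↔ DC H f := by
  let e : (freeNat A ⟶ H) → (ℕ → H) := fun φ i => φ.hom (Finsupp.single i 1)
  have he : Function.Bijective e := by
    refine ⟨fun a b hab => ModuleCat.hom_ext (Finsupp.lhom_ext' fun i => LinearMap.ext_ring ?_),
      fun y => ⟨ModuleCat.ofHom (Finsupp.linearCombination A y), ?_⟩⟩
    · exact congrFun hab i
    · funext i
      simp [e]
  have h : e ∘ (fun φ => ModuleCat.ofHom (teleMap f) ≫ φ) = (tele H f) ∘ e :=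
    funext fun φ => lift_comp_teleMap f φ.hom
  rw [← Function.Bijective.of_comp_iff' he, h, Function.Bijective.of_comp_iff _ he]
  rfl

/-- Precomposition with the telescope map. -/
noncomputable abbrev teleD : (single 0).obj (freeNat A) ⟶ (single 0).obj (freeNat A) :=
  (single 0).map (ModuleCat.ofHom (teleMap f))

theorem teleD_bijective_iff (X : Dual.D A) :
    (Function.Bijective fun t : (single 0).obj (freeNat A) ⟶ X => teleD f ≫ t) ↔
      DC ((HH 0).obj X) f := by
  have : Projective (freeNat A) := (IsProjective.iff_projective (R := A) (ℕ →₀ A)).1 inferInstance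
  have hθ := θ_bijective (freeNat A) X
  have h : θ (freeNat A) X ∘ (fun t => teleD f ≫ t) =
      (fun φ => ModuleCat.ofHom (teleMap f) ≫ φ) ∘ θ (freeNat A) X :=
    funext fun t => θ_comp_left _ t
  rw [← precomp_teleMap_bijective_iff, ← Function.Bijective.of_comp_iff' hθ, h,
    Function.Bijective.of_comp_iff _ hθ]

/-- The `HD` of a shift. -/
noncomputable def hdShiftEquiv (K : Dual.D A) (n : ℤ) :
    (HH 0).obj (K⟦n⟧) ≅ (HH n).obj K :=
  ((DerivedCategory.homologyFunctor (ModuleCat.{u} A) 0).shiftIso n 0 n (by omega)).app K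

theorem forall_subsingleton_iff_of_triangle {P M : Dual.D A} {α : P ⟶ P} {π : P ⟶ M}
    {δ : M ⟶ P⟦(1 : ℤ)⟧} (hT : Triangle.mk α π δ ∈ distTriang (Dual.D A)) (K : Dual.D A) :
    (∀ n : ℤ, Subsingleton (M ⟶ K⟦n⟧)) ↔
      ∀ n : ℤ, Function.Bijective fun t : P ⟶ K⟦n⟧ => α ≫ t := by
  constructor
  · intro h i
    refine ⟨fun a b hab => sub_eq_zero.1 ?_, fun t => ?_⟩
    · obtain ⟨r, hr⟩ := Triangle.yoneda_exact₂ _ hT (a - b) (by
        change α ≫ (a - b) = 0
        rw [Preadditive.comp_sub]; exact sub_eq_zero.2 hab)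
      rw [hr, show r = 0 from @Subsingleton.elim _ (h i) _ _]; exact comp_zero
    · let c := (shiftFunctorAdd' (Dual.D A) i 1 (i + 1) rfl).app K
      have h0 : δ ≫ t⟦(1 : ℤ)⟧' = 0 := by
        have e : δ ≫ t⟦(1 : ℤ)⟧' ≫ c.inv = 0 := @Subsingleton.elim _ (h (i + 1)) _ _
        rw [← cancel_mono c.inv, Category.assoc, zero_comp]
        exact e
      have hrot : Triangle.mk π δ (-α⟦(1 : ℤ)⟧') ∈ distTriang (Dual.D A) := rot_of_distTriang _ hT
      obtain ⟨r, hr⟩ := Triangle.yoneda_exact₃ _ hrot (t⟦(1 : ℤ)⟧') h0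
      obtain ⟨r', hr'⟩ := (shiftFunctor (Dual.D A) (1 : ℤ)).map_surjective (X := P) r
      refine ⟨-r', (shiftFunctor (Dual.D A) (1 : ℤ)).map_injective ?_⟩
      have e : (-α⟦(1 : ℤ)⟧') ≫ r'⟦(1 : ℤ)⟧' = t⟦(1 : ℤ)⟧' :=
        ((congrArg ((-α⟦(1 : ℤ)⟧') ≫ ·) hr').trans hr.symm :)
      change (shiftFunctor (Dual.D A) (1 : ℤ)).map (α ≫ (-r')) = _
      rw [Functor.map_comp, Functor.map_neg, Preadditive.comp_neg, ← Preadditive.neg_comp]
      exact e
  · intro h n
    refine subsingleton_of_forall_eq 0 fun t => ?_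
    have hg : α ≫ π ≫ t = 0 := by
      rw [← Category.assoc, show α ≫ π = 0 from comp_distTriang_mor_zero₁₂ _ hT, zero_comp]
    have h0 : π ≫ t = 0 := (h n).1 (hg.trans comp_zero.symm)
    obtain ⟨r, hr⟩ := Triangle.yoneda_exact₃ _ hT t h0
    let c := (shiftFunctorAdd' (Dual.D A) (n - 1) 1 n (by omega)).app K
    obtain ⟨r', hr'⟩ := (shiftFunctor (Dual.D A) (1 : ℤ)).map_surjective (X := P) (r ≫ c.hom)
    obtain ⟨s, hs⟩ := (h (n - 1)).2 r'
    have hs' : α ≫ s = r' := hs
    have h31 : δ ≫ α⟦(1 : ℤ)⟧' = 0 := comp_distTriang_mor_zero₃₁ _ hT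
    have e : δ ≫ r ≫ c.hom = 0 := by
      rw [← hr', ← hs', Functor.map_comp, ← Category.assoc, h31, zero_comp]
    rw [← cancel_mono c.hom, zero_comp, hr]
    exact (Category.assoc _ _ _).trans e

theorem forall_subsingleton_hom_iff (K : Dual.D A) :
    (∀ n : ℤ, Subsingleton (Dual.inD A (Localization.Away f) ⟶ K⟦n⟧)) ↔
      ∀ i : ℤ, DC (Dual.HD A K i) f := by
  refine (forall_subsingleton_iff_of_triangle (α := teleD f)
    (π := (single 0).map (ModuleCat.ofHom (invPowMap f))) (δ := (teleSC_shortExact f).singleTriangle.mor₃)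
    (teleSC_shortExact f).singleTriangle_distinguished K).trans (forall_congr' fun i => ?_)
  rw [teleD_bijective_iff]
  exact ⟨fun h => h.of_linearEquiv (hdShiftEquiv K i).toLinearEquiv,
    fun h => h.of_linearEquiv (hdShiftEquiv K i).toLinearEquiv.symm⟩

theorem isDerivedComplete_iff (I : Ideal A) (K : Dual.D A) :
    DRing.IsDerivedComplete I K ↔ ∀ f ∈ I, ∀ i : ℤ, DC (Dual.HD A K i) f :=
  forall_congr' fun f => imp_congr_right fun _ => forall_subsingleton_hom_iff f K

theorem isDerivedComplete_inD_iff (I : Ideal A) (M : Type u) [AddCommGroup M] [Module A M] :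
    DRing.IsDerivedComplete I (Dual.inD A M) ↔ ∀ f ∈ I, DC M f := by
  rw [isDerivedComplete_iff]
  refine forall₂_congr fun f _ => ⟨fun h => (h 0).of_linearEquiv
    ((DerivedCategory.singleFunctorCompHomologyFunctorIso (ModuleCat.{u} A) 0).app
      (ModuleCat.of A M)).toLinearEquiv, fun h i => ?_⟩
  by_cases hi : i = 0
  · subst hi
    exact h.of_linearEquiv
      ((DerivedCategory.singleFunctorCompHomologyFunctorIso (ModuleCat.{u} A) 0).app
        (ModuleCat.of A M)).toLinearEquiv.symm
  · have : (Dual.inD A M).IsLE 0 := inferInstance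
    have : (Dual.inD A M).IsGE 0 := inferInstance
    have : Subsingleton (Dual.HD A (Dual.inD A M) i) := by
      rcases lt_or_gt_of_ne hi with h' | h'
      · exact (DMod.isGE_iff _ 0).1 inferInstance i h'
      · exact (DMod.isLE_iff _ 0).1 inferInstance i h'
    exact DC.of_subsingleton

end Groth.Agent.DCpl
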