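import Groth.Agent.Lib.DCpl.SeqCx
import Groth.Agent.Lib.DCpl.AwayHom
import Mathlib.CategoryTheory.Adjunction.PartialAdjoint
import Mathlib.Algebra.Category.ModuleCat.Descent

/-!
Derived completion exists for finitely generated ideals.
-/

set_option autoImplicit false
set_option linter.unusedSectionVars false

universe u

open CategoryTheory CategoryTheory.Limits CategoryTheory.Pretriangulated

attribute [local instance] HasDerivedCategory.standard

namespace Groth.Agent.DCpl

variable {A : Type u} [CommRing A]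

/-- All cohomology modules are derived complete at `f`. -/
def DCD (K : Dual.D A) (f : A) : Prop := ∀ i : ℤ, DC (Dual.HD A K i) f

theorem DCD.of_iso {K L : Dual.D A} {f : A} (h : DCD K f) (e : K ≅ L) : DCD L f :=
  fun i => (h i).of_linearEquiv ((DMod.HH i).mapIso e).toLinearEquiv

theorem DCD.shift {K : Dual.D A} {f : A} (h : DCD K f) (n : ℤ) : DCD (K⟦n⟧) f := fun i =>
  (h (n + i)).of_linearEquiv
    (((DerivedCategory.homologyFunctor (ModuleCat.{u} A) 0).shiftIso n i (n + i) rfl).app K).toLinearEquiv.symm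

section Localization

variable (f : A)

theorem bijective_one_tmul {M : Type u} [AddCommGroup M] [Module A M] (h : FInv M f) :
    Function.Bijective (TensorProduct.mk A (Localization.Away f) M 1) := by
  have : IsLocalizedModule (Submonoid.powers f) (TensorProduct.mk A (Localization.Away f) M 1) :=
    IsLocalization.tensorProduct_isLocalizedModule (Submonoid.powers f) (Localization.Away f)
  have hpow : ∀ n, Function.Bijective fun x : M => f ^ n • x := fun n => by
    induction n with
    | zero => simp only [pow_zero, one_smul]; exact Function.bijective_id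
    | succ n ih =>
      simp only [pow_succ, mul_smul]
      exact ih.comp h
  refine ⟨fun x y hxy => ?_, fun z => ?_⟩
  · obtain ⟨⟨_, n, rfl⟩, hn⟩ := IsLocalizedModule.exists_of_eq (S := Submonoid.powers f) hxy
    exact (hpow n).1 hn
  · obtain ⟨⟨m, ⟨_, n, rfl⟩⟩, hn⟩ := IsLocalizedModule.surj (Submonoid.powers f)
      (TensorProduct.mk A (Localization.Away f) M 1) z
    obtain ⟨m', rfl⟩ := (hpow n).2 m
    refine ⟨m', ((Module.End.isUnit_iff _).1 (IsLocalizedModule.map_units
      (TensorProduct.mk A (Localization.Away f) M 1) (⟨_, n, rfl⟩ : Submonoid.powers f))).1 ?_⟩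
    simp only [Module.algebraMap_end_apply]
    rw [← map_smul]
    exact hn.symm

theorem exists_restrict_iso (K : DRing.Cx A) (h : ∀ i, FInv (Dual.HD A (DRing.toD K) i) f) :
    ∃ E : Dual.D (Localization.Away f),
      Nonempty (DRing.toD K ≅ (DRing.restrictD (algebraMap A (Localization.Away f))).obj E) := by
  let φ := algebraMap A (Localization.Away f)
  let L := ModuleCat.extendScalars.{u, u, u} φ
  let R := ModuleCat.restrictScalars.{u} φ
  have := ModuleCat.preservesFiniteLimits_extendScalars_of_flat.{u}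
    (RingHom.flat_algebraMap_iff.2 (IsLocalization.flat (Localization.Away f) (Submonoid.powers f)))
  have : PreservesFiniteColimits L :=
    have := (ModuleCat.extendRestrictScalarsAdj.{u, u, u} φ).leftAdjoint_preservesColimits.{0, 0}
    inferInstance
  let η : 𝟭 (ModuleCat.{u} A) ⟶ L ⋙ R := (ModuleCat.extendRestrictScalarsAdj.{u, u, u} φ).unit
  let u : ((𝟭 (ModuleCat.{u} A)).mapHomologicalComplex (ComplexShape.up ℤ)).obj K ⟶
      ((L ⋙ R).mapHomologicalComplex (ComplexShape.up ℤ)).obj K :=
    (NatTrans.mapHomologicalComplex η (ComplexShape.up ℤ)).app K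
  have : QuasiIso u := by
    rw [quasiIso_iff]
    intro i
    rw [quasiIsoAt_iff_isIso_homologyMap]
    have hH : FInv (K.homology i) f := (h i).of_linearEquiv
      ((DerivedCategory.homologyFunctorFactors (ModuleCat.{u} A) i).app K).toLinearEquiv
    have hb : IsIso (η.app (K.homology i)) := by
      rw [ConcreteCategory.isIso_iff_bijective]
      let g : (ModuleCat.restrictScalars φ).obj (ModuleCat.of (Localization.Away f) (Localization.Away f)) ≃ₗ[A]
          Localization.Away f :=
        { AddEquiv.refl (Localization.Away f) with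
          map_smul' := fun a x => (@Algebra.smul_def A (Localization.Away f) _ _ _ a x).symm }
      let c := TensorProduct.congr g (LinearEquiv.refl A (K.homology i))
      refine (Function.Bijective.of_comp_iff' c.bijective _).1 ?_
      exact bijective_one_tmul f hH
    have e := NatTrans.app_homology η (K.sc i)
    have : IsIso (η.app (K.sc i).homology) := hb
    rw [e] at this
    have h2 : IsIso (ShortComplex.homologyMap ((K.sc i).mapNatTrans η) ≫
        ((K.sc i).mapHomologyIso (L ⋙ R)).hom) :=
      IsIso.of_isIso_comp_left ((K.sc i).mapHomologyIso (𝟭 _)).inv _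
    exact (IsIso.of_isIso_comp_right (ShortComplex.homologyMap ((K.sc i).mapNatTrans η))
      ((K.sc i).mapHomologyIso (L ⋙ R)).hom :)
  exact ⟨DRing.toD ((L.mapHomologicalComplex (ComplexShape.up ℤ)).obj K),
    ⟨DerivedCategory.Q.mapIso
        ((Functor.mapHomologicalComplexIdIso (ModuleCat.{u} A) (ComplexShape.up ℤ)).app K).symm ≪≫
      asIso (DerivedCategory.Q.map u) ≪≫
      (R.mapDerivedCategoryFactors.app ((L.mapHomologicalComplex (ComplexShape.up ℤ)).obj K)).symm⟩⟩

theorem subsingleton_hom_of_finv (K : DRing.Cx A) (h : ∀ i, FInv (Dual.HD A (DRing.toD K) i) f)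
    (E : Dual.D A) (hE : DCD E f) : Subsingleton (DRing.toD K ⟶ E) := by
  obtain ⟨L, ⟨e⟩⟩ := exists_restrict_iso f K h
  let g : (ModuleCat.restrictScalars (algebraMap A (Localization.Away f))).obj
      (ModuleCat.of (Localization.Away f) (Localization.Away f)) ≅ ModuleCat.of A (Localization.Away f) :=
    LinearEquiv.toModuleIso
      ({ AddEquiv.refl (Localization.Away f) with
        map_smul' := fun a x => (@Algebra.smul_def A (Localization.Away f) _ _ _ a x).symm } :
        (ModuleCat.restrictScalars (algebraMap A (Localization.Away f))).obj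
          (ModuleCat.of (Localization.Away f) (Localization.Away f)) ≃ₗ[A] Localization.Away f)
  have := subsingleton_hom_restrictD (algebraMap A (Localization.Away f)) E (fun n =>
    have := (forall_subsingleton_hom_iff f E).2 hE n
    (Iso.homCongr ((DMod.single 0).mapIso g) (Iso.refl _)).subsingleton) L
  exact (Iso.homCongr e (Iso.refl E)).subsingleton

end Localization

/-- The universal property of a completion at a set of elements. -/
def IsCpl (s : Set A) {K C : Dual.D A} (η : K ⟶ C) : Prop :=
  (∀ f ∈ s, DCD C f) ∧ ∀ E : Dual.D A, (∀ f ∈ s, DCD E f) → Function.Bijective fun t : C ⟶ E => η ≫ t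

theorem isCpl_single (f : A) (K : DRing.Cx A) :
    IsCpl {f} (DerivedCategory.Q.map (complη f K)) := by
  refine ⟨fun g hg => by rw [Set.mem_singleton_iff.1 hg]; exact dc_complCx f K, fun E hE => ?_⟩
  have hE' := hE f rfl
  have hT := DerivedCategory.triangleOfSES_distinguished (complSC_shortExact f K)
  have hN : ∀ n : ℤ, Subsingleton (DRing.toD (teleCx f K) ⟶ E⟦n⟧) := fun n =>
    subsingleton_hom_of_finv f _ (finv_teleCx f K) _ (hE'.shift n)
  refine ⟨fun a b hab => sub_eq_zero.1 ?_, fun t => ?_⟩
  · obtain ⟨r, hr⟩ := Triangle.yoneda_exact₂ _ hT (a - b) (by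
      change DerivedCategory.Q.map (complη f K) ≫ (a - b) = 0
      rw [Preadditive.comp_sub]; exact sub_eq_zero.2 hab)
    have : Subsingleton (DRing.toD (teleCx f K) ⟶ E) :=
      have := hN 0
      (Iso.homCongr (Iso.refl (DRing.toD (teleCx f K))) ((shiftFunctorZero (Dual.D A) ℤ).app E)).symm.subsingleton
    rw [hr, show r = 0 from @Subsingleton.elim (DRing.toD (teleCx f K) ⟶ E) this _ _]
    exact comp_zero
  · have h0 : (DerivedCategory.triangleOfSES (complSC_shortExact f K)).mor₃ ≫ t⟦(1 : ℤ)⟧' = 0 :=
      @Subsingleton.elim (DRing.toD (teleCx f K) ⟶ E⟦(1 : ℤ)⟧) (hN 1) _ _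
    obtain ⟨r, hr⟩ := Triangle.yoneda_exact₃ _ (rot_of_distTriang _ hT) (t⟦(1 : ℤ)⟧') h0
    obtain ⟨r', hr'⟩ := (shiftFunctor (Dual.D A) (1 : ℤ)).map_surjective (X := DRing.toD (complCx f K)) r
    refine ⟨-r', (shiftFunctor (Dual.D A) (1 : ℤ)).map_injective ?_⟩
    let a : DRing.toD K ⟶ DRing.toD (complCx f K) := DerivedCategory.Q.map (complη f K)
    have e : (-a⟦(1 : ℤ)⟧') ≫ r'⟦(1 : ℤ)⟧' = t⟦(1 : ℤ)⟧' :=
      ((congrArg ((-a⟦(1 : ℤ)⟧') ≫ ·) hr').trans hr.symm :)
    change (shiftFunctor (Dual.D A) (1 : ℤ)).map (a ≫ (-r')) = _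
    rw [Functor.map_comp, Functor.map_neg, Preadditive.comp_neg, ← Preadditive.neg_comp]
    exact e

/-- Completion at finitely many elements, preserving completeness at other elements and with bounded
amplitude. -/
theorem exists_cpl (s : List A) : ∀ K : Dual.D A, ∃ (C : Dual.D A) (η : K ⟶ C),
    IsCpl {f | f ∈ s} η ∧ (∀ g, DCD K g → DCD C g) ∧
      ∀ i : ℤ, (∀ j, i ≤ j → j ≤ i + s.length → Subsingleton (Dual.HD A K j)) →
        Subsingleton (Dual.HD A C i) := by
  induction s with
  | nil =>
    exact fun K => ⟨K, 𝟙 K, ⟨fun f hf => absurd hf (by simp), fun E _ =>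
      ⟨fun a b h => by simpa using h, fun t => ⟨t, Category.id_comp t⟩⟩⟩, fun g h => h,
      fun i h => h i le_rfl (by simp)⟩
  | cons f t ih =>
    intro K
    obtain ⟨C, η, ⟨hC, hU⟩, hp, hv⟩ := ih K
    have : (DerivedCategory.Q : DRing.Cx A ⥤ Dual.D A).EssSurj :=
      Localization.essSurj _ (HomologicalComplex.quasiIso (ModuleCat.{u} A) (ComplexShape.up ℤ))
    let L := (DerivedCategory.Q : DRing.Cx A ⥤ Dual.D A).objPreimage C
    let e : DRing.toD L ≅ C := (DerivedCategory.Q : DRing.Cx A ⥤ Dual.D A).objObjPreimageIso C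
    obtain ⟨hC', hU'⟩ := isCpl_single f L
    have hpres : ∀ g, DCD C g → DCD (DRing.toD (complCx f L)) g := fun g hg =>
      dc_complCx_of_dc f L g (hg.of_iso e.symm)
    refine ⟨DRing.toD (complCx f L), η ≫ e.inv ≫ DerivedCategory.Q.map (complη f L),
      ⟨fun g hg => ?_, fun E hE => ?_⟩, fun g hg => hpres g (hp g hg), fun i hi => ?_⟩
    · rcases List.mem_cons.1 hg with rfl | hg'
      · exact hC' _ rfl
      · exact hpres g (hC g hg')
    · have h1 := hU' E fun g hg => hE g (by rw [Set.mem_singleton_iff.1 hg]; exact List.mem_cons_self ..)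
      have h2 := hU E fun g hg => hE g (List.mem_cons_of_mem f hg)
      have : (fun x : DRing.toD (complCx f L) ⟶ E => (η ≫ e.inv ≫ DerivedCategory.Q.map (complη f L)) ≫ x) =
          (fun x : C ⟶ E => η ≫ x) ∘ (fun x : DRing.toD L ⟶ E => e.inv ≫ x) ∘
            fun x => DerivedCategory.Q.map (complη f L) ≫ x := funext fun x => by simp
      rw [this]
      have he : Function.Bijective fun x : DRing.toD L ⟶ E => e.inv ≫ x :=
        ⟨fun a b h => (cancel_epi e.inv).1 h, fun x => ⟨e.hom ≫ x, by simp⟩⟩
      exact h2.comp (he.comp h1)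
    · have key : ∀ j, Subsingleton (Dual.HD A C j) → Subsingleton (Dual.HD A (DRing.toD L) j) :=
        fun j hj => ((DMod.HH j).mapIso e).toLinearEquiv.toEquiv.subsingleton
      exact subsingleton_complCx f L i
        (key _ (hv i fun j h₁ h₂ => hi j h₁ (by simp only [List.length_cons]; omega)))
        (key _ (hv (i + 1) fun j h₁ h₂ => hi j (by omega) (by simp only [List.length_cons]; push_cast; omega)))

variable (I : Ideal A)

theorem isDerivedComplete_iff_span (s : Set A) (hs : Ideal.span s = I) (K : Dual.D A) :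
    DRing.IsDerivedComplete I K ↔ ∀ f ∈ s, DCD K f := by
  rw [isDerivedComplete_iff]
  refine ⟨fun h f hf => h f (hs ▸ Ideal.subset_span hf), fun h f hf i => ?_⟩
  exact (Ideal.span_le (I := dcIdeal (Dual.HD A K i)).2 fun g hg => h g hg i) (hs ▸ hf)

theorem hasDerivedCompletion (hI : I.FG) : DRing.HasDerivedCompletion I := by
  obtain ⟨s, hs⟩ := hI
  have hs' : Ideal.span {f | f ∈ s.toList} = I := by
    rw [← hs, show {f | f ∈ s.toList} = (s : Set A) by ext; simp]
  refine Functor.isRightAdjoint_of_leftAdjointObjIsDefined_eq_top (funext fun K => propext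
    ⟨fun _ => trivial, fun _ => ?_⟩)
  obtain ⟨C, η, ⟨hC, hU⟩, -, -⟩ := exists_cpl s.toList K
  let X : DRing.DComp I := ⟨C, (isDerivedComplete_iff_span I _ hs' C).2 hC⟩
  refine (Functor.leftAdjointObjIsDefined_iff _ _).2 ⟨⟨X, ⟨?_⟩⟩⟩
  exact
    { homEquiv := fun {Y} => (ObjectProperty.fullyFaithfulι _).homEquiv.trans
        (Equiv.ofBijective _ (hU Y.obj ((isDerivedComplete_iff_span I _ hs' Y.obj).1 Y.property)))
      homEquiv_comp := fun g f => ((Category.assoc η f.hom g.hom).symm :) }

/-- The chosen completion agrees with the constructed one. -/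
theorem nonempty_iso_of_isCpl [DRing.HasDerivedCompletion I] (s : Set A) (hs : Ideal.span s = I)
    {K C : Dual.D A} {η : K ⟶ C} (h : IsCpl s η) :
    ∃ e : ((DRing.derivedCompletion I).obj K).obj ≅ C, DRing.toDerivedCompletion I K ≫ e.hom = η := by
  let X : DRing.DComp I := ⟨C, (isDerivedComplete_iff_span I s hs C).2 h.1⟩
  let adj := DRing.derivedCompletionAdj I
  let Y := (DRing.derivedCompletion I).obj K
  have hY : ∀ f ∈ s, DCD Y.obj f := (isDerivedComplete_iff_span I s hs Y.obj).1 Y.property
  have funiv : ∀ (Z : DRing.DComp I) (a b : Y.obj ⟶ Z.obj),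
      DRing.toDerivedCompletion I K ≫ a = DRing.toDerivedCompletion I K ≫ b → a = b := fun Z a b hab => by
    have : adj.homEquiv K Z (ObjectProperty.homMk a) = adj.homEquiv K Z (ObjectProperty.homMk b) := by
      rw [adj.homEquiv_unit, adj.homEquiv_unit]; exact hab
    exact congrArg (fun t => t.hom) ((adj.homEquiv K Z).injective this)
  let u : Y ⟶ X := (adj.homEquiv K X).symm η
  have hu : DRing.toDerivedCompletion I K ≫ u.hom = η :=
    (adj.homEquiv_unit (f := u)).symm.trans ((adj.homEquiv K X).apply_symm_apply η)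
  obtain ⟨v, hv⟩ := (h.2 Y.obj hY).2 (DRing.toDerivedCompletion I K)
  have hv' : η ≫ v = DRing.toDerivedCompletion I K := hv
  refine ⟨⟨u.hom, v, funiv Y _ _ ?_, (h.2 C h.1).1 ?_⟩, hu⟩
  · rw [← Category.assoc, hu, hv', Category.comp_id]
  · change η ≫ v ≫ u.hom = η ≫ 𝟙 C
    rw [← Category.assoc, hv', hu, Category.comp_id]

end Groth.Agent.DCpl
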