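import Groth.Agent.Lib.DCpl.Bridge
import Groth.Prelude.Def_DDual2

/-!
Derived completeness: change of rings and bounded above complexes of finite free modules.
-/

set_option autoImplicit false

universe u

open CategoryTheory CategoryTheory.Limits

attribute [local instance] HasDerivedCategory.standard

namespace Groth.Agent.DCpl

variable {A : Type u} [CommRing A]

theorem dc_restrict {B : Type u} [CommRing B] (φ : A →+* B) (N : ModuleCat.{u} B) (f : A) :
    DC ((ModuleCat.restrictScalars φ).obj N) f ↔ DC N (φ f) := Iff.rfl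

theorem dc_hd_restrict {B : Type u} [CommRing B] (φ : A →+* B) (L : Dual.D B) (i : ℤ) (f : A) :
    DC (Dual.HD A ((DRing.restrictD φ).obj L) i) f ↔ DC (Dual.HD B L i) (φ f) := by
  let F := ModuleCat.restrictScalars.{u} φ
  have : (DerivedCategory.Q : DRing.Cx B ⥤ Dual.D B).EssSurj :=
    Localization.essSurj _ (HomologicalComplex.quasiIso (ModuleCat.{u} B) (ComplexShape.up ℤ))
  let K : DRing.Cx B := (DerivedCategory.Q : DRing.Cx B ⥤ Dual.D B).objPreimage L
  let e : DerivedCategory.Q.obj K ≅ L :=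
    (DerivedCategory.Q : DRing.Cx B ⥤ Dual.D B).objObjPreimageIso L
  let t : (DMod.HH i).obj ((DRing.restrictD φ).obj L) ≅ F.obj ((DMod.HH i).obj L) :=
    (DMod.HH i).mapIso ((DRing.restrictD φ).mapIso e.symm ≪≫ F.mapDerivedCategoryFactors.app K) ≪≫
      (DerivedCategory.homologyFunctorFactors (ModuleCat.{u} A) i).app _ ≪≫
      (K.sc i).mapHomologyIso F ≪≫
      F.mapIso (((DerivedCategory.homologyFunctorFactors (ModuleCat.{u} B) i).app K).symm ≪≫
        (DMod.HH i).mapIso e)
  exact ⟨fun h => (dc_restrict φ _ f).1 (h.of_linearEquiv t.toLinearEquiv),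
    fun h => ((dc_restrict φ _ f).2 h).of_linearEquiv t.toLinearEquiv.symm⟩

theorem isDerivedComplete_map_iff {B : Type u} [CommRing B] (φ : A →+* B) (I : Ideal A)
    (L : Dual.D B) :
    DRing.IsDerivedComplete (I.map φ) L ↔ DRing.IsDerivedComplete I ((DRing.restrictD φ).obj L) := by
  rw [isDerivedComplete_iff, isDerivedComplete_iff]
  refine ⟨fun h f hf i => (dc_hd_restrict φ L i f).2 (h _ (Ideal.mem_map_of_mem φ hf) i), fun h g hg i => ?_⟩
  have hle : I.map φ ≤ dcIdeal (Dual.HD B L i) :=
    Ideal.map_le_iff_le_comap.2 fun f hf => (dc_hd_restrict φ L i f).1 (h f hf i)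
  exact hle hg

theorem dc_of_finite_free {f : A} (hA : DC A f) (P : Type u) [AddCommGroup P] [Module A P]
    [Module.Finite A P] [Module.Free A P] : DC P f :=
  (DC.pi fun _ : Module.Free.ChooseBasisIndex A P => hA).of_linearEquiv
    (Module.Free.chooseBasis A P).equivFun.symm

theorem dc_homology {f : A} (S : ShortComplex (ModuleCat.{u} A)) (h₁ : DC S.X₁ f) (h₂ : DC S.X₂ f)
    (h₃ : DC S.X₃ f) : DC S.homology f :=
  (h₁.quotient_range (h₂.ker h₃ S.g.hom) S.moduleCatToCycles).of_linearEquiv
    S.moduleCatHomologyIso.toLinearEquiv.symm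

theorem isDerivedComplete_toD (I : Ideal A) (E : DRing.Cx A) (h : ∀ f ∈ I, ∀ i, DC (E.X i) f) :
    DRing.IsDerivedComplete I (DRing.toD E) := by
  rw [isDerivedComplete_iff]
  intro f hf i
  exact (dc_homology (E.sc i) (h f hf _) (h f hf _) (h f hf _)).of_linearEquiv
    ((DerivedCategory.homologyFunctorFactors (ModuleCat.{u} A) i).app E).toLinearEquiv.symm

end Groth.Agent.DCpl
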