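import Groth.Agent.Lib.DCpl.Ring
import Mathlib.RingTheory.PowerSeries.Ideal
import Mathlib.RingTheory.Filtration
import Mathlib.RingTheory.AdicCompletion.Functoriality
import Mathlib.LinearAlgebra.Pi
import Mathlib.RingTheory.Finiteness.Cardinality

/-!
Derived complete modules with finite reduction over a Noetherian ring are adically complete.
-/

set_option autoImplicit false
set_option linter.unusedSectionVars false

universe u

namespace Groth.Agent.DCpl

variable {A : Type u} [CommRing A] {M : Type u} [AddCommGroup M] [Module A M] {f : A}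

/-- `∑ f ^ k • p k • m`. -/
noncomputable def evalAt (h : DC M f) (p : PowerSeries A) : M →ₗ[A] M :=
  h.sum.V ∘ₗ LinearMap.pi fun k => PowerSeries.coeff k p • LinearMap.id

theorem evalAt_apply (h : DC M f) (p : PowerSeries A) (m : M) :
    evalAt h p m = h.sum.V fun k => PowerSeries.coeff k p • m := rfl

/-- The series `k ↦ p (i + k)`. -/
noncomputable def shiftSer (p : PowerSeries A) (i : ℕ) : PowerSeries A :=
  PowerSeries.mk fun k => PowerSeries.coeff (i + k) p

theorem shiftSer_zero (p : PowerSeries A) : shiftSer p 0 = p :=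
  PowerSeries.ext fun k => by simp [shiftSer]

theorem shiftSer_succ (p : PowerSeries A) (i : ℕ) :
    shiftSer p i = PowerSeries.C (PowerSeries.coeff i p) + PowerSeries.X * shiftSer p (i + 1) := by
  refine PowerSeries.ext fun k => ?_
  cases k with
  | zero => simp [shiftSer]
  | succ k => simp [shiftSer, Nat.add_right_comm, Nat.add_assoc, PowerSeries.coeff_C]

theorem evalAt_add (h : DC M f) (p q : PowerSeries A) : evalAt h (p + q) = evalAt h p + evalAt h q := by
  refine LinearMap.ext fun m => ?_
  simp only [evalAt_apply, LinearMap.add_apply]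
  rw [← map_add]
  simp [Pi.add_def, add_smul]

theorem evalAt_C_mul (h : DC M f) (a : A) (p : PowerSeries A) (m : M) :
    evalAt h (PowerSeries.C a * p) m = a • evalAt h p m := by
  simp only [evalAt_apply]
  rw [← map_smul]
  simp [Pi.smul_def, smul_smul]

theorem evalAt_X_mul (h : DC M f) (p : PowerSeries A) (m : M) :
    evalAt h (PowerSeries.X * p) m = f • evalAt h p m := by
  rw [evalAt_apply, h.sum.eq]
  simp [evalAt_apply]

theorem evalAt_C (h : DC M f) (a : A) (m : M) : evalAt h (PowerSeries.C a) m = a • m := by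
  rw [evalAt_apply, h.sum.eq]
  have : (fun k => PowerSeries.coeff (k + 1) (PowerSeries.C a) • m) = (0 : ℕ → M) :=
    funext fun k => by simp [PowerSeries.coeff_C]
  rw [this, map_zero, smul_zero, add_zero]
  simp

theorem evalAt_mul (h : DC M f) (p q : PowerSeries A) :
    evalAt h (p * q) = evalAt h p ∘ₗ evalAt h q := by
  refine LinearMap.ext fun m => ?_
  have hrec : ∀ (i : ℕ) (n : M), evalAt h (shiftSer p i) n =
      PowerSeries.coeff i p • n + f • evalAt h (shiftSer p (i + 1)) n := fun i n => by
    rw [shiftSer_succ p i, evalAt_add, LinearMap.add_apply, evalAt_C, evalAt_X_mul]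
  have hrec' : ∀ i : ℕ, evalAt h (shiftSer p i * q) m =
      PowerSeries.coeff i p • evalAt h q m + f • evalAt h (shiftSer p (i + 1) * q) m := fun i => by
    rw [shiftSer_succ p i, add_mul, evalAt_add, LinearMap.add_apply, evalAt_C_mul, mul_assoc, evalAt_X_mul]
  have h0 : (fun i => evalAt h (shiftSer p i * q) m - evalAt h (shiftSer p i) (evalAt h q m)) = 0 :=
    h.eq_zero fun i => by rw [hrec', hrec, smul_sub]; abel
  have := congrFun h0 0
  simpa [shiftSer_zero, sub_eq_zero] using this

/-- The ring homomorphism `A⟦X⟧ → End M` sending `X` to `f`. -/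
noncomputable def evalHom (h : DC M f) : PowerSeries A →+* Module.End A M where
  toFun p := evalAt h p
  map_one' := LinearMap.ext fun m => by
    rw [← map_one (PowerSeries.C (R := A)), evalAt_C, one_smul]; rfl
  map_zero' := LinearMap.ext fun m => by
    rw [← map_zero (PowerSeries.C (R := A)), evalAt_C, zero_smul]; rfl
  map_add' p q := evalAt_add h p q
  map_mul' p q := evalAt_mul h p q

theorem finite_quotient_quotient (f : A) (t : List A) (N : Submodule A M) (ht : ∀ a ∈ t, ∀ m : M, a • m ∈ N)
    (hfin : Module.Finite A (M ⧸ Ideal.span {g | g ∈ f :: t} • (⊤ : Submodule A M))) :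
    Module.Finite A ((M ⧸ N) ⧸ LinearMap.range (LinearMap.lsmul A (M ⧸ N) f)) := by
  let q := (LinearMap.range (LinearMap.lsmul A (M ⧸ N) f)).mkQ ∘ₗ N.mkQ
  refine Module.Finite.of_surjective
    (Submodule.liftQ (Ideal.span {g | g ∈ f :: t} • (⊤ : Submodule A M)) q ?_) ?_
  · refine Submodule.smul_le.2 fun r hr m _ => ?_
    refine (Ideal.span_le (I := (LinearMap.ker q).comap (LinearMap.toSpanSingleton A M m))).2 (fun a ha => ?_) hr
    rcases List.mem_cons.1 ha with rfl | ha'
    · change q (a • m) = 0
      exact (Submodule.Quotient.mk_eq_zero _).2 ⟨N.mkQ m, by simp⟩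
    · change q (a • m) = 0
      rw [LinearMap.comp_apply, (show N.mkQ (a • m) = 0 from (Submodule.Quotient.mk_eq_zero N).2 (ht a ha' m)), map_zero]
  · intro z
    obtain ⟨z', rfl⟩ := Submodule.mkQ_surjective _ z
    obtain ⟨z'', rfl⟩ := Submodule.mkQ_surjective _ z'
    exact ⟨Submodule.mkQ _ z'', rfl⟩

theorem iInf_pow_smul_eq_zero (s : List A) :
    ∀ (A : Type u) [CommRing A] [IsNoetherianRing A] (s' : List A) (M : Type u) [AddCommGroup M]
      [Module A M], s'.length = s.length → (∀ f ∈ s', DC M f) →
      Module.Finite A (M ⧸ Ideal.span {f | f ∈ s'} • (⊤ : Submodule A M)) →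
      ∀ I : Ideal A, (∀ f ∈ I, DC M f) → ∀ x : M, (∀ n : ℕ, x ∈ (I ^ n • ⊤ : Submodule A M)) → x = 0 := by
  induction s with
  | nil =>
    intro A _ _ s' M _ _ hs' _ hfin I hI x hx
    obtain rfl : s' = [] := List.length_eq_zero_iff.1 hs'
    have hM : Module.Finite A M := by
      have e0 : Ideal.span {f | f ∈ ([] : List A)} • (⊤ : Submodule A M) = ⊥ := by simp
      exact Module.Finite.equiv ((Submodule.quotEquivOfEq _ _ e0).trans (Submodule.quotEquivOfEqBot ⊥ rfl))
    obtain ⟨⟨r, hr⟩, hrx⟩ := (Ideal.mem_iInf_smul_pow_eq_bot_iff I x).1 ((Submodule.mem_iInf _).2 hx)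
    exact congrFun ((hI r hr).eq_zero (x := fun _ => x) fun _ => hrx.symm) 0
  | cons f₀ t₀ ih =>
    intro A _ _ s' M _ _ hs' hdc hfin I hI x hx
    obtain ⟨f, t, rfl⟩ : ∃ f t, s' = f :: t := List.exists_cons_of_length_eq_add_one hs'
    have hf : DC M f := hdc f (List.mem_cons_self ..)
    let A₁ := PowerSeries A
    letI : Module A₁ M := Module.compHom M (evalHom hf)
    have hsmul : ∀ (p : A₁) (m : M), p • m = evalAt hf p m := fun _ _ => rfl
    have : IsScalarTower A A₁ M := ⟨fun a p m => by
      rw [hsmul, hsmul, PowerSeries.smul_eq_C_mul, evalAt_C_mul]⟩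
    let t₁ : List A₁ := t.map (algebraMap A A₁)
    have hdc₁ : ∀ g ∈ t₁, DC M g := fun g hg => by
      obtain ⟨a, ha, rfl⟩ := List.mem_map.1 hg
      exact (dc_algebraMap_iff a).2 (hdc a (List.mem_cons_of_mem f ha))
    let N₁ : Submodule A₁ M := Ideal.span {g | g ∈ t₁} • ⊤
    let N : Submodule A M := N₁.restrictScalars A
    -- `M / N` is derived complete at `f`, with finite reduction
    have hN : DC (M ⧸ N) f := by
      let g : (Fin t₁.length → M) →ₗ[A₁] M :=
        ∑ j : Fin t₁.length, t₁.get j • LinearMap.proj (R := A₁) (φ := fun _ => M) j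
      have hg : LinearMap.range g = N₁ := by
        refine le_antisymm ?_ (Submodule.smul_le.2 fun r hr m _ => ?_)
        · rintro _ ⟨y, rfl⟩
          simp only [g, LinearMap.sum_apply, LinearMap.smul_apply, LinearMap.proj_apply]
          exact Submodule.sum_mem _ fun j _ =>
            Submodule.smul_mem_smul (Ideal.subset_span (List.get_mem t₁ j)) trivial
        · have hspan : Ideal.span {g | g ∈ t₁} ≤ (LinearMap.range g).comap (LinearMap.toSpanSingleton A₁ M m) := by
            refine Ideal.span_le.2 fun r hr => ?_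
            obtain ⟨j, rfl⟩ := List.mem_iff_get.1 hr
            refine ⟨Pi.single j m, ?_⟩
            classical
            simp [g, Pi.single_apply]
          exact hspan hr
      exact ((DC.pi fun _ => hf).quotient_range hf (g.restrictScalars A)).of_linearEquiv
        (Submodule.quotEquivOfEq _ _ (by ext; simp [N, ← hg]))
    have : Module.Finite A ((M ⧸ N) ⧸ LinearMap.range (LinearMap.lsmul A (M ⧸ N) f)) :=
      finite_quotient_quotient f t N (fun a ha m => (Submodule.restrictScalars_mem A N₁ _).2
        (algebraMap_smul A₁ a m ▸ Submodule.smul_mem_smul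
          (Ideal.subset_span (List.mem_map_of_mem ha)) Submodule.mem_top)) hfin
    obtain ⟨k, e, he⟩ := Module.Finite.exists_fin (R := A)
      (M := (M ⧸ N) ⧸ LinearMap.range (LinearMap.lsmul A (M ⧸ N) f))
    choose e' he' using fun j => Submodule.mkQ_surjective _ (e j)
    choose E hE using fun j => Submodule.mkQ_surjective N (e' j)
    have hfin₁ : Module.Finite A₁ (M ⧸ N₁) := by
      have hstep : ∀ z : M ⧸ N, ∃ (c : Fin k → A) (z' : M ⧸ N), z = (∑ j, c j • e' j) + f • z' := fun z => by
        obtain ⟨c, hc⟩ := (Submodule.mem_span_range_iff_exists_fun A).1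
          (he ▸ Submodule.mem_top : Submodule.mkQ (LinearMap.range (LinearMap.lsmul A (M ⧸ N) f)) z ∈ _)
        obtain ⟨z', hz'⟩ := (Submodule.Quotient.eq _).1
          (show Submodule.mkQ (LinearMap.range (LinearMap.lsmul A (M ⧸ N) f)) z =
              Submodule.mkQ _ (∑ j, c j • e' j) by rw [← hc]; simp only [map_sum, map_smul, he'])
        exact ⟨c, z', by rw [show f • z' = z - ∑ j, c j • e' j from hz', add_sub_cancel]⟩
      choose c z' hc using hstep
      classical
      refine Module.finite_def.2 ⟨Finset.univ.image fun j => N₁.mkQ (E j), eq_top_iff.2 fun y _ => ?_⟩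
      obtain ⟨m, rfl⟩ := Submodule.mkQ_surjective N₁ y
      let zs : ℕ → M ⧸ N := fun i => z'^[i] (N.mkQ m)
      let p : Fin k → A₁ := fun j => PowerSeries.mk fun i => c (zs i) j
      have key : (fun i => zs i - N.mkQ (∑ j, shiftSer (p j) i • E j)) = 0 := by
        refine hN.eq_zero fun i => ?_
        rw [show zs i = (∑ j, c (zs i) j • e' j) + f • zs (i + 1) by
          simp only [zs, Function.iterate_succ_apply']; exact hc _]
        simp only [hsmul, smul_sub, ← map_smul, Finset.smul_sum]
        simp_rw [shiftSer_succ (p _) i, evalAt_add, LinearMap.add_apply, evalAt_C, evalAt_X_mul]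
        rw [Finset.sum_add_distrib, map_add, map_sum N.mkQ (fun j => PowerSeries.coeff i (p j) • E j)]
        simp only [map_smul, hE, p, PowerSeries.coeff_mk]
        abel
      have h0 := congrFun key 0
      simp only [zs, Function.iterate_zero, id, shiftSer_zero, Pi.zero_apply, sub_eq_zero] at h0
      have hm : N₁.mkQ m = ∑ j, p j • N₁.mkQ (E j) := by
        simp only [← map_smul, ← map_sum]
        exact (Submodule.Quotient.eq N₁).2 ((Submodule.Quotient.eq N).1 h0)
      rw [hm]
      exact Submodule.sum_mem _ fun j _ => Submodule.smul_mem _ _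
        (Submodule.subset_span (by simp))
    -- conclude by induction
    refine ih A₁ t₁ M (by simpa [t₁] using hs') hdc₁ hfin₁ (I.map (algebraMap A A₁)) (fun g hg => ?_) x fun n => ?_
    · exact (Ideal.map_le_iff_le_comap (K := dcIdeal M)).2 (fun a ha => (dc_algebraMap_iff a).2 (hI a ha)) hg
    · have h := hx n
      clear hx
      induction h using Submodule.smul_induction_on' with
      | smul r hr m _ =>
        rw [← algebraMap_smul A₁ r m, ← Ideal.map_pow]
        exact Submodule.smul_mem_smul (Ideal.mem_map_of_mem _ hr) trivial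
      | add y _ z _ h₁ h₂ => exact add_mem h₁ h₂

theorem isAdicComplete_of_dc_of_finite [IsNoetherianRing A] (I : Ideal A) (h : ∀ f ∈ I, DC M f)
    (hf : Module.Finite A (M ⧸ I • (⊤ : Submodule A M))) : IsAdicComplete I M := by
  obtain ⟨s, hs⟩ := IsNoetherian.noetherian I
  have hs' : Ideal.span {f | f ∈ s.toList} = I := by
    rw [← hs, show {f | f ∈ s.toList} = (s : Set A) by ext; simp]
  refine (AdicCompletion.of_bijective_iff (I := I) (M := M)).1
    ⟨AdicCompletion.of_injective_iff.2 ⟨fun x hx => ?_⟩, of_surjective_of_dc I ⟨s, hs⟩ h⟩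
  exact iInf_pow_smul_eq_zero s.toList A s.toList M rfl (fun f hf => h f (hs' ▸ Ideal.subset_span hf))
    (by rw [hs']; exact hf) I h x fun n => SModEq.zero.1 (hx n)

theorem finite_adicCompletion (I : Ideal A) (hf : Module.Finite A (M ⧸ I • (⊤ : Submodule A M))) :
    Module.Finite (AdicCompletion I A) (AdicCompletion I M) := by
  obtain ⟨k, e, he⟩ := Module.Finite.exists_fin (R := A) (M := M ⧸ I • (⊤ : Submodule A M))
  choose E hE using fun j => Submodule.mkQ_surjective _ (e j)
  let u : (Fin k → A) →ₗ[A] M := ∑ j, (LinearMap.toSpanSingleton A M (E j)).comp (LinearMap.proj j)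
  have hu : Function.Surjective (Submodule.mkQ (I • ⊤ : Submodule A M) ∘ₗ u) := fun z => by
    obtain ⟨c, hc⟩ := (Submodule.mem_span_range_iff_exists_fun A).1 (he ▸ Submodule.mem_top (x := z))
    exact ⟨c, by rw [← hc]; simp [u, hE]⟩
  have := Module.Finite.equiv (AdicCompletion.piEquivFin I k).symm
  exact Module.Finite.of_surjective (AdicCompletion.map I u)
    (AdicCompletion.map_surjective_of_mkQ_comp_surjective hu)

end Groth.Agent.DCpl
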