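import Groth.Agent.Lib.DCpl.Nakayama
import Groth.Agent.Lib.DCpl.CplTriangle
import Groth.Agent.Lib.DBaseChange.Descent
import Mathlib.RingTheory.AdicCompletion.AsTensorProduct
import Mathlib.RingTheory.AdicCompletion.Completeness

/-!
Derived completion of objects with finite cohomology over a Noetherian ring.
-/

set_option autoImplicit false
set_option linter.unusedSectionVars false

universe u

open CategoryTheory CategoryTheory.Limits CategoryTheory.Pretriangulated

attribute [local instance] HasDerivedCategory.standard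

namespace Groth.Agent.DCpl

variable {A : Type u} [CommRing A] (I : Ideal A)

/-- The restriction of an `A/I`-module, placed in degree `i`. -/
noncomputable abbrev sgl (N : ModuleCat.{u} (A ⧸ I)) (i : ℤ) : Dual.D A :=
  (DMod.single i).obj ((ModuleCat.restrictScalars.{u} (Ideal.Quotient.mk I)).obj N)

/-- Precomposition with `u` is bijective on all morphisms to modules killed by `I`. -/
def ModIso {K L : Dual.D A} (u : K ⟶ L) : Prop :=
  ∀ (N : ModuleCat.{u} (A ⧸ I)) (i : ℤ), Function.Bijective fun t : L ⟶ sgl I N i => u ≫ t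

theorem isDerivedComplete_sgl (N : ModuleCat.{u} (A ⧸ I)) (i : ℤ) :
    DRing.IsDerivedComplete I (sgl I N i) := by
  refine (isDerivedComplete_iff I _).2 fun f hf j => ?_
  by_cases hj : j = i
  · subst hj
    refine DC.of_linearEquiv ?_
      ((DerivedCategory.singleFunctorCompHomologyFunctorIso (ModuleCat.{u} A) j).app
        ((ModuleCat.restrictScalars.{u} (Ideal.Quotient.mk I)).obj N)).toLinearEquiv.symm
    have h0 : ∀ z : (ModuleCat.restrictScalars.{u} (Ideal.Quotient.mk I)).obj N, f • z = 0 := fun z => by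
      change (Ideal.Quotient.mk I f) • (z : N) = 0
      rw [Ideal.Quotient.eq_zero_iff_mem.2 hf, zero_smul]
    have e : ∀ x, tele ((ModuleCat.restrictScalars.{u} (Ideal.Quotient.mk I)).obj N) f x = x :=
      fun x => funext fun k => by rw [tele_apply, h0, sub_zero]
    exact ⟨fun a b h => (e a).symm.trans (h.trans (e b)), fun y => ⟨y, e y⟩⟩
  · have : Subsingleton (Dual.HD A (sgl I N i) j) := by
      rcases lt_or_gt_of_ne hj with h | h
      · exact (DMod.isGE_iff _ i).1 (inferInstanceAs
          (((DerivedCategory.singleFunctor (ModuleCat.{u} A) i).obj _).IsGE i)) j h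
      · exact (DMod.isLE_iff _ i).1 (inferInstanceAs
          (((DerivedCategory.singleFunctor (ModuleCat.{u} A) i).obj _).IsLE i)) j h
    exact DC.of_subsingleton

theorem ModIso.shift {K L : Dual.D A} {u : K ⟶ L} (h : ModIso I u) (N : ModuleCat.{u} (A ⧸ I)) (i : ℤ)
    (t : K⟦(1 : ℤ)⟧ ⟶ sgl I N i) : ∃ t' : L⟦(1 : ℤ)⟧ ⟶ sgl I N i, u⟦(1 : ℤ)⟧' ≫ t' = t := by
  let c : (sgl I N (i + 1))⟦(1 : ℤ)⟧ ≅ sgl I N i :=
    ((DerivedCategory.singleFunctors (ModuleCat.{u} A)).shiftIso 1 i (i + 1) (by omega)).app _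
  obtain ⟨t₀, ht₀⟩ := (shiftFunctor (Dual.D A) (1 : ℤ)).map_surjective (X := K) (Y := sgl I N (i + 1))
    (t ≫ c.inv)
  obtain ⟨t₁, ht₁⟩ := (h N (i + 1)).2 t₀
  refine ⟨t₁⟦(1 : ℤ)⟧' ≫ c.hom, ?_⟩
  have ht₁' : u ≫ t₁ = t₀ := ht₁
  rw [← Category.assoc, ← Functor.map_comp, ht₁', ht₀, Category.assoc, c.inv_hom_id, Category.comp_id]

theorem isIso_of_modIso (hI : I.FG) {C C' : Dual.D A} (u : C ⟶ C') (hC : DRing.IsDerivedComplete I C)
    (hC' : DRing.IsDerivedComplete I C') (hu : ModIso I u) : IsIso u := by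
  obtain ⟨W, π, δ, hT⟩ := distinguished_cocone_triangle u
  refine (Triangle.isZero₃_iff_isIso₁ _ hT).1 (isZero_of_hom I hI W ?_ fun N i => ?_)
  · exact (isDerivedComplete_iff I W).2 fun f hf =>
      DCD.triangle₃ hT ((isDerivedComplete_iff I C).1 hC f hf) ((isDerivedComplete_iff I C').1 hC' f hf)
  · refine subsingleton_of_forall_eq 0 fun x => ?_
    have h0 : π ≫ x = 0 := (hu N i).1 (by
      change u ≫ π ≫ x = u ≫ 0
      rw [← Category.assoc, show u ≫ π = 0 from comp_distTriang_mor_zero₁₂ _ hT, zero_comp, comp_zero])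
    obtain ⟨y, hy⟩ := Triangle.yoneda_exact₃ _ hT x h0
    obtain ⟨y', hy'⟩ := hu.shift I N i y
    rw [hy, ← hy']
    have h31 : δ ≫ u⟦(1 : ℤ)⟧' = 0 := comp_distTriang_mor_zero₃₁ _ hT
    exact (Category.assoc _ _ _).symm.trans ((congrArg (· ≫ y') h31).trans zero_comp)

theorem isCpl_of_modIso (hI : I.FG) (s : List A) (hs : Ideal.span {f | f ∈ s} = I) {K C' : Dual.D A}
    (η : K ⟶ C') (hC' : DRing.IsDerivedComplete I C') (hη : ModIso I η) : IsCpl {f | f ∈ s} η := by
  obtain ⟨C, η₀, h₀, -, -⟩ := exists_cpl s K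
  have hiff := fun E => isDerivedComplete_iff_span I {f | f ∈ s} hs E
  obtain ⟨u, hu⟩ := (h₀.2 C' ((hiff C').1 hC')).2 η
  have hu' : η₀ ≫ u = η := hu
  have : IsIso u := isIso_of_modIso I hI u ((hiff C).2 h₀.1) hC' fun N i => by
    have hb := h₀.2 _ ((hiff _).1 (isDerivedComplete_sgl I N i))
    refine ⟨fun a b hab => (hη N i).1 ?_, fun t => ?_⟩
    · change η ≫ a = η ≫ b
      rw [← hu', Category.assoc, Category.assoc]
      exact congrArg (η₀ ≫ ·) hab
    · obtain ⟨t', ht'⟩ := (hη N i).2 (η₀ ≫ t)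
      refine ⟨t', hb.1 ?_⟩
      change η₀ ≫ u ≫ t' = η₀ ≫ t
      rw [← Category.assoc, hu']
      exact ht'
  refine ⟨(hiff C').1 hC', fun E hE => ?_⟩
  have e : (fun t : C' ⟶ E => η ≫ t) = (fun t : C ⟶ E => η₀ ≫ t) ∘ fun t : C' ⟶ E => u ≫ t :=
    funext fun t => by
      change η ≫ t = η₀ ≫ u ≫ t
      rw [← Category.assoc, hu']
  rw [e]
  exact (h₀.2 E hE).comp ⟨fun a b h => (cancel_epi u).1 h, fun t => ⟨inv u ≫ t, IsIso.hom_inv_id_assoc u t⟩⟩

theorem modIso_of_isIso_ext {P Q : DRing.Cx A} (g : P ⟶ Q) (hP : DRing.IsKFlat A P)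
    (hQ : DRing.IsKFlat A Q)
    (h : ∀ j, IsIso ((ModuleCat.extendScalars.{u, u, u} (Ideal.Quotient.mk I)).map (g.f j))) :
    ModIso I (DerivedCategory.Q.map g) := by
  let φ := Ideal.Quotient.mk I
  let F := ModuleCat.restrictScalars.{u} φ
  obtain ⟨L, α, adj, hα, -⟩ := KFlat.DT.exists_derived_extCx φ
  have := hα P hP
  have := hα Q hQ
  have : ∀ j, IsIso (((DTen.extCx φ).map g).f j) := h
  have : IsIso ((DTen.extCx φ).map g) := HomologicalComplex.Hom.isIso_of_components _
  have : IsIso ((DerivedCategory.Q ⋙ L).map g) := by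
    have hn := α.naturality g
    have : IsIso ((DerivedCategory.Q ⋙ L).map g ≫ α.app Q) := by
      rw [hn]
      exact IsIso.comp_isIso' inferInstance
        (inferInstanceAs (IsIso (DerivedCategory.Q.map ((DTen.extCx φ).map g))))
    exact IsIso.of_isIso_comp_right _ (α.app Q)
  have : IsIso (L.map (DerivedCategory.Q.map g)) := this
  intro N i
  let c : (DRing.restrictD φ).obj ((DMod.single i).obj N) ≅ sgl I N i :=
    (DRing.restrictD φ).mapIso
        ((DerivedCategory.singleFunctorIsoCompQ (ModuleCat.{u} (A ⧸ I)) i).app N) ≪≫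
      F.mapDerivedCategoryFactors.app _ ≪≫
      DerivedCategory.Q.mapIso
        ((HomologicalComplex.singleMapHomologicalComplex F (ComplexShape.up ℤ) i).app N) ≪≫
      ((DerivedCategory.singleFunctorIsoCompQ (ModuleCat.{u} A) i).app (F.obj N)).symm
  let eQ := (adj.homEquiv (DRing.toD Q) ((DMod.single i).obj N)).trans (Iso.homCongr (Iso.refl _) c)
  let eP := (adj.homEquiv (DRing.toD P) ((DMod.single i).obj N)).trans (Iso.homCongr (Iso.refl _) c)
  have e : (fun t : DRing.toD Q ⟶ sgl I N i => DerivedCategory.Q.map g ≫ t) ∘ eQ =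
      eP ∘ fun t => L.map (DerivedCategory.Q.map g) ≫ t := funext fun t => by
    simp [eP, eQ, Adjunction.homEquiv_naturality_left]
  have hb : Function.Bijective fun t : L.obj (DRing.toD Q) ⟶ (DMod.single i).obj N =>
      L.map (DerivedCategory.Q.map g) ≫ t :=
    ⟨fun a b h => (cancel_epi (L.map (DerivedCategory.Q.map g))).1 h,
      fun t => ⟨inv (L.map (DerivedCategory.Q.map g)) ≫ t, IsIso.hom_inv_id_assoc _ t⟩⟩
  rw [← Function.Bijective.of_comp_iff _ eQ.bijective, e]
  exact eP.bijective.comp hb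

section Quot

variable {B : Type u} [CommRing B] [Algebra A B]

open TensorProduct in
theorem bijective_lTensor_one (e : B →ₐ[A] A ⧸ I)
    (he : RingHom.ker e.toRingHom ≤ I.map (algebraMap A B)) (X : Type u) [AddCommGroup X] [Module A X] :
    Function.Bijective ((TensorProduct.mk A B X 1).lTensor (A ⧸ I)) := by
  let ν : (A ⧸ I) ⊗[A] (B ⊗[A] X) →ₗ[A] (A ⧸ I) ⊗[A] X :=
    (LinearMap.mul' A (A ⧸ I) ∘ₗ e.toLinearMap.lTensor (A ⧸ I)).rTensor X ∘ₗ
      (TensorProduct.assoc A (A ⧸ I) B X).symm.toLinearMap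
  have hν : ν ∘ₗ (TensorProduct.mk A B X 1).lTensor (A ⧸ I) = LinearMap.id :=
    TensorProduct.ext' fun a x => by simp [ν]
  refine ⟨Function.LeftInverse.injective (g := ν) fun z => LinearMap.congr_fun hν z, ?_⟩
  rw [← LinearMap.range_eq_top, eq_top_iff]
  intro z _
  induction z using TensorProduct.induction_on with
  | zero => exact zero_mem _
  | add z w hz hw => exact add_mem (hz trivial) (hw trivial)
  | tmul a w =>
    induction w using TensorProduct.induction_on with
    | zero => rw [tmul_zero]; exact zero_mem _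
    | add z w hz hw => rw [tmul_add]; exact add_mem (hz trivial) (hw trivial)
    | tmul b x =>
      obtain ⟨c, hc⟩ := Ideal.Quotient.mk_surjective (e b)
      have hk : b - algebraMap A B c ∈ I.map (algebraMap A B) := he (by
        change e (b - algebraMap A B c) = 0
        rw [map_sub, AlgHom.commutes, sub_eq_zero]
        exact hc.symm)
      have key : ∀ k ∈ I.map (algebraMap A B), ∀ r : B, a ⊗ₜ[A] ((r * k) ⊗ₜ[A] x) = 0 := by
        intro k hk
        induction hk using Submodule.span_induction with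
        | mem k hk =>
          obtain ⟨i, hi, rfl⟩ := hk
          intro r
          rw [← Algebra.commutes, ← Algebra.smul_def, ← TensorProduct.smul_tmul' i r x,
            TensorProduct.tmul_smul, TensorProduct.smul_tmul',
            show i • a = 0 by
              rw [Algebra.smul_def, Ideal.Quotient.algebraMap_eq, Ideal.Quotient.eq_zero_iff_mem.2 hi,
                zero_mul], zero_tmul]
        | zero => intro r; simp
        | add y z _ _ hy hz => intro r; rw [mul_add, add_tmul, tmul_add, hy r, hz r, add_zero]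
        | smul t y _ hy => intro r; rw [smul_eq_mul, ← mul_assoc]; exact hy (r * t)
      refine ⟨a ⊗ₜ (c • x), ?_⟩
      rw [LinearMap.lTensor_tmul]
      have h0 := key _ hk 1
      rw [one_mul, sub_tmul, tmul_sub, sub_eq_zero] at h0
      rw [h0, TensorProduct.mk_apply, ← TensorProduct.smul_tmul, Algebra.smul_def, mul_one]

theorem isIso_ext_unit {C : Type u} [CommRing C] (φ : A →+* C) (e : C →+* A ⧸ I)
    (hφ : e.comp φ = Ideal.Quotient.mk I) (he : RingHom.ker e ≤ I.map φ) (X : ModuleCat.{u} A) :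
    IsIso ((ModuleCat.extendScalars.{u, u, u} (Ideal.Quotient.mk I)).map
      ((ModuleCat.extendRestrictScalarsAdj.{u, u, u} φ).unit.app X)) := by
  letI := φ.toAlgebra
  let e' : C →ₐ[A] A ⧸ I := { e with commutes' := fun a => RingHom.congr_fun hφ a }
  rw [ConcreteCategory.isIso_iff_bijective]
  exact bijective_lTensor_one (B := C) I e' he X

theorem isKFlat_res_ext {C : Type u} [CommRing C] (φ : A →+* C) (hflat : φ.Flat) (P : DRing.Cx A)
    (hP : DRing.IsKFlat A P) :
    DRing.IsKFlat A ((DTen.resCx φ).obj ((DTen.extCx φ).obj P)) := by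
  refine (KFlat.Module.isKFlat_iff _).1 ?_
  have h : KFlat.IsKFlat (KFlat.Module.TM A).flip
      ((DTen.resCx φ).obj ((DTen.extCx φ).obj P)) := (KFlat.isKFlat_flip_iff _).2 fun M hM => by
    have : PreservesFiniteLimits (ModuleCat.extendScalars.{u, u, u} φ) :=
      ModuleCat.preservesFiniteLimits_extendScalars_of_flat.{u} hflat
    have hM' : (((ModuleCat.extendScalars.{u, u, u} φ).mapHomologicalComplex
        (ComplexShape.up ℤ)).obj M).Acyclic := fun n => (hM n).map (ModuleCat.extendScalars.{u, u, u} φ)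
    have hK : KFlat.IsKFlat (KFlat.Module.TM C).flip ((DTen.extCx φ).obj P) :=
      KFlat.DT.isKFlat_flip (KFlat.DT.isKFlat_extCx φ hP)
    exact KFlat.acyclic_of_iso
      ((KFlat.Module.acyclic_restrictScalars_iff φ _).2 ((KFlat.isKFlat_flip_iff _).1 hK _ hM'))
      (KFlat.Module.projCxIso φ _ _)
  exact fun L hL => KFlat.acyclic_of_iso ((KFlat.isKFlat_flip_iff _).1 h L hL) (DTen.braidCx _ L)

end Quot

section Noetherian

variable [IsNoetherianRing A]

/-- The structure map of the adic completion. -/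
noncomputable abbrev cplHom : A →+* AdicCompletion I A := algebraMap A (AdicCompletion I A)

theorem exists_cplEquiv (M : ModuleCat.{u} A) [Module.Finite A M] :
    ∃ e : ((ModuleCat.restrictScalars.{u} (cplHom I)).obj
        ((ModuleCat.extendScalars.{u, u, u} (cplHom I)).obj M) : ModuleCat.{u} A) ≃ₗ[A]
          AdicCompletion I M,
      ∀ m, e ((ModuleCat.extendRestrictScalarsAdj.{u, u, u} (cplHom I)).unit.app M m) =
        AdicCompletion.of I M m := by
  let E := AdicCompletion.ofTensorProductEquivOfFiniteNoetherian I M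
  let B' := (ModuleCat.restrictScalars.{u} (cplHom I)).obj (ModuleCat.of (AdicCompletion I A) (AdicCompletion I A))
  let w : B' ≃ₗ[A] AdicCompletion I A :=
    { toFun := fun x => x, invFun := fun x => x, left_inv := fun _ => rfl, right_inv := fun _ => rfl
      map_add' := fun _ _ => rfl
      map_smul' := fun a x => (Algebra.smul_def a (show AdicCompletion I A from x)).symm }
  let t : TensorProduct A B' M ≃ₗ[A] AdicCompletion I M :=
    (TensorProduct.congr w (LinearEquiv.refl A M)).trans (E.restrictScalars A)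
  refine ⟨{ toFun := fun z => t z, invFun := fun z => t.symm z, left_inv := t.symm_apply_apply,
            right_inv := t.apply_symm_apply, map_add' := map_add t, map_smul' := fun a z => ?_ }, fun m => ?_⟩
  · change t ((cplHom I a) • z) = a • t z
    have key : ∀ (r : AdicCompletion I A) (z' : TensorProduct A (AdicCompletion I A) M),
        E (r • z') = r • E z' := fun r z' => map_smul E r z'
    refine TensorProduct.induction_on (show TensorProduct A B' M from z) ?_ (fun b m => ?_) fun x y hx hy => ?_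
    · exact (congrArg t (smul_zero (A := (ModuleCat.extendScalars.{u, u, u} (cplHom I)).obj M)
        (cplHom I a))).trans ((map_zero t).trans (by rw [map_zero, smul_zero]))
    · change E (((cplHom I a) * (show AdicCompletion I A from b)) ⊗ₜ[A] m) =
        a • E ((show AdicCompletion I A from b) ⊗ₜ[A] m)
      rw [← algebraMap_smul (AdicCompletion I A) a, ← key, TensorProduct.smul_tmul']
      rfl
    · exact (congrArg t (smul_add (A := (ModuleCat.extendScalars.{u, u, u} (cplHom I)).obj M)
        (cplHom I a) x y)).trans ((map_add t _ _).trans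
        ((congrArg₂ (· + ·) hx hy).trans (by rw [map_add, smul_add])))
  · change E ((1 : AdicCompletion I A) ⊗ₜ[A] m) = _
    simp [E]

/-- The completion of the `n`-th cohomology of a complex. -/
theorem exists_hd_equiv (P : DRing.Cx A) (n : ℤ) [Module.Finite A (Dual.HD A (DRing.toD P) n)] :
    ∃ e : Dual.HD A (DRing.toD ((DTen.resCx (cplHom I)).obj ((DTen.extCx (cplHom I)).obj P))) n ≃ₗ[A]
        AdicCompletion I (Dual.HD A (DRing.toD P) n),
      ∀ x, e ((DMod.HH n).map (DerivedCategory.Q.map ((DTen.unitCx (cplHom I)).app P)) x) =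
        AdicCompletion.of I _ x := by
  have hflat : (cplHom I).Flat := RingHom.flat_algebraMap_iff.2 inferInstance
  have := ModuleCat.preservesFiniteLimits_extendScalars_of_flat.{u} hflat
  let G := ModuleCat.extendScalars.{u, u, u} (cplHom I) ⋙ ModuleCat.restrictScalars.{u} (cplHom I)
  let τ : 𝟭 (ModuleCat.{u} A) ⟶ G := (ModuleCat.extendRestrictScalarsAdj.{u, u, u} (cplHom I)).unit
  let S := P.sc n
  let k := (DerivedCategory.homologyFunctorFactors (ModuleCat.{u} A) n).app P
  let k' := (DerivedCategory.homologyFunctorFactors (ModuleCat.{u} A) n).app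
    ((DTen.resCx (cplHom I)).obj ((DTen.extCx (cplHom I)).obj P))
  let j : (DMod.HH n).obj (DRing.toD P) ≅ S.homology := k ≪≫ (S.mapHomologyIso (𝟭 _))
  let j' : (DMod.HH n).obj (DRing.toD ((DTen.resCx (cplHom I)).obj ((DTen.extCx (cplHom I)).obj P))) ≅
      G.obj S.homology := k' ≪≫ (S.mapHomologyIso G)
  have hcomm : (DMod.HH n).map (DerivedCategory.Q.map ((DTen.unitCx (cplHom I)).app P)) ≫ j'.hom =
      j.hom ≫ τ.app S.homology := by
    have h1 := (DerivedCategory.homologyFunctorFactors (ModuleCat.{u} A) n).hom.naturality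
      ((DTen.unitCx (cplHom I)).app P)
    have h2 : HomologicalComplex.homologyMap ((DTen.unitCx (cplHom I)).app P) n =
        (S.mapHomologyIso (𝟭 _)).hom ≫ τ.app S.homology ≫ (S.mapHomologyIso G).inv :=
      ShortComplex.homologyMap_mapNatTrans S τ
    calc _ = ((DMod.HH n).map (DerivedCategory.Q.map ((DTen.unitCx (cplHom I)).app P)) ≫ k'.hom) ≫
          (S.mapHomologyIso G).hom := (Category.assoc _ _ _).symm
      _ = (k.hom ≫ HomologicalComplex.homologyMap ((DTen.unitCx (cplHom I)).app P) n) ≫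
          (S.mapHomologyIso G).hom := congrArg (· ≫ (S.mapHomologyIso G).hom) h1
      _ = _ := by
        rw [h2]
        change (k.hom ≫ (S.mapHomologyIso (𝟭 _)).hom ≫ τ.app S.homology ≫ (S.mapHomologyIso G).inv) ≫
          (S.mapHomologyIso G).hom = (k.hom ≫ (S.mapHomologyIso (𝟭 _)).hom) ≫ τ.app S.homology
        simp only [Category.assoc, Iso.inv_hom_id, Category.comp_id]
  have : Module.Finite A S.homology := Module.Finite.equiv j.toLinearEquiv
  obtain ⟨L, hL⟩ := exists_cplEquiv I S.homology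
  refine ⟨j'.toLinearEquiv.trans (L.trans ((AdicCompletion.congr I j.toLinearEquiv.symm).restrictScalars A)), fun x => ?_⟩
  change AdicCompletion.map I j.toLinearEquiv.symm.toLinearMap
    (L (j'.hom ((DMod.HH n).map (DerivedCategory.Q.map ((DTen.unitCx (cplHom I)).app P)) x))) = _
  rw [show j'.hom ((DMod.HH n).map (DerivedCategory.Q.map ((DTen.unitCx (cplHom I)).app P)) x) =
    τ.app S.homology (j.hom x) from ConcreteCategory.congr_hom hcomm x]
  refine (congrArg (AdicCompletion.map I j.toLinearEquiv.symm.toLinearMap) (hL (j.hom x))).trans ?_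
  rw [AdicCompletion.map_of]
  exact congrArg _ (j.toLinearEquiv.symm_apply_apply x)

theorem isCpl_unitCx (s : List A) (hs : Ideal.span {f | f ∈ s} = I) (P : DRing.Cx A)
    (hP : DRing.IsKFlat A P) (hfin : ∀ n, Module.Finite A (Dual.HD A (DRing.toD P) n)) :
    IsCpl {f | f ∈ s} (DerivedCategory.Q.map ((DTen.unitCx (cplHom I)).app P)) := by
  have hI : I.FG := IsNoetherian.noetherian I
  have hflat : (cplHom I).Flat := RingHom.flat_algebraMap_iff.2 inferInstance
  refine isCpl_of_modIso I hI s hs _ ?_ ?_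
  · refine (isDerivedComplete_iff I _).2 fun f hf n => ?_
    have := hfin n
    obtain ⟨e, -⟩ := exists_hd_equiv I P n
    have := AdicCompletion.isAdicComplete (M := Dual.HD A (DRing.toD P) n) hI
    exact (dc_of_isAdicComplete I hf).of_linearEquiv e.symm
  · exact modIso_of_isIso_ext I _ hP (isKFlat_res_ext (cplHom I) hflat P hP) fun j =>
      isIso_ext_unit I (cplHom I) (AdicCompletion.evalOneₐ I).toRingHom
        (AdicCompletion.evalOneₐ_comp_algebraMap_eq_mk I) (le_of_eq (AdicCompletion.ker_evalOneₐ_eq_map I hI))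
        (P.X j)

theorem exists_completion_equiv [DRing.HasDerivedCompletion I] (K : Dual.D A)
    (hK : ∀ n : ℤ, Module.Finite A (Dual.HD A K n)) (n : ℤ) :
    ∃ e : Dual.HD A ((DRing.derivedCompletion I).obj K).obj n ≃ₗ[A] AdicCompletion I (Dual.HD A K n),
      ∀ x, e ((DMod.HH n).map (DRing.toDerivedCompletion I K) x) = AdicCompletion.of I _ x := by
  obtain ⟨S, hS⟩ := IsNoetherian.noetherian I
  have hs : Ideal.span {f | f ∈ S.toList} = I := by
    rw [← hS, show {f | f ∈ S.toList} = (S : Set A) by ext; simp]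
  obtain ⟨P, hP, ⟨eK⟩⟩ := KFlat.DT.exists_rep K
  let eK' : DRing.toD P ≅ K := eK
  have : ∀ m, Module.Finite A (Dual.HD A (DRing.toD P) m) := fun m =>
    have := hK m
    Module.Finite.equiv ((DMod.HH m).mapIso eK').toLinearEquiv.symm
  have h := isCpl_unitCx I S.toList hs P hP this
  let η := eK'.inv ≫ DerivedCategory.Q.map ((DTen.unitCx (cplHom I)).app P)
  have h' : IsCpl {f | f ∈ S.toList} η := ⟨h.1, fun E hE => by
    have e : (fun t => η ≫ t) = (fun r => eK'.inv ≫ r) ∘
        fun t : _ ⟶ E => DerivedCategory.Q.map ((DTen.unitCx (cplHom I)).app P) ≫ t :=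
      funext fun t => Category.assoc _ _ _
    rw [e]
    exact Function.Bijective.comp
      ⟨fun a b hab => (cancel_epi eK'.inv).1 hab, fun t => ⟨eK'.hom ≫ t, eK'.inv_hom_id_assoc t⟩⟩ (h.2 E hE)⟩
  obtain ⟨c, hc⟩ := nonempty_iso_of_isCpl I _ hs h'
  obtain ⟨e, he⟩ := exists_hd_equiv I P n
  let a := ((DMod.HH n).mapIso eK').toLinearEquiv
  refine ⟨((DMod.HH n).mapIso c).toLinearEquiv.trans (e.trans ((AdicCompletion.congr I a).restrictScalars A)), fun x => ?_⟩
  have hx : (DMod.HH n).map c.hom ((DMod.HH n).map (DRing.toDerivedCompletion I K) x) =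
      (DMod.HH n).map (DerivedCategory.Q.map ((DTen.unitCx (cplHom I)).app P)) (a.symm x) := by
    rw [← ConcreteCategory.comp_apply, ← Functor.map_comp, hc, Functor.map_comp]
    rfl
  change AdicCompletion.map I a.toLinearMap
    (e ((DMod.HH n).map c.hom ((DMod.HH n).map (DRing.toDerivedCompletion I K) x))) = _
  rw [hx, he]
  exact (AdicCompletion.map_of I a.toLinearMap (a.symm x)).trans (congrArg _ (a.apply_symm_apply x))

end Noetherian

end Groth.Agent.DCpl
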