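import Groth.Agent.Lib.DCpl.Module
import Groth.Prelude.Def_Wider
import Mathlib.RingTheory.AdicCompletion.Basic
import Mathlib.RingTheory.Henselian
import Mathlib.RingTheory.PowerSeries.Basic
import Mathlib.RingTheory.Ideal.Quotient.Operations

/-!
Consequences of derived completeness for modules and rings.
-/

set_option autoImplicit false
set_option linter.unusedSectionVars false

universe u v

open scoped Polynomial

namespace Groth.Agent.DCpl

variable {A : Type u} [CommRing A] {M : Type v} [AddCommGroup M] [Module A M]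

theorem smul_span_pow_top (f : A) (n : ℕ) (x : M) :
    x ∈ (Ideal.span {f ^ n}) • (⊤ : Submodule A M) ↔ ∃ y : M, f ^ n • y = x := by
  rw [Submodule.ideal_span_singleton_smul, Submodule.mem_smul_pointwise_iff_exists]
  simp

theorem Sum.eq_pow {f : A} (S : Sum f M) (n : ℕ) (y : ℕ → M) :
    S.V y = (∑ k ∈ Finset.range n, f ^ k • y k) + f ^ n • S.V (fun k => y (n + k)) := by
  induction n with
  | zero => simp
  | succ n ih =>
    rw [ih, S.eq (fun k => y (n + k)), Finset.sum_range_succ, smul_add, smul_smul, ← pow_succ,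
      Nat.add_zero, add_assoc]
    simp only [Nat.add_right_comm n 1, ← Nat.add_assoc]

/-! ### Adically complete modules are derived complete -/

theorem dc_of_isAdicComplete (I : Ideal A) [IsAdicComplete I M] {f : A} (hf : f ∈ I) : DC M f := by
  have hpow : ∀ (n : ℕ) (z : M), f ^ n • z ∈ (I ^ n • ⊤ : Submodule A M) := fun n z =>
    Submodule.smul_mem_smul (Ideal.pow_mem_pow hf n) trivial
  refine ⟨(injective_iff_map_eq_zero (tele M f)).2 fun x hx => ?_, fun y => ?_⟩
  · have h : ∀ (n i : ℕ), x i = f ^ n • x (i + n) := fun n => by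
      induction n with
      | zero => simp
      | succ n ih =>
        intro i
        rw [ih i, (sub_eq_zero.1 (congrFun hx (i + n)) : x (i + n) = f • x (i + n + 1)), smul_smul,
          ← pow_succ, Nat.add_assoc]
    funext i
    refine IsHausdorff.haus' (I := I) _ fun n => ?_
    rw [SModEq.zero, h n i]
    exact hpow n _
  · have key : ∀ i, ∃ L : M, ∀ n, L - ∑ k ∈ Finset.range n, f ^ k • y (i + k) ∈
        (I ^ n • ⊤ : Submodule A M) := fun i => by
      obtain ⟨L, hL⟩ := IsPrecomplete.prec' (I := I)
        (fun n => ∑ k ∈ Finset.range n, f ^ k • y (i + k)) fun {m n} hmn => by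
          rw [SModEq.sub_mem, ← neg_mem_iff, neg_sub, ← Finset.sum_Ico_eq_sub _ hmn]
          exact Submodule.sum_mem _ fun k hk =>
            Submodule.smul_mono_left (Ideal.pow_le_pow_right (Finset.mem_Ico.1 hk).1) (hpow k _)
      exact ⟨L, fun n => by rw [← neg_mem_iff, neg_sub]; exact SModEq.sub_mem.1 (hL n)⟩
    choose L hL using key
    refine ⟨L, funext fun i => ?_⟩
    rw [tele_apply, ← sub_eq_zero]
    refine IsHausdorff.haus' (I := I) _ fun n => ?_
    rw [SModEq.zero]
    have h₁ := hL i (n + 1)
    have h₂ := (I ^ n • ⊤ : Submodule A M).smul_mem f (hL (i + 1) n)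
    rw [Finset.sum_range_succ', smul_sub, Finset.smul_sum] at *
    simp only [smul_smul, ← pow_succ', pow_zero, one_smul, Nat.add_zero] at *
    have e : (fun k => f ^ (k + 1) • y (i + (k + 1))) = fun k => f ^ (k + 1) • y (i + 1 + k) := by
      funext k
      rw [Nat.add_right_comm, Nat.add_assoc]
    rw [e] at h₁
    have := sub_mem (Submodule.smul_mono_left (Ideal.pow_le_pow_right (Nat.le_succ n)) h₁) h₂
    convert this using 1
    abel

/-! ### Divisible and torsion elements -/

theorem DC.smul_eq_zero_of_divisible {f : A} (h : DC M f) {a : A} {m : M}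
    (ha : ∀ n, a ∈ Ideal.span {f ^ n}) (hm : ∀ n, ∃ y : M, f ^ n • y = m) : a • m = 0 := by
  choose y hy using hm
  have hx : (fun i => a • y i) = 0 := h.eq_zero fun i => by
    obtain ⟨c, rfl⟩ := Ideal.mem_span_singleton'.1 (ha i)
    change (c * f ^ i) • y i = f • (c * f ^ i) • y (i + 1)
    rw [smul_smul f, show f * (c * f ^ i) = c * f ^ (i + 1) by ring, mul_smul, mul_smul, hy, hy]
  simpa [← hy 0] using congrFun hx 0

theorem DC.exists_bound {f : A} (h : DC M f) (ht : ∀ m : M, ∃ n, f ^ n • m = 0) :
    ∃ n, ∀ m : M, f ^ n • m = 0 := by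
  classical
  by_contra hc
  push Not at hc
  have hdiv : ∀ n, ∃ a : M, ∀ z : M, f ^ n • a ≠ f ^ (n + 1) • z := by
    intro n
    by_contra hd
    push Not at hd
    choose g hg using hd
    obtain ⟨m, hm⟩ := hc n
    have hs : ∀ i, f ^ n • g^[i] m = f • (f ^ n • g^[i + 1] m) := fun i => by
      rw [Function.iterate_succ_apply', smul_smul, ← pow_succ']
      exact hg _
    exact hm (congrFun (h.eq_zero hs) 0)
  choose a ha using hdiv
  let Y : ℕ → ℕ → M := fun N => Nat.rec (fun _ => 0) (fun N prev => Function.update prev N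
    (if ∃ z : M, f ^ N • (∑ k ∈ Finset.range N, f ^ k • prev k) = f ^ (N + N + 1) • z
      then a (N + N) else 0)) N
  have hY : ∀ N k, k < N → Y N k = Y (k + 1) k := by
    intro N
    induction N with
    | zero => simp
    | succ N ih =>
      intro k hk
      rcases Nat.lt_succ_iff_lt_or_eq.1 hk with h' | rfl
      · change Function.update (Y N) N _ k = _
        rw [Function.update_of_ne h'.ne, ih k h']
      · rfl
  let y : ℕ → M := fun k => Y (k + 1) k
  obtain ⟨N, hN⟩ := ht (h.sum.V y)
  let S := ∑ k ∈ Finset.range N, f ^ k • y k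
  have hS : ∑ k ∈ Finset.range N, f ^ k • Y N k = S :=
    Finset.sum_congr rfl fun k hk => by rw [hY N k (Finset.mem_range.1 hk)]
  have hyN : y N = if ∃ z : M, f ^ N • S = f ^ (N + N + 1) • z then a (N + N) else 0 := by
    change Function.update (Y N) N _ N = _
    rw [Function.update_self, ← hS]
  rw [Sum.eq_pow _ (N + 1), Finset.sum_range_succ, smul_add, smul_add, smul_smul, smul_smul, ← pow_add,
    ← pow_add, ← Nat.add_assoc, show ∑ k ∈ Finset.range N, f ^ k • y k = S from rfl] at hN
  by_cases hz : ∃ z : M, f ^ N • S = f ^ (N + N + 1) • z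
  · rw [hyN, if_pos hz] at hN
    obtain ⟨z, hz⟩ := hz
    refine ha (N + N) (-z - h.sum.V fun k => y (N + 1 + k)) ?_
    rw [smul_sub, smul_neg, ← hz, eq_sub_iff_add_eq, eq_neg_iff_add_eq_zero]
    rw [← hN]
    abel
  · rw [hyN, if_neg hz, smul_zero, add_zero] at hN
    refine hz ⟨-(h.sum.V fun k => y (N + 1 + k)), ?_⟩
    rw [smul_neg, eq_neg_iff_add_eq_zero, hN]

theorem exists_pow_smul_top_eq_bot (I : Ideal A) (hI : I.FG) (h : ∀ f ∈ I, DC M f)
    (ht : LocCoh.IsPowerTorsion I M) : ∃ n : ℕ, I ^ n • (⊤ : Submodule A M) = ⊥ := by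
  obtain ⟨n, hn⟩ : ∃ n, I ^ n ≤ Module.annihilator A M := by
    refine Ideal.exists_pow_le_of_le_radical_of_fg (fun f hf => ?_) hI
    obtain ⟨n, hn⟩ := (h f hf).exists_bound fun m => by
      obtain ⟨k, hk⟩ := ht m
      exact ⟨k, hk _ (Ideal.pow_mem_pow hf k)⟩
    exact ⟨n, Module.mem_annihilator.2 hn⟩
  exact ⟨n, le_bot_iff.1 (Submodule.smul_le.2 fun r hr m _ =>
    (Submodule.mem_bot A).2 (Module.mem_annihilator.1 (hn hr) m))⟩

/-! ### Nakayama -/

theorem subsingleton_of_smul_top_eq_top (s : List A) :
    ∀ (M : Type v) [AddCommGroup M] [Module A M], (∀ f ∈ s, DC M f) →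
      Ideal.span {f | f ∈ s} • (⊤ : Submodule A M) = ⊤ → Subsingleton M := by
  induction s with
  | nil =>
    intro M _ _ _ h
    refine Submodule.subsingleton_iff A |>.1 (subsingleton_iff_bot_eq_top.1 ?_)
    rw [← h]
    simp
  | cons f t ih =>
    intro M _ _ hdc h
    let u : M →ₗ[A] M := LinearMap.lsmul A M f
    have : Subsingleton (M ⧸ LinearMap.range u) := by
      refine ih _ (fun g hg => (hdc g (List.mem_cons_of_mem f hg)).quotient_range
        (hdc g (List.mem_cons_of_mem f hg)) u) ?_
      have hmap := congrArg (Submodule.map (LinearMap.range u).mkQ) h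
      rw [Submodule.map_top, Submodule.range_mkQ,
        show {g | g ∈ f :: t} = insert f {g | g ∈ t} by ext; simp, Ideal.span_insert,
        Submodule.sup_smul, Submodule.map_sup] at hmap
      rw [Submodule.map_smul'', Submodule.map_smul'', Submodule.map_top, Submodule.range_mkQ] at hmap
      have h0 : Ideal.span {f} • (⊤ : Submodule A (M ⧸ LinearMap.range u)) = ⊥ := by
        refine le_bot_iff.1 (Submodule.smul_le.2 fun r hr z _ => ?_)
        obtain ⟨c, rfl⟩ := Ideal.mem_span_singleton'.1 hr
        obtain ⟨m, rfl⟩ := Submodule.mkQ_surjective _ z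
        rw [Submodule.mem_bot, mul_smul, ← map_smul _ f, Submodule.mkQ_apply,
          show Submodule.Quotient.mk (f • m) = (0 : M ⧸ LinearMap.range u) from
            (Submodule.Quotient.mk_eq_zero _).2 (LinearMap.mem_range_self u m), smul_zero]
      rwa [h0, bot_sup_eq] at hmap
    have hsurj : Function.Surjective u := LinearMap.range_eq_top.1
      (Submodule.Quotient.subsingleton_iff.1 this)
    choose g hg using hsurj
    refine subsingleton_of_forall_eq 0 fun m => ?_
    exact congrFun ((hdc f (List.mem_cons_self ..)).eq_zero (x := fun i => g^[i] m) fun i => by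
      rw [Function.iterate_succ_apply']
      exact (hg _).symm) 0

/-! ### Completeness of the map to the completion -/

theorem exists_decomp (f : A) (J : Ideal A) (n : ℕ) :
    ∀ x ∈ ((Ideal.span {f} ⊔ J) ^ n • ⊤ : Submodule A M), ∃ e : ℕ → M,
      (∀ a, e a ∈ (J ^ (n - a) • ⊤ : Submodule A M)) ∧ x = ∑ a ∈ Finset.range (n + 1), f ^ a • e a := by
  induction n with
  | zero => exact fun x _ => ⟨fun _ => x, fun a => by simp, by simp⟩
  | succ n ih =>
    intro x hx
    rw [pow_succ', Submodule.mul_smul, Submodule.sup_smul, Submodule.ideal_span_singleton_smul] at hx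
    obtain ⟨p, hp, q, hq, rfl⟩ := Submodule.mem_sup.1 hx
    obtain ⟨p', hp', rfl⟩ := (Submodule.mem_smul_pointwise_iff_exists _ _ _).1 hp
    obtain ⟨e, he, rfl⟩ := ih p' hp'
    suffices H : ∃ e' : ℕ → M, (∀ a, e' a ∈ (J ^ (n + 1 - a) • ⊤ : Submodule A M)) ∧
        q = ∑ a ∈ Finset.range (n + 2), f ^ a • e' a by
      obtain ⟨e', he', rfl⟩ := H
      refine ⟨fun a => (if a = 0 then 0 else e (a - 1)) + e' a, fun a => ?_, ?_⟩
      · refine add_mem ?_ (he' a)
        split_ifs with ha
        · exact zero_mem _
        · rw [show n + 1 - a = n - (a - 1) by omega]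
          exact he (a - 1)
      · simp only [smul_add, Finset.sum_add_distrib, Finset.smul_sum]
        rw [Finset.sum_range_succ' (fun a => f ^ a • if a = 0 then 0 else e (a - 1))]
        simp [smul_smul, pow_succ']
    clear hx hp
    induction hq using Submodule.smul_induction_on' with
    | smul j hj p hp'' =>
      obtain ⟨e', he', rfl⟩ := ih p hp''
      refine ⟨fun a => if a ≤ n then j • e' a else 0, fun a => ?_, ?_⟩
      · simp only
        split_ifs with ha
        · rw [Nat.succ_sub ha, pow_succ', Submodule.mul_smul]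
          exact Submodule.smul_mem_smul hj (he' a)
        · exact zero_mem _
      · rw [Finset.sum_range_succ _ (n + 1), Finset.smul_sum]
        simp only
        rw [if_neg (show ¬ n + 1 ≤ n by omega), smul_zero, add_zero]
        exact Finset.sum_congr rfl fun a ha => by
          rw [if_pos (Nat.le_of_lt_succ (Finset.mem_range.1 ha)), smul_comm]
    | add x hx y hy h₁ h₂ =>
      obtain ⟨e₁, he₁, rfl⟩ := h₁
      obtain ⟨e₂, he₂, rfl⟩ := h₂
      exact ⟨e₁ + e₂, fun a => add_mem (he₁ a) (he₂ a), by simp [Finset.sum_add_distrib]⟩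

theorem exists_limit (s : List A) (hs : ∀ f ∈ s, DC M f) :
    ∀ d : ℕ → M, (∀ n, d n ∈ (Ideal.span {f | f ∈ s} ^ n • ⊤ : Submodule A M)) →
      ∃ L : M, ∀ n, L - ∑ k ∈ Finset.range n, d k ∈ (Ideal.span {f | f ∈ s} ^ n • ⊤ : Submodule A M) := by
  induction s with
  | nil =>
    intro d hd
    refine ⟨d 0, fun n => ?_⟩
    rcases n with _ | n
    · simp
    · rw [Finset.sum_range_succ', sub_add_cancel_right, neg_mem_iff]
      refine Submodule.sum_mem _ fun k _ => ?_
      have := hd (k + 1)
      simp at this
      simp [this]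
  | cons f t ih =>
    intro d hd
    have hI : Ideal.span {g | g ∈ f :: t} = Ideal.span {f} ⊔ Ideal.span {g | g ∈ t} := by
      rw [show {g | g ∈ f :: t} = insert f {g | g ∈ t} by ext; simp, Ideal.span_insert]
    rw [hI] at hd ⊢
    set J := Ideal.span {g | g ∈ t}
    choose e he hde using fun k => exists_decomp f J k (d k) (hd k)
    choose L hL using fun a => ih (fun g hg => hs g (List.mem_cons_of_mem f hg))
      (fun m => e (a + m) a) fun m => by simpa using he (a + m) a
    let S := (hs f (List.mem_cons_self ..)).sum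
    refine ⟨S.V L, fun n => ?_⟩
    have hsum : ∑ k ∈ Finset.range n, d k =
        ∑ a ∈ Finset.range n, f ^ a • ∑ m ∈ Finset.range (n - a), e (a + m) a := by
      induction n with
      | zero => simp
      | succ n ihn =>
        rw [Finset.sum_range_succ, ihn, hde n, Finset.sum_range_succ, Finset.sum_range_succ _ n,
          ← add_assoc, ← Finset.sum_add_distrib]
        congr 1
        · refine Finset.sum_congr rfl fun a ha => ?_
          have := Finset.mem_range.1 ha
          rw [← smul_add, Nat.succ_sub this.le, Finset.sum_range_succ, Nat.add_sub_cancel' this.le]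
        · simp
    rw [S.eq_pow n, hsum, add_sub_right_comm, ← Finset.sum_sub_distrib]
    refine add_mem (Submodule.sum_mem _ fun a ha => ?_) ?_
    · rw [← smul_sub]
      have h := Submodule.smul_mem_smul (Ideal.pow_mem_pow
        (Ideal.mem_sup_left (Ideal.mem_span_singleton_self f) : f ∈ Ideal.span {f} ⊔ J) a)
        (Submodule.smul_mono_left (Ideal.pow_right_mono (le_sup_right : J ≤ Ideal.span {f} ⊔ J) _) (hL a (n - a)))
      rw [← Submodule.mul_smul, ← pow_add, Nat.add_sub_cancel' (Finset.mem_range.1 ha).le] at h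
      exact h
    · exact Submodule.smul_mem_smul (Ideal.pow_mem_pow (Ideal.mem_sup_left (Ideal.mem_span_singleton_self f)) n)
        trivial

theorem of_surjective_of_dc (I : Ideal A) (hI : I.FG) (h : ∀ f ∈ I, DC M f) :
    Function.Surjective (AdicCompletion.of I M) := by
  obtain ⟨s, rfl⟩ := hI
  rw [AdicCompletion.of_surjective_iff]
  have hs : {f | f ∈ s.toList} = (s : Set A) := by ext; simp
  refine ⟨fun {g} hg => ?_⟩
  obtain ⟨L, hL⟩ := exists_limit s.toList (fun f hf => h f (Ideal.subset_span (by simpa using hf)))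
    (fun k => g (k + 1) - g k) fun k => by
      rw [hs, ← neg_mem_iff, neg_sub]
      exact SModEq.sub_mem.1 (hg (Nat.le_succ k))
  rw [hs] at hL
  refine ⟨g 0 + L, fun n => ?_⟩
  rw [SModEq.sub_mem, ← neg_mem_iff, neg_sub]
  have := hL n
  rw [Finset.sum_range_sub (f := g)] at this
  rw [add_sub_assoc, add_comm, sub_add]
  simpa [sub_sub_eq_add_sub, add_comm] using this

/-! ### Rings -/

theorem pow_two_pow_eq_bot (s : List A) :
    ∀ (B : Type u) [CommRing B] [Algebra A B], (∀ f ∈ s, DC B f) →
      (⨅ n : ℕ, (Ideal.span {f | f ∈ s}).map (algebraMap A B) ^ n) ^ (2 ^ s.length) = ⊥ := by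
  induction s with
  | nil =>
    intro B _ _ _
    refine le_bot_iff.1 ?_
    rw [List.length_nil, pow_zero, pow_one]
    refine (iInf_le _ 1).trans ?_
    simp
  | cons f t ih =>
    intro B _ _ hdc
    set x := algebraMap A B f
    set I := (Ideal.span {g | g ∈ f :: t}).map (algebraMap A B) with hIdef
    have hstep : ∀ n, (⨅ k : ℕ, I ^ k) ^ (2 ^ t.length) ≤ Ideal.span {x ^ n} := by
      intro n
      let Q := B ⧸ Ideal.span {x ^ n}
      let u : B →ₗ[A] B := LinearMap.lsmul A B (f ^ n)
      let e : (B ⧸ LinearMap.range u) ≃ₗ[A] Q :=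
        (Submodule.quotEquivOfEq _ ((Ideal.span {x ^ n}).restrictScalars A) (by
          ext b
          simp [u, Ideal.mem_span_singleton', Algebra.smul_def, x, mul_comm])).trans
          (Submodule.Quotient.restrictScalarsEquiv A _)
      have h := ih Q fun g hg => ((hdc g (List.mem_cons_of_mem f hg)).quotient_range
        (hdc g (List.mem_cons_of_mem f hg)) u).of_linearEquiv e
      rw [← Ideal.mk_ker (I := Ideal.span {x ^ n}), ← Ideal.map_eq_bot_iff_le_ker, Ideal.map_pow,
        ← le_bot_iff, ← h]
      refine Ideal.pow_right_mono (le_iInf fun k => ?_) _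
      refine (Ideal.map_mono (iInf_le _ (n + k))).trans ?_
      rw [Ideal.map_pow, hIdef, show {g | g ∈ f :: t} = insert f {g | g ∈ t} by ext; simp,
        Ideal.span_insert, Ideal.map_sup, Ideal.map_sup, Ideal.map_map,
        show (Ideal.Quotient.mk (Ideal.span {x ^ n})).comp (algebraMap A B) = algebraMap A Q from rfl]
      refine Ideal.sup_pow_add_le_pow_sup_pow.trans (sup_le ?_ (le_of_eq (by rw [Ideal.map_map]; rfl)))
      rw [Ideal.map_span, Set.image_singleton, Ideal.span_singleton_pow, Ideal.span_singleton_le_iff_mem]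
      have : (algebraMap A Q f) ^ n = 0 := by
        change (Ideal.Quotient.mk (Ideal.span {x ^ n}) x) ^ n = 0
        exact (map_pow _ x n).symm.trans
          (Ideal.Quotient.eq_zero_iff_mem.2 (Ideal.mem_span_singleton_self (x ^ n)))
      rw [this]
      exact zero_mem _
    rw [List.length_cons, pow_succ, mul_two, pow_add, eq_bot_iff, Ideal.mul_le]
    intro a ha b hb
    rw [Ideal.mem_bot, ← smul_eq_mul]
    refine ((dc_algebraMap_iff f).2 (hdc f (List.mem_cons_self ..))).smul_eq_zero_of_divisible
      (fun n => hstep n ha) fun n => ?_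
    obtain ⟨c, hc⟩ := Ideal.mem_span_singleton'.1 (hstep n hb)
    exact ⟨c, by rw [smul_eq_mul, mul_comm]; exact hc⟩

/-! ### Henselian pairs -/


theorem isUnit_of_dc {c : A} (h : DC A c) : IsUnit (1 - c) := by
  refine IsUnit.of_mul_eq_one (h.sum.V fun _ => 1) ?_
  rw [sub_mul, one_mul, ← smul_eq_mul c]
  exact sub_eq_of_eq_add (h.sum.eq fun _ => 1)

theorem isAdicComplete_powerSeries : IsAdicComplete (Ideal.span {(PowerSeries.X : PowerSeries A)})
    (PowerSeries A) where
  haus' p hp := PowerSeries.ext fun k => by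
    have := hp (k + 1)
    rw [SModEq.zero, Ideal.span_singleton_pow, smul_eq_mul, Ideal.mul_top, Ideal.mem_span_singleton,
      PowerSeries.X_pow_dvd_iff] at this
    simpa using this k (Nat.lt_succ_self k)
  prec' g hg := by
    refine ⟨PowerSeries.mk fun k => PowerSeries.coeff k (g (k + 1)), fun n => ?_⟩
    rw [SModEq.sub_mem, Ideal.span_singleton_pow, smul_eq_mul, Ideal.mul_top, Ideal.mem_span_singleton,
      PowerSeries.X_pow_dvd_iff]
    intro k hk
    rw [map_sub, PowerSeries.coeff_mk, sub_eq_zero]
    have := hg (show k + 1 ≤ n by omega)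
    rw [SModEq.sub_mem, Ideal.span_singleton_pow, smul_eq_mul, Ideal.mul_top, Ideal.mem_span_singleton,
      PowerSeries.X_pow_dvd_iff] at this
    have := this k (Nat.lt_succ_self k)
    rw [map_sub, sub_eq_zero] at this
    exact this.symm

theorem exists_evalHom {c : A} (h : DC A c) : ∃ φ : PowerSeries A →+* A,
    (∀ a, φ (PowerSeries.C a) = a) ∧ φ PowerSeries.X = c := by
  let V : PowerSeries A → A := fun p => h.sum.V fun k => PowerSeries.coeff k p
  have hadd : ∀ p q, V (p + q) = V p + V q := fun p q => by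
    simp only [V]
    rw [← map_add]
    simp [Pi.add_def]
  have hrec : ∀ p, V p = PowerSeries.constantCoeff p +
      c * h.sum.V fun k => PowerSeries.coeff (k + 1) p := fun p => by
    rw [← PowerSeries.coeff_zero_eq_constantCoeff_apply, ← smul_eq_mul c]
    exact h.sum.eq _
  have hC : ∀ a, V (PowerSeries.C a) = a := fun a => by
    rw [hrec, PowerSeries.constantCoeff_C,
      show (fun k => PowerSeries.coeff (k + 1) (PowerSeries.C a)) = (0 : ℕ → A) from
        funext fun k => by simp [PowerSeries.coeff_C], map_zero, mul_zero, add_zero]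
  have hX : ∀ p, V (PowerSeries.X * p) = c * V p := fun p => by
    rw [hrec]
    simp [V]
  have hCmul : ∀ a p, V (PowerSeries.C a * p) = a * V p := fun a p => by
    simp only [V]
    rw [← smul_eq_mul a, ← map_smul]
    simp [Pi.smul_def]
  have hneg : ∀ p, V (-p) = -V p := fun p => eq_neg_of_add_eq_zero_left (by
    rw [← hadd, neg_add_cancel, ← map_zero PowerSeries.C, hC])
  have hker : ∀ q, V ((PowerSeries.X - PowerSeries.C c) * q) = 0 := fun q => by
    rw [sub_mul, sub_eq_add_neg, hadd, hneg, hX, hCmul, add_neg_cancel]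
  have hdiv : ∀ p, ∃ q, p = PowerSeries.C (V p) + (PowerSeries.X - PowerSeries.C c) * q := fun p => by
    refine ⟨PowerSeries.mk fun k => h.sum.V fun j => PowerSeries.coeff (k + 1 + j) p,
      PowerSeries.ext fun k => ?_⟩
    rw [sub_mul, map_add, map_sub]
    rcases k with _ | k
    · simp [PowerSeries.coeff_C]
      rw [hrec p]
      simp [PowerSeries.coeff_zero_eq_constantCoeff_apply, Nat.add_comm 1]
    · simp [PowerSeries.coeff_C]
      rw [← smul_eq_mul c, h.sum.eq fun j => PowerSeries.coeff (k + 1 + j) p]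
      simp [Nat.add_assoc, Nat.add_comm 1, Nat.add_left_comm]
      simp only [Nat.add_comm 2]
      ring
  refine ⟨{ toFun := V, map_one' := by rw [← map_one PowerSeries.C, hC],
            map_zero' := by rw [← map_zero PowerSeries.C, hC], map_add' := hadd,
            map_mul' := fun p q => ?_ }, hC, ?_⟩
  · obtain ⟨r, hr⟩ := hdiv p
    conv_lhs => rw [hr, add_mul, hadd, hCmul, mul_assoc, hker, add_zero]
  · change V PowerSeries.X = c
    rw [← mul_one PowerSeries.X, hX, ← map_one PowerSeries.C, hC, mul_one]

theorem henselianRing_of_dc (I : Ideal A) (h : ∀ f ∈ I, DC A f) : HenselianRing A I where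
  jac x hx := by
    rw [Ideal.mem_jacobson_bot]
    intro y
    have := isUnit_of_dc (h (-(x * y)) (neg_mem (I.mul_mem_right y hx)))
    rwa [sub_neg_eq_add, add_comm] at this
  is_henselian F hF a₀ h₁ h₂ := by
    rcases subsingleton_or_nontrivial A with hs | hs
    · exact ⟨a₀, Subsingleton.elim _ _, by simp⟩
    by_cases hdeg : F.natDegree = 0
    · have h1 : (1 : A) ∈ I := by
        rw [hF.natDegree_eq_zero.1 hdeg] at h₁
        simpa using h₁
      exact absurd (isUnit_of_dc (h 1 h1)) (by simp)
    set c := F.eval a₀ with hc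
    obtain ⟨φ, hC, hX⟩ := exists_evalHom (h c h₁)
    let G : Polynomial (PowerSeries A) :=
      (F.comp (Polynomial.X + Polynomial.C a₀)).map PowerSeries.C +
        Polynomial.C (PowerSeries.X - PowerSeries.C c)
    have hFd : (F.comp (Polynomial.X + Polynomial.C a₀)).natDegree = F.natDegree := by
      rw [← Polynomial.taylor_apply, Polynomial.natDegree_taylor]
    have hG : G.Monic := by
      have hm := hF.comp_X_add_C a₀
      refine (hm.map PowerSeries.C).add_of_left (Polynomial.degree_C_le.trans_lt ?_)
      rw [hm.degree_map, Polynomial.degree_eq_natDegree hm.ne_zero, hFd]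
      exact_mod_cast Nat.pos_of_ne_zero hdeg
    have : IsAdicComplete (Ideal.span {(PowerSeries.X : PowerSeries A)}) (PowerSeries A) :=
      isAdicComplete_powerSeries
    have heval0 : G.eval 0 ∈ Ideal.span {(PowerSeries.X : PowerSeries A)} := by
      simp [G, Polynomial.eval_map, Polynomial.eval₂_at_zero, Polynomial.coeff_zero_eq_eval_zero,
        Ideal.mem_span_singleton, hc]
    have hder : IsUnit (Ideal.Quotient.mk (Ideal.span {(PowerSeries.X : PowerSeries A)})
        (G.derivative.eval 0)) := by
      refine IsUnit.map _ ?_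
      have : G.derivative.eval 0 = PowerSeries.C (F.derivative.eval a₀) := by
        simp [G, Polynomial.derivative_map, Polynomial.eval_map, Polynomial.eval₂_at_zero,
          Polynomial.derivative_comp, Polynomial.coeff_zero_eq_eval_zero]
      rw [this]
      refine IsUnit.map _ ?_
      obtain ⟨v, hv⟩ := h₂.exists_right_inv
      obtain ⟨v, rfl⟩ := Ideal.Quotient.mk_surjective v
      rw [← map_mul, ← map_one (Ideal.Quotient.mk I), Ideal.Quotient.eq] at hv
      have := isUnit_of_dc (h _ (neg_mem hv))
      rw [sub_neg_eq_add, ← add_sub_assoc, add_sub_cancel_left] at this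
      exact isUnit_of_mul_isUnit_left this
    obtain ⟨r, hr, hr0⟩ := HenselianRing.is_henselian G hG 0 heval0 hder
    refine ⟨φ r + a₀, ?_, ?_⟩
    · have e := congrArg φ hr
      have hφ : φ.comp PowerSeries.C = RingHom.id A := RingHom.ext hC
      rw [map_zero] at e
      simpa [G, Polynomial.eval_map, Polynomial.hom_eval₂, hφ, hC, hX, Polynomial.eval_comp] using e
    · rw [sub_zero, Ideal.mem_span_singleton'] at hr0
      obtain ⟨q, rfl⟩ := hr0
      rw [add_sub_cancel_right, map_mul, hX]
      exact I.mul_mem_left _ h₁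

end Groth.Agent.DCpl
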