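import Groth.Agent.Lib.DCpl.TensorQuot
import Groth.Agent.Lib.DCpl.CplTriangle
import Groth.Agent.Lib.DCpl.Ring
import Groth.Agent.Lib.DBaseChange.TorTri

/-!
Derived Nakayama: amplitude of derived complete objects is detected modulo `I`.
-/

set_option autoImplicit false
set_option linter.unusedSectionVars false

universe u

open CategoryTheory CategoryTheory.Limits CategoryTheory.Pretriangulated

attribute [local instance] HasDerivedCategory.standard

namespace Groth.Agent.DCpl

variable {A : Type u} [CommRing A]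

theorem hh_map_smul_id (f : A) (E : Dual.D A) (j : ℤ) (x : Dual.HD A E j) :
    (DMod.HH j).map (f • 𝟙 E) x = f • x := by
  have : (DerivedCategory.Q : DRing.Cx A ⥤ Dual.D A).EssSurj :=
    Localization.essSurj _ (HomologicalComplex.quasiIso (ModuleCat.{u} A) (ComplexShape.up ℤ))
  let C := (DerivedCategory.Q : DRing.Cx A ⥤ Dual.D A).objPreimage E
  let e : DRing.toD C ≅ E := (DerivedCategory.Q : DRing.Cx A ⥤ Dual.D A).objObjPreimageIso E
  let η := (DerivedCategory.homologyFunctorFactors (ModuleCat.{u} A) j).app C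
  have hC : ∀ y : C.homology j, HomologicalComplex.homologyMap (f • 𝟙 C) j y = f • y := fun y => by
    obtain ⟨z, rfl⟩ := DMod.homologyπ_surjective C j y
    rw [← map_smul, ← ConcreteCategory.comp_apply, HomologicalComplex.homologyπ_naturality,
      ConcreteCategory.comp_apply]
    congr 1
    apply DMod.iCycles_injective C j
    rw [← ConcreteCategory.comp_apply, HomologicalComplex.cyclesMap_i, ConcreteCategory.comp_apply,
      map_smul]
    rfl
  obtain ⟨y, rfl⟩ : ∃ y : (DMod.HH j).obj (DRing.toD C), (DMod.HH j).map e.hom y = x :=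
    ⟨(DMod.HH j).map e.inv x, by
      rw [← ConcreteCategory.comp_apply, ← Functor.map_comp, e.inv_hom_id, CategoryTheory.Functor.map_id]; rfl⟩
  have hy : (DMod.HH j).map (DerivedCategory.Q.map (f • 𝟙 C)) y = f • y := by
    have hn : (DMod.HH j).map (DerivedCategory.Q.map (f • 𝟙 C)) =
        η.hom ≫ HomologicalComplex.homologyMap (f • 𝟙 C) j ≫ η.inv := by
      rw [← Category.assoc, Iso.eq_comp_inv]
      exact (DerivedCategory.homologyFunctorFactors (ModuleCat.{u} A) j).hom.naturality _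
    rw [hn]
    exact (congrArg η.inv.hom (hC (η.hom y))).trans
      ((map_smul η.inv.hom f (η.hom y)).trans (congrArg (f • ·) (ConcreteCategory.congr_hom η.hom_inv_id y)))
  rw [← map_smul, ← hy, ← ConcreteCategory.comp_apply, ← ConcreteCategory.comp_apply,
    ← Functor.map_comp, ← Functor.map_comp]
  congr 3
  rw [Functor.map_smul, CategoryTheory.Functor.map_id, Linear.comp_smul, Linear.smul_comp]
  simp

/-- Bounded objects in degrees `≥ n` with cohomology killed by powers of the elements of `s`. -/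
def Tors (s : List A) (n : ℤ) (E : Dual.D A) : Prop :=
  E.IsGE n ∧ (∃ d : ℤ, E.IsLE d) ∧ ∀ f ∈ s, ∀ j : ℤ, ∃ m : ℕ, ∀ x : Dual.HD A E j, f ^ m • x = 0

/-- All maps to such objects vanish. -/
def Vanish (K : Dual.D A) (s : List A) (n : ℤ) : Prop :=
  ∀ E : Dual.D A, Tors s n E → Subsingleton (K ⟶ E)

theorem Tors.mono {s : List A} {n n' : ℤ} {E : Dual.D A} (h : Tors s n E) (hn : n' ≤ n) : Tors s n' E :=
  ⟨have := h.1; (DMod.tS A).isGE_of_ge E n' n hn, h.2⟩

theorem Tors.shift {s : List A} {n : ℤ} {E : Dual.D A} (h : Tors s n E) :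
    Tors s (n + 1) (E⟦(-1 : ℤ)⟧) := by
  obtain ⟨hGE, ⟨d, hd⟩, hf⟩ := h
  let t : ∀ j : ℤ, Dual.HD A (E⟦(-1 : ℤ)⟧) j ≃ₗ[A] Dual.HD A E (-1 + j) := fun j =>
    (((DerivedCategory.homologyFunctor (ModuleCat.{u} A) 0).shiftIso (-1) j (-1 + j) rfl).app E).toLinearEquiv
  refine ⟨?_, ⟨d + 1, ?_⟩, fun f hf' j => ?_⟩
  · refine (DMod.isGE_iff _ _).2 fun j hj => ?_
    have := (DMod.isGE_iff E n).1 hGE (-1 + j) (by omega)
    exact @Equiv.subsingleton _ _ (t j).toEquiv this
  · refine (DMod.isLE_iff _ _).2 fun j hj => ?_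
    have := (DMod.isLE_iff E d).1 hd (-1 + j) (by omega)
    exact @Equiv.subsingleton _ _ (t j).toEquiv this
  · obtain ⟨m, hm⟩ := hf f hf' (-1 + j)
    refine ⟨m, fun x => (t j).injective ?_⟩
    rw [map_smul, map_zero]
    exact hm _

theorem Tors.cone {s : List A} {n : ℤ} {E W : Dual.D A} (h : Tors s (n + 1) E) (f : A) {π : E ⟶ W}
    {δ : W ⟶ E⟦(1 : ℤ)⟧} (hT : Triangle.mk (f • 𝟙 E) π δ ∈ distTriang (Dual.D A)) :
    Tors (f :: s) n W := by
  obtain ⟨hGE, ⟨d, hd⟩, hs⟩ := h
  have E3 := fun i : ℤ => (ShortComplex.ShortExact.moduleCat_exact_iff_function_exact _).1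
    (DerivedCategory.HomologySequence.exact₃ _ hT i (i + 1) rfl)
  have E1 := fun i : ℤ => (ShortComplex.ShortExact.moduleCat_exact_iff_function_exact _).1
    (DerivedCategory.HomologySequence.exact₁ _ hT i (i + 1) rfl)
  refine ⟨?_, ⟨d, ?_⟩, fun g hg i => ?_⟩
  · refine (DMod.isGE_iff _ _).2 fun j hj => subsingleton_of_forall_eq 0 fun x => ?_
    have h1 : Subsingleton (Dual.HD A E j) := (DMod.isGE_iff E (n + 1)).1 hGE j (by omega)
    have h2 : Subsingleton (Dual.HD A E (j + 1)) := (DMod.isGE_iff E (n + 1)).1 hGE (j + 1) (by omega)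
    obtain ⟨y, rfl⟩ := (E3 j x).1 (Subsingleton.elim (α := Dual.HD A E (j + 1)) _ _)
    rw [show y = 0 from Subsingleton.elim (α := Dual.HD A E j) _ _]
    exact map_zero _
  · refine (DMod.isLE_iff _ _).2 fun j hj => subsingleton_of_forall_eq 0 fun x => ?_
    have h1 : Subsingleton (Dual.HD A E j) := (DMod.isLE_iff E d).1 hd j hj
    have h2 : Subsingleton (Dual.HD A E (j + 1)) := (DMod.isLE_iff E d).1 hd (j + 1) (by omega)
    obtain ⟨y, rfl⟩ := (E3 j x).1 (Subsingleton.elim (α := Dual.HD A E (j + 1)) _ _)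
    rw [show y = 0 from Subsingleton.elim (α := Dual.HD A E j) _ _]
    exact map_zero _
  · let u : Dual.HD A E i →ₗ[A] Dual.HD A W i := ((DMod.HH i).map π).hom
    let v : Dual.HD A W i →ₗ[A] Dual.HD A E (i + 1) :=
      (DerivedCategory.HomologySequence.δ (Triangle.mk (f • 𝟙 E) π δ) i (i + 1) rfl).hom
    rcases List.mem_cons.1 hg with rfl | hg
    · refine ⟨2, fun x => ?_⟩
      have hv : g • v x = 0 := by
        rw [← hh_map_smul_id]
        exact (E1 i).apply_apply_eq_zero x
      obtain ⟨y, hy⟩ := (E3 i (g • x)).1 ((map_smul v g x).trans hv)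
      rw [pow_two, mul_smul, ← hy]
      change g • u y = 0
      refine (map_smul u g y).symm.trans ?_
      rw [← hh_map_smul_id]
      change (DMod.HH i).map π ((DMod.HH i).map (g • 𝟙 E) y) = 0
      rw [← ConcreteCategory.comp_apply, ← Functor.map_comp,
        show (g • 𝟙 E) ≫ π = 0 from comp_distTriang_mor_zero₁₂ _ hT, Functor.map_zero]
      rfl
    · obtain ⟨m₁, hm₁⟩ := hs g hg i
      obtain ⟨m₂, hm₂⟩ := hs g hg (i + 1)
      refine ⟨m₁ + m₂, fun x => ?_⟩
      obtain ⟨y, hy⟩ := (E3 i (g ^ m₂ • x)).1 ((map_smul v _ x).trans (hm₂ _))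
      rw [pow_add, mul_smul, ← hy]
      change g ^ m₁ • u y = 0
      exact (map_smul u _ y).symm.trans ((congrArg u (hm₁ y)).trans (map_zero u))

theorem vanish_cone {K K' : Dual.D A} {f : A} {t : List A} {n : ℤ} {g : K ⟶ K'}
    {δ : K' ⟶ K⟦(1 : ℤ)⟧} (hT : Triangle.mk (f • 𝟙 K) g δ ∈ distTriang (Dual.D A))
    (h : Vanish K (f :: t) n) : Vanish K' t (n + 1) := by
  have bij : ∀ E : Dual.D A, Tors t (n + 1) E → Function.Bijective fun a : K ⟶ E => f • a := by
    intro E hE
    obtain ⟨W, π, δ', hT'⟩ := distinguished_cocone_triangle (f • 𝟙 E)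
    have hW := hE.cone f hT'
    refine ⟨fun a b hab => sub_eq_zero.1 ?_, fun b => ?_⟩
    · obtain ⟨c, hc⟩ := Triangle.coyoneda_exact₂ _ (inv_rot_of_distTriang _ hT') (a - b) (by
        change (a - b) ≫ (f • 𝟙 E) = 0
        rw [Linear.comp_smul, Category.comp_id, smul_sub, sub_eq_zero]
        exact hab)
      rw [hc, show c = 0 from @Subsingleton.elim _ (h _ (hW.shift.mono (by omega))) _ _]
      exact zero_comp
    · obtain ⟨a, ha⟩ := Triangle.coyoneda_exact₂ _ hT' b (@Subsingleton.elim _ (h W hW) _ _)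
      have ha' : b = a ≫ (f • 𝟙 E) := ha
      let a' : K ⟶ E := a
      have e1 : a' ≫ (f • 𝟙 E) = f • a' := by rw [Linear.comp_smul, Category.comp_id]
      exact ⟨a', (ha'.trans e1).symm⟩
  intro E hE
  refine subsingleton_of_forall_eq 0 fun φ => ?_
  have hg : g ≫ φ = 0 := (bij E hE).1 (by
    have h0 : (f • 𝟙 K) ≫ g = 0 := comp_distTriang_mor_zero₁₂ _ hT
    dsimp only
    rw [smul_zero, ← Category.id_comp (g ≫ φ), ← Linear.smul_comp, ← Category.assoc, h0, zero_comp])
  obtain ⟨ψ, hψ⟩ := Triangle.yoneda_exact₃ _ hT φ hg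
  let c := (shiftFunctorCompIsoId (Dual.D A) (-1 : ℤ) 1 (by omega)).app E
  obtain ⟨ψ₀, hψ₀⟩ := (shiftFunctor (Dual.D A) (1 : ℤ)).map_surjective (X := K) (Y := E⟦(-1 : ℤ)⟧)
    (ψ ≫ c.inv)
  obtain ⟨ψ₁, hψ₁⟩ := (bij _ (hE.shift.mono (by omega))).2 ψ₀
  have hψ₁' : f • ψ₁ = ψ₀ := hψ₁
  have e : ψ = (f • 𝟙 K)⟦(1 : ℤ)⟧' ≫ ψ₁⟦(1 : ℤ)⟧' ≫ c.hom := by
    rw [← Category.assoc, ← Functor.map_comp, Linear.smul_comp, Category.id_comp, hψ₁', hψ₀,
      Category.assoc, c.inv_hom_id]
    exact (Category.comp_id ψ).symm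
  rw [hψ, e]
  have h31 : δ ≫ (f • 𝟙 K)⟦(1 : ℤ)⟧' = 0 := comp_distTriang_mor_zero₃₁ _ hT
  exact (Category.assoc _ _ _).symm.trans ((congrArg (· ≫ _) h31).trans zero_comp)

theorem subsingleton_hd_of_vanish : ∀ (s : List A) (K : Dual.D A) (n : ℤ), (∀ f ∈ s, DCD K f) →
    Vanish K s n → ∀ i : ℤ, n + s.length ≤ i → Subsingleton (Dual.HD A K i)
  | [], K, n, _, h, i, hi => by
    refine DMod.subsingleton_HD_of_hom fun M => h _ ⟨?_, ⟨i, ?_⟩, fun f hf => absurd hf (by simp)⟩
    · have : ((DMod.single i).obj M).IsGE i :=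
        inferInstanceAs (((DerivedCategory.singleFunctor (ModuleCat.{u} A) i).obj M).IsGE i)
      exact (DMod.tS A).isGE_of_ge _ n i (by simpa using hi)
    · exact inferInstanceAs (((DerivedCategory.singleFunctor (ModuleCat.{u} A) i).obj M).IsLE i)
  | f :: t, K, n, hc, h, i, hi => by
    obtain ⟨K', g, δ, hT⟩ := distinguished_cocone_triangle (f • 𝟙 K)
    have hK' := subsingleton_hd_of_vanish t K' (n + 1)
      (fun g' hg' => DCD.triangle₃ hT (hc g' (List.mem_cons_of_mem f hg')) (hc g' (List.mem_cons_of_mem f hg')))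
      (vanish_cone hT h) i (by simp only [List.length_cons] at hi; push_cast at hi; omega)
    have E2 := (ShortComplex.ShortExact.moduleCat_exact_iff_function_exact _).1
      (DerivedCategory.HomologySequence.exact₂ _ hT i)
    have hs : ∀ x : Dual.HD A K i, ∃ y : Dual.HD A K i, x = f • y := fun x => by
      obtain ⟨y, hy⟩ := (E2 x).1 (Subsingleton.elim (α := Dual.HD A K' i) _ _)
      exact ⟨y, hy.symm.trans (hh_map_smul_id f K i y)⟩
    choose y hy using hs
    refine subsingleton_of_forall_eq 0 fun x => ?_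
    exact congrFun ((hc f (List.mem_cons_self ..) i).eq_zero (x := fun k => y^[k] x) fun k => by
      rw [Function.iterate_succ_apply']; exact hy _) 0

variable (I : Ideal A)

theorem subsingleton_hom_of_killed (K : Dual.D A) (i : ℤ)
    (h : ∀ N : ModuleCat.{u} (A ⧸ I), Subsingleton (K ⟶ (DMod.single i).obj
      ((ModuleCat.restrictScalars.{u} (Ideal.Quotient.mk I)).obj N))) (k : ℕ) :
    ∀ M : ModuleCat.{u} A, I ^ k • (⊤ : Submodule A M) = ⊥ →
      Subsingleton (K ⟶ (DMod.single i).obj M) := by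
  induction k with
  | zero =>
    intro M hM
    rw [Submodule.pow_zero, Ideal.one_eq_top, Submodule.top_smul] at hM
    have : Subsingleton M := (Submodule.subsingleton_iff A).1 (subsingleton_iff_bot_eq_top.1 hM.symm)
    have hz : IsZero ((DMod.single i).obj M) :=
      Functor.map_isZero _ (ModuleCat.isZero_of_subsingleton M)
    exact ⟨fun a b => hz.eq_of_tgt a b⟩
  | succ k ih =>
    intro M hM
    let N : Submodule A M := I • ⊤
    let S : ShortComplex (ModuleCat.{u} A) :=
      ShortComplex.mk (ModuleCat.ofHom N.subtype) (ModuleCat.ofHom N.mkQ)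
        (by ext x; exact (Submodule.Quotient.mk_eq_zero N).2 x.2)
    have hS : S.ShortExact := ShortComplex.ShortExact.mk'
      ((ShortComplex.moduleCat_exact_iff_range_eq_ker S).2
        (show LinearMap.range N.subtype = LinearMap.ker N.mkQ by rw [Submodule.range_subtype, Submodule.ker_mkQ]))
      ((ModuleCat.mono_iff_injective S.f).2 N.subtype_injective)
      ((ModuleCat.epi_iff_surjective S.g).2 N.mkQ_surjective)
    have h₁ : Subsingleton (K ⟶ (DMod.single i).obj S.X₁) := ih (ModuleCat.of A N) (by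
      refine (Submodule.map_injective_of_injective N.subtype_injective) ?_
      rw [Submodule.map_smul'', Submodule.map_top, Submodule.range_subtype, Submodule.map_bot]
      change I ^ k • (I • (⊤ : Submodule A M)) = ⊥
      rw [← Submodule.mul_smul, ← pow_succ, hM])
    let e₃ : (ModuleCat.restrictScalars.{u} (Ideal.Quotient.mk I)).obj
        (ModuleCat.of (A ⧸ I) (M ⧸ (I • ⊤ : Submodule A M))) ≅ S.X₃ :=
      LinearEquiv.toModuleIso (X₂ := M ⧸ (I • ⊤ : Submodule A M))
        { toFun := fun z => z, invFun := fun z => z, left_inv := fun _ => rfl, right_inv := fun _ => rfl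
          map_add' := fun _ _ => rfl, map_smul' := fun _ _ => rfl }
    have h₃ : Subsingleton (K ⟶ (DMod.single i).obj S.X₃) :=
      have := h (ModuleCat.of (A ⧸ I) (M ⧸ (I • ⊤ : Submodule A M)))
      (Iso.homCongr (Iso.refl K) ((DMod.single i).mapIso e₃)).symm.subsingleton
    refine subsingleton_of_forall_eq 0 fun x => ?_
    let ε := fun Y : ModuleCat.{u} A =>
      (DerivedCategory.singleFunctorIsoCompQ (ModuleCat.{u} A) i).app Y
    have hS' := hS.map_of_exact (HomologicalComplex.single (ModuleCat.{u} A) (ComplexShape.up ℤ) i)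
    obtain ⟨c, hc⟩ := Triangle.coyoneda_exact₂ _ (DerivedCategory.triangleOfSES_distinguished hS')
      (x ≫ (ε S.X₂).hom)
      (@Subsingleton.elim _ (Iso.homCongr (Iso.refl K) (ε S.X₃)).symm.subsingleton _ _)
    have h₁' := (Iso.homCongr (Iso.refl K) (ε S.X₁)).symm.subsingleton
    rw [← cancel_mono (ε S.X₂).hom, zero_comp]
    refine hc.trans ?_
    rw [show c = 0 from @Subsingleton.elim _ h₁' _ _]
    exact zero_comp

theorem vanish_of_hom (hI : I.FG) (s : List A) (hs : Ideal.span {f | f ∈ s} = I) (K : Dual.D A)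
    (b : ℤ) (hK : ∀ (N : ModuleCat.{u} (A ⧸ I)) (i : ℤ), b < i → Subsingleton (K ⟶ (DMod.single i).obj
      ((ModuleCat.restrictScalars.{u} (Ideal.Quotient.mk I)).obj N))) :
    Vanish K s (b + 1) := by
  rintro E ⟨hGE, ⟨d, hd⟩, hE⟩
  refine DBaseChange.prop_of_homology (fun E => Subsingleton (K ⟶ E))
    (fun e h => (Iso.homCongr (Iso.refl K) e).symm.subsingleton)
    (fun Z hZ => ⟨fun a b => hZ.eq_of_tgt a b⟩) (fun T hT h₁ h₃ => subsingleton_of_forall_eq 0 fun x => ?_)
    E (b + 1) d (fun i hi => hi.elim ((DMod.isGE_iff E _).1 hGE i) ((DMod.isLE_iff E d).1 hd i))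
    fun i => ?_
  · obtain ⟨c, hc⟩ := Triangle.coyoneda_exact₂ _ hT x (@Subsingleton.elim _ h₃ _ _)
    rw [hc, show c = 0 from @Subsingleton.elim _ h₁ _ _]
    exact zero_comp
  · by_cases hi : b < i
    · obtain ⟨k, hk⟩ : ∃ k, I ^ k ≤ Module.annihilator A (Dual.HD A E i) := by
        refine Ideal.exists_pow_le_of_le_radical_of_fg (hs ▸ Ideal.span_le.2 fun f hf => ?_) hI
        obtain ⟨m, hm⟩ := hE f hf i
        exact ⟨m, Module.mem_annihilator.2 hm⟩
      exact subsingleton_hom_of_killed I K i (fun N => hK N i hi) k _ (le_bot_iff.1 (Submodule.smul_le.2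
        fun r hr m _ => (Submodule.mem_bot A).2 (Module.mem_annihilator.1 (hk hr) m)))
    · have : Subsingleton ((DMod.HH i).obj E) := (DMod.isGE_iff E _).1 hGE i (by omega)
      have hz : IsZero ((DMod.single i).obj ((DMod.HH i).obj E)) :=
        Functor.map_isZero _ (ModuleCat.isZero_of_subsingleton _)
      exact ⟨fun a b => hz.eq_of_tgt a b⟩

/-- A derived complete object without maps to modules killed by `I` vanishes. -/
theorem isZero_of_hom (hI : I.FG) (K : Dual.D A) (hc : DRing.IsDerivedComplete I K)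
    (h : ∀ (N : ModuleCat.{u} (A ⧸ I)) (i : ℤ), Subsingleton (K ⟶ (DMod.single i).obj
      ((ModuleCat.restrictScalars.{u} (Ideal.Quotient.mk I)).obj N))) : IsZero K := by
  obtain ⟨S, hS⟩ := id hI
  have hs : Ideal.span {f | f ∈ S.toList} = I := by
    rw [← hS, show {f | f ∈ S.toList} = (S : Set A) by ext; simp]
  have hs' : ∀ f ∈ S.toList, DCD K f := (isDerivedComplete_iff_span I _ hs K).1 hc
  have hd : ∀ i : ℤ, Subsingleton (Dual.HD A K i) := fun i =>
    subsingleton_hd_of_vanish _ K (i - S.toList.length) hs'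
      ((vanish_of_hom I hI _ hs K (i - S.toList.length - 1) fun N j _ => h N j) |> fun v => by
        rwa [sub_add_cancel] at v) i (by omega)
  have : K.IsLE 0 := (DMod.isLE_iff K 0).2 fun i _ => hd i
  have : K.IsGE 1 := (DMod.isGE_iff K 1).2 fun i _ => hd i
  exact (IsZero.iff_id_eq_zero K).2 ((DMod.tS A).zero_of_isLE_of_isGE (𝟙 K) 0 1 (by omega)
    inferInstance inferInstance)

variable [DRing.HasLTensor A (ModuleCat.of A (A ⧸ I))]

theorem isLE_of_lTensor (hI : I.FG) (K : Dual.D A) (hc : DRing.IsDerivedComplete I K) (b : ℤ)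
    (hK : ((DRing.LTensor A (ModuleCat.of A (A ⧸ I))).obj K).IsLE b) : K.IsLE b := by
  obtain ⟨S, hS⟩ := id hI
  let s := S.toList
  have hs : Ideal.span {f | f ∈ s} = I := by
    rw [← hS, show {f | f ∈ s} = (S : Set A) by ext; simp [s]]
  have hs' : ∀ f ∈ s, DCD K f := (isDerivedComplete_iff_span I _ hs K).1 hc
  have hbd := subsingleton_hd_of_vanish s K (b + 1) hs' (vanish_of_hom I hI s hs K b fun N i hi => subsingleton_hom_restrict I K b hK N i hi)
  suffices H : ∀ k : ℕ, K.IsLE (b + k) → K.IsLE b from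
    H (1 + s.length) ((DMod.isLE_iff K _).2 fun i hi => hbd i (by push_cast at hi; omega))
  intro k
  induction k with
  | zero => intro h; simpa using h
  | succ k ih =>
    intro h
    refine ih ((DMod.isLE_iff K _).2 fun i hi => ?_)
    by_cases hi' : b + (k + 1 : ℕ) < i
    · exact (DMod.isLE_iff K _).1 h i hi'
    obtain rfl : i = b + (k + 1 : ℕ) := by push_cast at hi hi' ⊢; omega
    let i := b + (k + 1 : ℕ)
    let H := Dual.HD A K i
    obtain ⟨K', f, g, δ, -, -, -, hg⟩ := DMod.exists_top_triangle K i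
    refine subsingleton_of_smul_top_eq_top s H (fun f hf => hs' f hf i) ?_
    rw [hs, eq_top_iff]
    intro x _
    let q : (DMod.HH i).obj K ⟶ (ModuleCat.restrictScalars.{u} (Ideal.Quotient.mk I)).obj
        (ModuleCat.of (A ⧸ I) (H ⧸ (I • ⊤ : Submodule A H))) :=
      ModuleCat.ofHom (Y := H ⧸ (I • ⊤ : Submodule A H)) (I • ⊤ : Submodule A H).mkQ
    have hq : g ≫ (DMod.single i).map q = 0 :=
      @Subsingleton.elim _ (subsingleton_hom_restrict I K b hK _ i (by omega)) _ _
    have h0 : (DMod.HH i).map g ≫ (DMod.HH i).map ((DMod.single i).map q) = 0 := by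
      rw [← Functor.map_comp, hq, Functor.map_zero]
    have := hg
    rw [← Limits.comp_zero (f := (DMod.HH i).map g), cancel_epi] at h0
    have h1 : q = 0 := by
      have hnat := (DerivedCategory.singleFunctorCompHomologyFunctorIso (ModuleCat.{u} A) i).hom.naturality q
      rw [← cancel_epi ((DerivedCategory.singleFunctorCompHomologyFunctorIso (ModuleCat.{u} A) i).hom.app _),
        comp_zero]
      refine hnat.symm.trans ?_
      rw [show (DerivedCategory.singleFunctor (ModuleCat.{u} A) i ⋙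
        DerivedCategory.homologyFunctor (ModuleCat.{u} A) i).map q = 0 from h0, zero_comp]
    exact (Submodule.Quotient.mk_eq_zero _).1 (ConcreteCategory.congr_hom h1 x)

end Groth.Agent.DCpl
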