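import Groth.Agent.Lib.DCpl.Bridge
import Mathlib.RingTheory.Ideal.Operations

/-! The elements of derived completeness form a radical ideal. -/

set_option autoImplicit false

universe u v

namespace Groth.Agent.DCpl

variable {A : Type u} [CommRing A] {M : Type v} [AddCommGroup M] [Module A M]

theorem dc_of_sq {f : A} (h : DC M (f * f)) : DC M f := by
  let ev : ℕ → (ℕ → M) →ₗ[A] (ℕ → M) := fun r => LinearMap.funLeft A M fun k => 2 * k + r
  refine Sum.dc ⟨h.sum.V ∘ₗ ev 0 + f • (h.sum.V ∘ₗ ev 1), fun y => ?_⟩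
  have e₁ : ev 0 (fun k => y (k + 1)) = ev 1 y := rfl
  have e₂ : (fun k => ev 0 y (k + 1)) = ev 1 (fun k => y (k + 1)) := by
    funext k
    simp [ev, LinearMap.funLeft_apply, Nat.mul_add]
  have e₀ : ev 0 y 0 = y 0 := rfl
  simp only [LinearMap.add_apply, LinearMap.comp_apply, LinearMap.smul_apply]
  rw [e₁, h.sum.eq (ev 0 y), e₂, e₀, smul_add, mul_smul]
  abel

theorem isRadical_dcIdeal : (dcIdeal (A := A) M).IsRadical := fun f ⟨n, hn⟩ => by
  have key : ∀ k, f ^ 2 ^ k ∈ dcIdeal M → f ∈ dcIdeal M := fun k => by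
    induction k with
    | zero => simp
    | succ k ih => exact fun h => ih (mem_dcIdeal.2 (dc_of_sq (by rwa [← pow_add, ← two_mul, ← pow_succ'])))
  refine key n ?_
  obtain ⟨j, hj⟩ := Nat.exists_eq_add_of_le (Nat.le_of_lt n.lt_two_pow_self)
  rw [hj, pow_add]
  exact Ideal.mul_mem_right _ _ hn

end Groth.Agent.DCpl
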