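import Groth.Agent.Lib.DCpl.SeqQuot
import Groth.Agent.Lib.DCpl.Bridge
import Mathlib.Algebra.Homology.DerivedCategory.ShortExact
import Mathlib.CategoryTheory.Abelian.Exact
import Mathlib.Algebra.Homology.ShortComplex.ModuleCat

/-!
The complex computing derived completion at one element.
-/

set_option autoImplicit false
set_option linter.unusedSectionVars false

universe u

open CategoryTheory CategoryTheory.Limits CategoryTheory.Pretriangulated

attribute [local instance] HasDerivedCategory.standard

namespace Groth.Agent.DCpl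

variable (A : Type u) [CommRing A]

/-- `M ↦ (ℕ → M)`. -/
noncomputable def Pf : ModuleCat.{u} A ⥤ ModuleCat.{u} A where
  obj M := ModuleCat.of A (ℕ → M)
  map u := ModuleCat.ofHom (u.hom.compLeft ℕ)
  map_id _ := rfl
  map_comp _ _ := rfl

instance additive_Pf : (Pf A).Additive where map_add := rfl

instance preservesHomology_Pf : (Pf A).PreservesHomology := by
  refine Functor.preservesHomology_of_map_exact _ fun S hS => ?_
  rw [ShortComplex.ShortExact.moduleCat_exact_iff_function_exact] at hS ⊢
  intro q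
  refine ⟨fun hq => ?_, ?_⟩
  · choose p hp using fun n => (hS (q n)).1 (congrFun hq n)
    exact ⟨p, funext hp⟩
  · rintro ⟨p, rfl⟩
    exact funext fun n => (hS _).2 ⟨p n, rfl⟩

variable {A}

/-- Termwise sequences. -/
noncomputable abbrev Pcx : DRing.Cx A ⥤ DRing.Cx A := (Pf A).mapHomologicalComplex (ComplexShape.up ℤ)

variable (f : A)

/-- `phi`, naturally. -/
noncomputable def phiN : Pf A ⟶ Pf A where
  app M := ModuleCat.ofHom (phi M f)
  naturality _ _ u := ModuleCat.hom_ext (phi_natural f u.hom).symm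

/-- `tele`, naturally. -/
noncomputable def teleN : Pf A ⟶ Pf A where
  app M := ModuleCat.ofHom (tele M f)
  naturality _ _ u := ModuleCat.hom_ext (tele_natural f u.hom).symm

variable (A) in
/-- `ins`, naturally. -/
noncomputable def insN : 𝟭 (ModuleCat.{u} A) ⟶ Pf A where
  app M := ModuleCat.ofHom (ins A M)
  naturality _ _ u := ModuleCat.hom_ext (ins_natural u.hom).symm

variable (A) in
/-- Dropping the first term, naturally. -/
noncomputable def dropN : Pf A ⟶ Pf A where
  app M := ModuleCat.ofHom (LinearMap.funLeft A M Nat.succ)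
  naturality _ _ _ := rfl

variable (τ : Pf A ⟶ Pf A) (K : DRing.Cx A)

/-- The endomorphism of the sequence complex. -/
noncomputable abbrev seqMap : (Pcx).obj K ⟶ (Pcx).obj K :=
  (NatTrans.mapHomologicalComplex τ (ComplexShape.up ℤ)).app K

/-- The cohomology of the sequence complex. -/
noncomputable def seqHomologyIso (i : ℤ) :
    (DMod.HH i).obj (DRing.toD ((Pcx).obj K)) ≅ (Pf A).obj ((DMod.HH i).obj (DRing.toD K)) :=
  (DerivedCategory.homologyFunctorFactors (ModuleCat.{u} A) i).app _ ≪≫
    (K.sc i).mapHomologyIso (Pf A) ≪≫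
    (Pf A).mapIso ((DerivedCategory.homologyFunctorFactors (ModuleCat.{u} A) i).app K).symm

theorem comm₃ {C : Type*} [Category* C] {X₀ X₁ X₂ X₃ Y₀ Y₁ Y₂ Y₃ : C} {a : X₀ ⟶ Y₀} {m : X₁ ⟶ Y₁}
    {t : X₂ ⟶ Y₂} {t' : X₃ ⟶ Y₃} {b : X₀ ⟶ X₁} {b' : Y₀ ⟶ Y₁} {c : X₁ ⟶ X₂} {c' : Y₁ ⟶ Y₂}
    {d : X₂ ⟶ X₃} {d' : Y₂ ⟶ Y₃} (h₁ : a ≫ b' = b ≫ m) (h₂ : m ≫ c' = c ≫ t) (h₃ : d ≫ t' = t ≫ d') :
    a ≫ b' ≫ c' ≫ d' = (b ≫ c ≫ d) ≫ t' := by
  rw [reassoc_of% h₁, reassoc_of% h₂, Category.assoc, Category.assoc, h₃]

theorem seqHomologyIso_natural (i : ℤ) :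
    (DMod.HH i).map (DerivedCategory.Q.map (seqMap τ K)) ≫ (seqHomologyIso K i).hom =
      (seqHomologyIso K i).hom ≫ τ.app ((DMod.HH i).obj (DRing.toD K)) := by
  let e := DerivedCategory.homologyFunctorFactors (ModuleCat.{u} A) i
  have h1 := e.hom.naturality (seqMap τ K)
  have h2 := NatTrans.app_homology τ (K.sc i)
  have h3 : HomologicalComplex.homologyMap (seqMap τ K) i ≫ ((K.sc i).mapHomologyIso (Pf A)).hom =
      ((K.sc i).mapHomologyIso (Pf A)).hom ≫ τ.app (K.homology i) := by
    refine Eq.trans ?_ (congrArg (((K.sc i).mapHomologyIso (Pf A)).hom ≫ ·) h2).symm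
    rw [Iso.hom_inv_id_assoc]
    rfl
  have h4 := τ.naturality ((e.app K).inv)
  exact comm₃ h1 h3 h4

theorem range_equiv {M M' N N' : Type u} [AddCommGroup M] [Module A M] [AddCommGroup M'] [Module A M']
    [AddCommGroup N] [Module A N] [AddCommGroup N'] [Module A N'] (e : M ≃ₗ[A] M') (e' : N ≃ₗ[A] N')
    (a : M →ₗ[A] N) (a' : M' →ₗ[A] N') (h : e'.toLinearMap ∘ₗ a = a' ∘ₗ e.toLinearMap) :
    (LinearMap.range a).map e'.toLinearMap = LinearMap.range a' := by
  rw [← LinearMap.range_comp, h, LinearMap.range_comp_of_range_eq_top _ (LinearEquiv.range e)]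

theorem ker_equiv {M M' N N' : Type u} [AddCommGroup M] [Module A M] [AddCommGroup M'] [Module A M']
    [AddCommGroup N] [Module A N] [AddCommGroup N'] [Module A N'] (e : M ≃ₗ[A] M') (e' : N ≃ₗ[A] N')
    (a : M →ₗ[A] N) (a' : M' →ₗ[A] N') (h : e'.toLinearMap ∘ₗ a = a' ∘ₗ e.toLinearMap) :
    (LinearMap.ker a).map e.toLinearMap = LinearMap.ker a' := by
  have : LinearMap.ker a = (LinearMap.ker a').comap e.toLinearMap := by
    rw [← LinearMap.ker_comp, ← h, LinearMap.ker_comp, LinearEquiv.ker]; rfl
  rw [this, Submodule.map_comap_eq_of_surjective e.surjective]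

/-- A class stable under isomorphisms and extensions containing the kernel and cokernel of `τ` on all
cohomology modules of `K` contains the cohomology of the cone of `τ`. -/
theorem cone_seqMap_mem (P : ∀ (M : Type u) [AddCommGroup M] [Module A M], Prop)
    (hiso : ∀ {M N : Type u} [AddCommGroup M] [Module A M] [AddCommGroup N] [Module A N],
      (M ≃ₗ[A] N) → P M → P N)
    (hext : ∀ {M : Type u} [AddCommGroup M] [Module A M] (S : Submodule A M), P S → P (M ⧸ S) → P M)
    (i : ℤ) (hc : P ((ℕ → Dual.HD A (DRing.toD K) i) ⧸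
      LinearMap.range (τ.app ((DMod.HH i).obj (DRing.toD K))).hom))
    (hk : P (LinearMap.ker (τ.app ((DMod.HH (i + 1)).obj (DRing.toD K))).hom)) :
    P (Dual.HD A (DRing.toD (CochainComplex.mappingCone (seqMap τ K))) i) := by
  obtain ⟨g, h, hT⟩ := DMod.exists_cone_triangle (seqMap τ K)
  have E2 := (ShortComplex.ShortExact.moduleCat_exact_iff_function_exact _).1
    (DerivedCategory.HomologySequence.exact₂ _ hT i)
  have E3 := (ShortComplex.ShortExact.moduleCat_exact_iff_function_exact _).1
    (DerivedCategory.HomologySequence.exact₃ _ hT i (i + 1) rfl)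
  have E1 := (ShortComplex.ShortExact.moduleCat_exact_iff_function_exact _).1
    (DerivedCategory.HomologySequence.exact₁ _ hT i (i + 1) rfl)
  have sq : ∀ j, (seqHomologyIso K j).toLinearEquiv.toLinearMap ∘ₗ
      ((DMod.HH j).map (DerivedCategory.Q.map (seqMap τ K))).hom =
      (τ.app ((DMod.HH j).obj (DRing.toD K))).hom ∘ₗ (seqHomologyIso K j).toLinearEquiv.toLinearMap :=
    fun j => congrArg ModuleCat.Hom.hom (seqHomologyIso_natural τ K j)
  refine middle_of_exact P hiso hext
    ((DMod.HH i).map (DerivedCategory.Q.map (seqMap τ K))).hom ((DMod.HH i).map g).hom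
    (DerivedCategory.HomologySequence.δ (Triangle.mk (DerivedCategory.Q.map (seqMap τ K)) g h) i (i + 1) rfl).hom
    ((DMod.HH (i + 1)).map (DerivedCategory.Q.map (seqMap τ K))).hom E2 E3 E1
    (hiso (Submodule.Quotient.equiv _ _ (seqHomologyIso K i).toLinearEquiv
      (range_equiv _ _ _ _ (sq i))).symm hc)
    (hiso (LinearEquiv.ofSubmodules (seqHomologyIso K (i + 1)).toLinearEquiv _ _
      (ker_equiv _ _ _ _ (sq (i + 1)))).symm hk)

/-- The derived completion of `K` at `f`. -/
noncomputable abbrev complCx : DRing.Cx A := CochainComplex.mappingCone (seqMap (phiN f) K)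

/-- The cone of the telescope. -/
noncomputable abbrev teleCx : DRing.Cx A := CochainComplex.mappingCone (seqMap (teleN f) K)

theorem dc_complCx (i : ℤ) : DC (Dual.HD A (DRing.toD (complCx f K)) i) f :=
  cone_seqMap_mem (phiN f) K (fun M _ _ => DC M f) (fun e h => h.of_linearEquiv e)
    (fun S h₁ h₂ => DC.extension S h₁ h₂) i (dc_coker_phi f) (dc_ker_phi f)

theorem dc_complCx_of_dc (g : A) (hK : ∀ i, DC (Dual.HD A (DRing.toD K) i) g) (i : ℤ) :
    DC (Dual.HD A (DRing.toD (complCx f K)) i) g :=
  cone_seqMap_mem (phiN f) K (fun M _ _ => DC M g) (fun e h => h.of_linearEquiv e)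
    (fun S h₁ h₂ => DC.extension S h₁ h₂) i
    ((DC.pi fun _ => hK i).quotient_range (DC.pi fun _ => hK i) _)
    ((DC.pi fun _ => hK (i + 1)).ker (DC.pi fun _ => hK (i + 1)) _)

theorem subsingleton_complCx (i : ℤ) (h₀ : Subsingleton (Dual.HD A (DRing.toD K) i))
    (h₁ : Subsingleton (Dual.HD A (DRing.toD K) (i + 1))) :
    Subsingleton (Dual.HD A (DRing.toD (complCx f K)) i) :=
  cone_seqMap_mem (phiN f) K (fun M _ _ => Subsingleton M) (fun e h => e.symm.toEquiv.subsingleton)
    (fun S h₁ h₂ => subsingleton_of_forall_eq 0 fun x => by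
      have : x ∈ S := (Submodule.Quotient.mk_eq_zero _).1 (Subsingleton.elim _ _)
      exact congrArg Subtype.val (Subsingleton.elim (⟨x, this⟩ : S) 0)) i
    (Submodule.mkQ_surjective _).subsingleton ⟨fun x y => Subtype.ext (funext fun _ => Subsingleton.elim _ _)⟩

theorem finv_teleCx (i : ℤ) : FInv (Dual.HD A (DRing.toD (teleCx f K)) i) f :=
  cone_seqMap_mem (teleN f) K (fun M _ _ => FInv M f) (fun e h => h.of_linearEquiv e)
    (fun S h₁ h₂ => FInv.extension S h₁ h₂) i (finv_coker_tele f) (finv_ker_tele f)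

/-- `K` maps to its completion. -/
noncomputable def complη : K ⟶ complCx f K :=
  ((Functor.mapHomologicalComplexIdIso (ModuleCat.{u} A) (ComplexShape.up ℤ)).inv.app K ≫
    (NatTrans.mapHomologicalComplex (insN A) (ComplexShape.up ℤ)).app K) ≫
      CochainComplex.mappingCone.inr (seqMap (phiN f) K)

theorem phi_drop : seqMap (phiN f) K ≫ seqMap (dropN A) K = 𝟙 _ ≫ seqMap (teleN f) K := by
  rw [Category.id_comp]; rfl

/-- The completion maps to the cone of the telescope. -/
noncomputable def complw : complCx f K ⟶ teleCx f K :=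
  CochainComplex.mappingCone.map _ _ (𝟙 _) (seqMap (dropN A) K) (phi_drop f K)

theorem complη_w : complη f K ≫ complw f K = 0 := by
  rw [complη, complw, Category.assoc, CochainComplex.mappingCone.map, CochainComplex.mappingCone.inr_desc]
  ext i : 1
  refine ModuleCat.hom_ext (LinearMap.ext fun x => ?_)
  exact map_zero ((CochainComplex.mappingCone.inr (seqMap (teleN f) K)).f i).hom

/-- Terms of a mapping cone, by the standard projections. -/
noncomputable def coneEquiv {F G : DRing.Cx A} (φ : F ⟶ G) (i : ℤ) :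
    (CochainComplex.mappingCone φ).X i ≃ₗ[A] F.X (i + 1) × G.X i :=
  LinearEquiv.ofLinearMap
    (LinearMap.prod ((CochainComplex.mappingCone.fst φ).1.v i (i + 1) rfl).hom
      ((CochainComplex.mappingCone.snd φ).v i i (add_zero i)).hom)
    (LinearMap.coprod ((CochainComplex.mappingCone.inl φ).v (i + 1) i (by omega)).hom
      ((CochainComplex.mappingCone.inr φ).f i).hom)
    (by
      refine LinearMap.prod_ext ?_ ?_ <;> refine LinearMap.ext fun x => Prod.ext ?_ ?_ <;>
        simp [← ModuleCat.comp_apply])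
    (by
      have h := congrArg ModuleCat.Hom.hom (CochainComplex.mappingCone.id_X φ i (i + 1) rfl)
      refine LinearMap.ext fun x => ?_
      simpa using LinearMap.congr_fun h x)

/-- The short exact sequence `K → completion → telescope`. -/
noncomputable def complSC : ShortComplex (DRing.Cx A) :=
  ShortComplex.mk (complη f K) (complw f K) (complη_w f K)

theorem coneEquiv_η (i : ℤ) (x : K.X i) :
    coneEquiv (seqMap (phiN f) K) i ((complη f K).f i x) = (0, ins A (K.X i) x) := by
  refine Prod.ext ?_ ?_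
  · have h := CochainComplex.mappingCone.inr_f_fst_v (seqMap (phiN f) K) i (i + 1) rfl
    exact congrArg (fun u => u.hom (ins A (K.X i) x)) h
  · have h := CochainComplex.mappingCone.inr_f_snd_v (seqMap (phiN f) K) i
    exact congrArg (fun u => u.hom (ins A (K.X i) x)) h

theorem coneEquiv_w (i : ℤ) (c : (complCx f K).X i) :
    coneEquiv (seqMap (teleN f) K) i ((complw f K).f i c) =
      ((coneEquiv (seqMap (phiN f) K) i c).1,
        LinearMap.funLeft A (K.X i) Nat.succ (coneEquiv (seqMap (phiN f) K) i c).2) := by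
  refine Prod.ext ?_ ?_
  · have h : (complw f K).f i ≫ (CochainComplex.mappingCone.fst (seqMap (teleN f) K)).1.v i (i + 1) rfl =
        (CochainComplex.mappingCone.fst (seqMap (phiN f) K)).1.v i (i + 1) rfl := by
      simp [complw, CochainComplex.mappingCone.map, CochainComplex.mappingCone.ext_from_iff _ (i + 1) i rfl]
    exact congrArg (fun u => u.hom c) h
  · have h : (complw f K).f i ≫ (CochainComplex.mappingCone.snd (seqMap (teleN f) K)).v i i (add_zero i) =
        (CochainComplex.mappingCone.snd (seqMap (phiN f) K)).v i i (add_zero i) ≫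
          (seqMap (dropN A) K).f i := by
      simp [complw, CochainComplex.mappingCone.map, CochainComplex.mappingCone.ext_from_iff _ (i + 1) i rfl]
    exact congrArg (fun u => u.hom c) h

theorem complSC_shortExact : (complSC f K).ShortExact := by
  refine HomologicalComplex.shortExact_of_degreewise_shortExact _ fun i => ?_
  let e := coneEquiv (seqMap (phiN f) K) i
  let e' := coneEquiv (seqMap (teleN f) K) i
  have hη := coneEquiv_η f K i
  have hw := coneEquiv_w f K i
  exact
    { exact := (ShortComplex.ShortExact.moduleCat_exact_iff_function_exact _).2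
        fun (c : (complCx f K).X i) => by
        refine ⟨fun hc => ?_, ?_⟩
        · have h0 : ((e c).1, LinearMap.funLeft A (K.X i) Nat.succ (e c).2) = 0 :=
            ((hw c).symm.trans (congrArg e' hc)).trans (map_zero e')
          refine ⟨(e c).2 0, e.injective ((hη _).trans (Prod.ext (congrArg Prod.fst h0).symm
            (funext fun n => ?_)))⟩
          cases n with
          | zero => rfl
          | succ n => exact (congrFun (congrArg Prod.snd h0) n).symm
        · rintro ⟨x, rfl⟩
          exact congrArg (fun u : K ⟶ teleCx f K => u.f i x) (complη_w f K)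
      mono_f := (ModuleCat.mono_iff_injective _).2 fun (x : K.X i) (y : K.X i) hxy => by
        have := ((hη x).symm.trans (congrArg e hxy)).trans (hη y)
        exact congrFun (congrArg Prod.snd this) 0
      epi_g := (ModuleCat.epi_iff_surjective _).2 fun (d : (teleCx f K).X i) =>
        ⟨e.symm ((e' d).1, fun n => match n with | 0 => 0 | m + 1 => (e' d).2 m), e'.injective (by
          refine (hw _).trans ?_
          rw [e.apply_symm_apply]; rfl)⟩ }

end Groth.Agent.DCpl
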