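import Groth.Agent.Lib.DCpl.Module
import Mathlib.Algebra.Exact.Basic
import Mathlib.LinearAlgebra.Isomorphisms

/-!
The module maps behind derived completion at one element: on sequences `φ q n = q (n - 1) - f • q n`;
its kernel and cokernel are derived complete at `f`, while kernel and cokernel of the telescope have `f`
invertible.
-/

set_option autoImplicit false
set_option linter.unusedSectionVars false

universe u

namespace Groth.Agent.DCpl

variable {A : Type u} [CommRing A] {M : Type u} [AddCommGroup M] [Module A M]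
  {N : Type u} [AddCommGroup N] [Module A N]

variable (A M) in
/-- `q ↦ (0, q 0, q 1, …)`. -/
def shiftR : (ℕ → M) →ₗ[A] (ℕ → M) where
  toFun q n := match n with
    | 0 => 0
    | m + 1 => q m
  map_add' p q := funext fun n => by cases n <;> simp
  map_smul' c q := funext fun n => by cases n <;> simp

variable (A M) in
/-- `z ↦ (z, 0, 0, …)`. -/
def ins : M →ₗ[A] (ℕ → M) where
  toFun z n := match n with
    | 0 => z
    | _ + 1 => 0
  map_add' p q := funext fun n => by cases n <;> simp
  map_smul' c q := funext fun n => by cases n <;> simp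

variable (M) in
/-- Multiplication by `X - f` on sequences. -/
def phi (f : A) : (ℕ → M) →ₗ[A] (ℕ → M) := shiftR A M - f • LinearMap.id

theorem phi_zero (f : A) (q : ℕ → M) : phi M f q 0 = -(f • q 0) := zero_sub _

theorem phi_succ (f : A) (q : ℕ → M) (n : ℕ) : phi M f q (n + 1) = q n - f • q (n + 1) := rfl

theorem succ_phi (f : A) :
    (LinearMap.funLeft A M Nat.succ) ∘ₗ phi M f = tele M f := rfl

theorem succ_ins : (LinearMap.funLeft A M Nat.succ) ∘ₗ ins A M = 0 := rfl

theorem phi_natural (f : A) (u : M →ₗ[A] N) :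
    u.compLeft ℕ ∘ₗ phi M f = phi N f ∘ₗ u.compLeft ℕ := by
  refine LinearMap.ext fun q => funext fun n => ?_
  cases n <;> simp [phi, shiftR]

theorem tele_natural (f : A) (u : M →ₗ[A] N) :
    u.compLeft ℕ ∘ₗ tele M f = tele N f ∘ₗ u.compLeft ℕ := by
  refine LinearMap.ext fun q => funext fun n => ?_
  simp [tele_apply]

theorem ins_natural (u : M →ₗ[A] N) : u.compLeft ℕ ∘ₗ ins A M = ins A N ∘ₗ u := by
  refine LinearMap.ext fun q => funext fun n => ?_
  cases n <;> simp [ins]

/-- The diagonal sums `n ↦ ∑_{j ≤ n} a j (n - j)`. -/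
def diag : ℕ → (ℕ → ℕ → M) → M
  | 0, a => a 0 0
  | n + 1, a => a 0 (n + 1) + diag n fun j => a (j + 1)

theorem diag_phi (f : A) : ∀ (n : ℕ) (q : ℕ → ℕ → M),
    diag n (fun j => phi M f (q j)) = phi M f (fun m => diag m q) n
  | 0, q => by simp [diag, phi_zero]
  | n + 1, q => by
    rw [phi_succ, diag, diag_phi f n, phi_succ, diag]
    cases n with
    | zero => simp [diag, phi_zero, smul_add]; abel
    | succ n => simp [diag, phi_succ, smul_add]; abel

theorem dc_coker_phi (f : A) : DC ((ℕ → M) ⧸ LinearMap.range (phi M f)) f := by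
  let p := (LinearMap.range (phi M f)).mkQ
  have hX : ∀ b : ℕ → M, p (shiftR A M b) = f • p b := fun b => by
    rw [← map_smul, ← sub_eq_zero, ← map_sub]
    exact (Submodule.Quotient.mk_eq_zero _).2 ⟨b, rfl⟩
  refine ⟨(injective_iff_map_eq_zero (tele _ f)).2 fun x hx => ?_, fun y => ?_⟩
  · choose X hX' using fun i => Submodule.mkQ_surjective (LinearMap.range (phi M f)) (x i)
    have hz : ∀ i, ∃ w, phi M f w = X i - shiftR A M (X (i + 1)) := fun i => by
      refine LinearMap.mem_range.1 ((Submodule.Quotient.mk_eq_zero _).1 ?_)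
      change p (_ - _) = 0
      rw [map_sub, hX, hX', hX']
      exact congrFun hx i
    choose w hw using hz
    have key : ∀ n i, X i n = diag n fun j => phi M f (w (i + j)) := fun n => by
      induction n with
      | zero =>
        intro i
        simpa [diag, shiftR, eq_comm] using congrFun (hw i) 0
      | succ n ih =>
        intro i
        have h := congrFun (hw i) (n + 1)
        rw [diag, show (fun j => phi M f (w (i + (j + 1)))) = fun j => phi M f (w (i + 1 + j)) from
          funext fun j => by rw [Nat.add_right_comm, Nat.add_assoc], ← ih (i + 1)]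
        simp only [Nat.add_zero]
        rw [h]
        simp [shiftR]
    funext i
    rw [← hX' i]
    exact (Submodule.Quotient.mk_eq_zero _).2
      ⟨fun m => diag m fun j => w (i + j), funext fun n => by rw [key n i, diag_phi]⟩
  · choose Y hY using fun i => Submodule.mkQ_surjective (LinearMap.range (phi M f)) (y i)
    refine ⟨fun i => p fun n => diag n fun j => Y (i + j), funext fun i => ?_⟩
    rw [tele_apply, ← hX, ← map_sub, ← hY i]
    congr 1
    funext n
    cases n with
    | zero => simp [diag, shiftR]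
    | succ n =>
      simp only [Pi.sub_apply, diag, shiftR, LinearMap.coe_mk, AddHom.coe_mk, Nat.add_zero]
      rw [show (fun j => Y (i + (j + 1))) = fun j => Y (i + 1 + j) from
        funext fun j => by rw [Nat.add_right_comm, Nat.add_assoc], add_sub_cancel_right]

theorem dc_ker_phi (f : A) : DC (LinearMap.ker (phi M f)) f := by
  have hker : ∀ q : LinearMap.ker (phi M f), ∀ n, f ^ (n + 1) • q.1 n = 0 := fun q n => by
    induction n with
    | zero => simpa [phi_zero] using congrFun q.2 0
    | succ n ih =>
      have h := congrFun q.2 (n + 1)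
      rw [phi_succ, Pi.zero_apply, sub_eq_zero] at h
      rw [h, smul_smul, ← pow_succ] at ih
      exact ih
  refine ⟨(injective_iff_map_eq_zero (tele _ f)).2 fun x hx => ?_, fun y => ?_⟩
  · have h : ∀ k i, x i = f ^ k • x (i + k) := fun k => by
      induction k with
      | zero => simp
      | succ k ih =>
        intro i
        rw [ih i, (sub_eq_zero.1 (congrFun hx (i + k)) : x (i + k) = f • x (i + k + 1)), smul_smul,
          ← pow_succ, Nat.add_assoc]
    funext i
    refine Subtype.ext (funext fun n => ?_)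
    rw [h (n + 1) i]
    exact hker _ n
  · have hmem : ∀ i, (fun n => ∑ k ∈ Finset.range (n + 1), f ^ k • (y (i + k)).1 n) ∈
        LinearMap.ker (phi M f) := fun i => by
      refine LinearMap.mem_ker.2 (funext fun n => ?_)
      cases n with
      | zero =>
        rw [phi_zero]
        simpa [phi_zero] using congrFun (y i).2 0
      | succ n =>
        rw [phi_succ, Pi.zero_apply, sub_eq_zero, Finset.smul_sum, Finset.sum_range_succ _ (n + 1),
          smul_smul, ← pow_succ', hker _ (n + 1), add_zero]
        refine Finset.sum_congr rfl fun k _ => ?_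
        have h := congrFun (y (i + k)).2 (n + 1)
        rw [phi_succ, Pi.zero_apply, sub_eq_zero] at h
        rw [h, smul_comm]
    refine ⟨fun i => ⟨_, hmem i⟩, funext fun i => Subtype.ext (funext fun n => ?_)⟩
    rw [tele_apply, Submodule.coe_sub, Submodule.coe_smul, Pi.sub_apply, Pi.smul_apply]
    simp only [Finset.smul_sum, smul_smul, ← pow_succ']
    rw [Finset.sum_range_succ' _ n, Finset.sum_range_succ _ n, hker _ n]
    simp [Nat.add_assoc, Nat.add_comm 1]

variable (M) in
/-- `f` acts bijectively. -/
def FInv (f : A) : Prop := Function.Bijective fun x : M => f • x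

theorem FInv.of_linearEquiv {f : A} (h : FInv M f) (e : M ≃ₗ[A] N) : FInv N f := by
  have : (fun x : N => f • x) = e ∘ (fun x : M => f • x) ∘ e.symm := funext fun x => by simp
  rw [FInv, this]
  exact e.bijective.comp (h.comp e.symm.bijective)

theorem FInv.extension {f : A} (P : Submodule A M) (h₁ : FInv P f) (h₃ : FInv (M ⧸ P) f) :
    FInv M f := by
  refine ⟨fun x y hxy => ?_, fun z => ?_⟩
  · have hm : x - y ∈ P := (Submodule.Quotient.eq P).1 (h₃.1 (congrArg P.mkQ hxy :))
    have : (⟨x - y, hm⟩ : P) = 0 := h₁.1 (Subtype.ext (by simpa [smul_sub, sub_eq_zero] using hxy))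
    simpa [sub_eq_zero] using congrArg Subtype.val this
  · obtain ⟨a, ha⟩ := h₃.2 (P.mkQ z)
    obtain ⟨a, rfl⟩ := P.mkQ_surjective a
    have hm : z - f • a ∈ P := (Submodule.Quotient.eq P).1 ha.symm
    obtain ⟨b, hb⟩ := h₁.2 ⟨_, hm⟩
    have : f • (b : M) = z - f • a := congrArg Subtype.val hb
    exact ⟨a + b, by simp [this]⟩

theorem finv_coker_tele (f : A) : FInv ((ℕ → M) ⧸ LinearMap.range (tele M f)) f := by
  let p := (LinearMap.range (tele M f)).mkQ
  have hs : ∀ q : ℕ → M, f • p (LinearMap.funLeft A M Nat.succ q) = p q := fun q => by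
    rw [← map_smul, eq_comm, ← sub_eq_zero, ← map_sub]
    exact (Submodule.Quotient.mk_eq_zero _).2 ⟨q, rfl⟩
  refine ⟨fun x y hxy => ?_, fun z => ?_⟩
  · obtain ⟨x, rfl⟩ := Submodule.mkQ_surjective _ x
    obtain ⟨y, rfl⟩ := Submodule.mkQ_surjective _ y
    have hxy' : p (f • x) = p (f • y) := by rw [map_smul, map_smul]; exact hxy
    obtain ⟨w, hw⟩ := (Submodule.Quotient.eq _).1 hxy'
    change p x = p y
    rw [← hs x, ← hs y, ← map_smul p, ← map_smul p, ← sub_eq_zero, ← map_sub p]
    refine (Submodule.Quotient.mk_eq_zero _).2 ⟨LinearMap.funLeft A M Nat.succ w, funext fun n => ?_⟩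
    exact congrFun hw (n + 1)
  · obtain ⟨z, rfl⟩ := Submodule.mkQ_surjective _ z
    exact ⟨p (LinearMap.funLeft A M Nat.succ z), hs z⟩

theorem finv_ker_tele (f : A) : FInv (LinearMap.ker (tele M f)) f := by
  have hq : ∀ q : LinearMap.ker (tele M f), ∀ n, q.1 n = f • q.1 (n + 1) := fun q n =>
    sub_eq_zero.1 (congrFun q.2 n)
  refine ⟨fun x y hxy => Subtype.ext (funext fun n => ?_), fun z => ?_⟩
  · rw [hq x n, hq y n]
    exact congrFun (congrArg Subtype.val hxy) (n + 1)
  · exact ⟨⟨fun n => z.1 (n + 1), LinearMap.mem_ker.2 (funext fun n => congrFun z.2 (n + 1))⟩,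
      Subtype.ext (funext fun n => (hq z n).symm)⟩

/-- A class stable under isomorphisms and extensions contains the middle of a five term exact
sequence as soon as it contains the outer cokernel and kernel. -/
theorem middle_of_exact (P : ∀ (M : Type u) [AddCommGroup M] [Module A M], Prop)
    (hiso : ∀ {M N : Type u} [AddCommGroup M] [Module A M] [AddCommGroup N] [Module A N],
      (M ≃ₗ[A] N) → P M → P N)
    (hext : ∀ {M : Type u} [AddCommGroup M] [Module A M] (S : Submodule A M), P S → P (M ⧸ S) → P M)
    {M₁ M₂ M₃ M₄ M₅ : Type u} [AddCommGroup M₁] [Module A M₁] [AddCommGroup M₂] [Module A M₂]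
    [AddCommGroup M₃] [Module A M₃] [AddCommGroup M₄] [Module A M₄] [AddCommGroup M₅] [Module A M₅]
    (a : M₁ →ₗ[A] M₂) (b : M₂ →ₗ[A] M₃) (c : M₃ →ₗ[A] M₄) (d : M₄ →ₗ[A] M₅)
    (hab : Function.Exact a b) (hbc : Function.Exact b c) (hcd : Function.Exact c d)
    (h₁ : P (M₂ ⧸ LinearMap.range a)) (h₂ : P (LinearMap.ker d)) : P M₃ :=
  hext (LinearMap.range b)
    (hiso ((Submodule.quotEquivOfEq _ _ (LinearMap.exact_iff.1 hab).symm).trans b.quotKerEquivRange) h₁)
    (hiso (((LinearEquiv.ofEq _ _ (LinearMap.exact_iff.1 hcd)).trans c.quotKerEquivRange.symm).trans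
      (Submodule.quotEquivOfEq _ _ (LinearMap.exact_iff.1 hbc))) h₂)

end Groth.Agent.DCpl
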