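import Groth.Agent.Lib.DBaseChange.TorAmp
import Groth.Agent.Lib.DBaseChange.Adj
import Groth.Agent.Lib.DMod.Amplitude

/-!
Maps to modules killed by `I` out of `K` are controlled by `K ⊗^L A/I`.
-/

set_option autoImplicit false
set_option linter.unusedSectionVars false

universe u

open CategoryTheory CategoryTheory.Limits MonoidalCategory

attribute [local instance] HasDerivedCategory.standard

namespace Groth.Agent.DCpl

variable {A : Type u} [CommRing A] (I : Ideal A)

/-- `X ⊗ A/I ≃ A/I ⊗ X`, restricted. -/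
noncomputable def quotEquiv (X : ModuleCat.{u} A) : TensorProduct A X (A ⧸ I) ≃ₗ[A]
    ((ModuleCat.restrictScalars.{u} (Ideal.Quotient.mk I)).obj
        ((ModuleCat.extendScalars.{u, u, u} (Ideal.Quotient.mk I)).obj X) : ModuleCat.{u} A) where
  toFun z := TensorProduct.comm A X (A ⧸ I) z
  invFun z := (TensorProduct.comm A X (A ⧸ I)).symm z
  left_inv z := (TensorProduct.comm A X (A ⧸ I)).symm_apply_apply z
  right_inv z := (TensorProduct.comm A X (A ⧸ I)).apply_symm_apply z
  map_add' z w := map_add (TensorProduct.comm A X (A ⧸ I)) z w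
  map_smul' a z := by
    change TensorProduct.comm A X (A ⧸ I) (a • z) =
      (algebraMap A (A ⧸ I) a) • (TensorProduct.comm A X (A ⧸ I) z : TensorProduct A (A ⧸ I) X)
    rw [map_smul, algebraMap_smul]

/-- Tensoring with `A/I` is extension followed by restriction of scalars. -/
noncomputable def tensorQuotIso : tensorRight (ModuleCat.of A (A ⧸ I)) ≅
    ModuleCat.extendScalars.{u, u, u} (Ideal.Quotient.mk I) ⋙
      ModuleCat.restrictScalars.{u} (Ideal.Quotient.mk I) :=
  NatIso.ofComponents (fun X => (quotEquiv I X).toModuleIso)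
    fun {X Y} g => ModuleCat.MonoidalCategory.tensor_ext fun x r => rfl

variable [DRing.HasLTensor A (ModuleCat.of A (A ⧸ I))]

theorem isLE_lTensor (K : Dual.D A) (b : ℤ) [K.IsLE b] :
    ((DRing.LTensor A (ModuleCat.of A (A ⧸ I))).obj K).IsLE b := by
  obtain ⟨P, hP, hfree, ⟨e⟩⟩ := DMod.exists_free_resolution K b
  obtain ⟨t⟩ := DBaseChange.nonempty_lTensor_iso (ModuleCat.of A (A ⧸ I)) P
    (DBaseChange.adapted_of_flat P b (DBaseChange.flat_of_free hfree))
  have : ((DBaseChange.tm (ModuleCat.of A (A ⧸ I))).obj P).IsStrictlyLE b := by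
    rw [CochainComplex.isStrictlyLE_iff]
    exact fun i hi => Functor.map_isZero (tensorRight _) (P.isZero_of_isStrictlyLE b i hi)
  have : (DRing.toD ((DBaseChange.tm (ModuleCat.of A (A ⧸ I))).obj P)).IsLE b :=
    inferInstanceAs ((DerivedCategory.Q.obj _).IsLE b)
  exact DMod.exists_iso_of_isLE _ b (t.symm ≪≫ (DRing.LTensor A _).mapIso e)

theorem subsingleton_hom_restrict (K : Dual.D A) (b : ℤ)
    (hK : ((DRing.LTensor A (ModuleCat.of A (A ⧸ I))).obj K).IsLE b)
    (N : ModuleCat.{u} (A ⧸ I)) (i : ℤ) (hi : b < i) :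
    Subsingleton (K ⟶ (DMod.single i).obj
      ((ModuleCat.restrictScalars.{u} (Ideal.Quotient.mk I)).obj N)) := by
  let φ := Ideal.Quotient.mk I
  let F := ModuleCat.restrictScalars.{u} φ
  have : (DerivedCategory.Q : DRing.Cx A ⥤ Dual.D A).EssSurj :=
    Localization.essSurj _ (HomologicalComplex.quasiIso (ModuleCat.{u} A) (ComplexShape.up ℤ))
  let G := (DerivedCategory.Q : DRing.Cx A ⥤ Dual.D A).objPreimage K
  let P := (KFlat.DT.res A).obj G
  have hP : DBaseChange.Adapted P := DBaseChange.adapted_res G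
  have : QuasiIso ((KFlat.DT.aug A).app G) := KFlat.DT.qis_aug G
  let eK : DRing.toD P ≅ K := asIso (DerivedCategory.Q.map ((KFlat.DT.aug A).app G)) ≪≫
    (DerivedCategory.Q : DRing.Cx A ⥤ Dual.D A).objObjPreimageIso K
  obtain ⟨t⟩ := DBaseChange.nonempty_lTensor_iso (ModuleCat.of A (A ⧸ I)) P hP
  let X := (DBaseChange.extCx φ).obj P
  have : (DRing.toD ((DBaseChange.tm (ModuleCat.of A (A ⧸ I))).obj P)).IsLE b :=
    DMod.exists_iso_of_isLE _ b ((DRing.LTensor A _).mapIso eK.symm ≪≫ t)
  have hX : (DRing.toD X).IsLE b := (DMod.isLE_iff _ b).2 fun j hj => by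
    have : Subsingleton ((DMod.HH j).obj (DRing.toD ((DBaseChange.tm (ModuleCat.of A (A ⧸ I))).obj P))) :=
      (DMod.isLE_iff _ b).1 ‹_› j hj
    let e : ((DBaseChange.tm (ModuleCat.of A (A ⧸ I))).obj P).homology j ≅ F.obj (X.homology j) :=
      (HomologicalComplex.homologyFunctor _ _ j).mapIso
        ((NatIso.mapHomologicalComplex (tensorQuotIso I) (ComplexShape.up ℤ)).app P) ≪≫
        (X.sc j).mapHomologyIso F
    have : Subsingleton (F.obj (X.homology j)) :=
      @Equiv.subsingleton _ ((DMod.HH j).obj (DRing.toD ((DBaseChange.tm (ModuleCat.of A (A ⧸ I))).obj P)))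
        (((DerivedCategory.homologyFunctorFactors (ModuleCat.{u} A) j).app
          ((DBaseChange.tm (ModuleCat.of A (A ⧸ I))).obj P)) ≪≫ e).toLinearEquiv.symm.toEquiv ‹_›
    refine @Equiv.subsingleton _ _
      ((DerivedCategory.homologyFunctorFactors (ModuleCat.{u} (A ⧸ I)) j).app X).toLinearEquiv.toEquiv
      ?_
    exact this
  obtain ⟨L, α, adj, hα, -⟩ := KFlat.DT.exists_derived_extCx φ
  have hL : DRing.IsKFlat A P := (KFlat.Module.isKFlat_iff _).1 hP.1
  have := hα P hL
  let e₁ : L.obj K ≅ DRing.toD X := L.mapIso eK.symm ≪≫ asIso (α.app P)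
  have : (L.obj K).IsLE b := DMod.exists_iso_of_isLE _ b e₁.symm
  have : ((DMod.single i).obj N).IsGE i :=
    inferInstanceAs (((DerivedCategory.singleFunctor (ModuleCat.{u} (A ⧸ I)) i).obj N).IsGE i)
  have h0 : Subsingleton (L.obj K ⟶ (DMod.single i).obj N) :=
    subsingleton_of_forall_eq 0 fun x =>
      (DMod.tS (A ⧸ I)).zero_of_isLE_of_isGE x b i hi inferInstance inferInstance
  have h1 : Subsingleton (K ⟶ (DRing.restrictD φ).obj ((DMod.single i).obj N)) :=
    (adj.homEquiv _ _).symm.subsingleton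
  let c : (DRing.restrictD φ).obj ((DMod.single i).obj N) ≅ (DMod.single i).obj (F.obj N) :=
    (DRing.restrictD φ).mapIso
        ((DerivedCategory.singleFunctorIsoCompQ (ModuleCat.{u} (A ⧸ I)) i).app N) ≪≫
      F.mapDerivedCategoryFactors.app _ ≪≫
      DerivedCategory.Q.mapIso
        ((HomologicalComplex.singleMapHomologicalComplex F (ComplexShape.up ℤ) i).app N) ≪≫
      ((DerivedCategory.singleFunctorIsoCompQ (ModuleCat.{u} A) i).app (F.obj N)).symm
  exact (Iso.homCongr (Iso.refl K) c).symm.subsingleton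

end Groth.Agent.DCpl
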